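import Groth.Agent.QCoh.Bound
import Groth.Agent.AmpleVan.FinGen
import Groth.Agent.InvX.GenEpi
import Groth.Agent.KFlatLib.Scheme.Pullback
import Groth.Agent.CurveCohLib.GlobGen
import Groth.Prelude.Def_Curv2

/-!
# First cohomology on a union of two affine opens
-/

set_option linter.style.haveILetI false
set_option backward.isDefEq.respectTransparency false
set_option backward.isDefEq.respectTransparency.types false

universe u

open CategoryTheory CategoryTheory.Limits AlgebraicGeometry TopologicalSpace Opposite Abelian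

namespace Groth.Agent.ResolveX

theorem huZero_res {X : TopCat.{u}} (F : CohTop.Ab X) {U V : Opens X} (f : V ⟶ U)
    (x : CohTop.HU F 0 U) :
    SiteBase.huZero F V ((F.cohomologyPresheaf 0).map f.op x) = F.obj.map f.op (SiteBase.huZero F U x) := by
  obtain ⟨φ, rfl⟩ := (Ext.mk₀_bijective (CohCx.freeSheaf _ U) F).2 x
  have h : (F.cohomologyPresheaf 0).map f.op (Ext.mk₀ φ) =
      (Ext.mk₀ (CohCx.freeSheafMap _ f)).comp (Ext.mk₀ φ) (zero_add 0) := rfl
  erw [h, Ext.mk₀_comp_mk₀, SiteBase.huZero_mk₀, SiteBase.huZero_mk₀, SiteBase.secEquiv_freeSheafMap]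

/-- `H¹` of a union vanishes if every section on the overlap splits. -/
theorem subsingleton_HU_one_sup {X : TopCat.{u}} (F : CohTop.Ab X) (U V : Opens X)
    (h₁ : Subsingleton (CohTop.HU F 1 U)) (h₂ : Subsingleton (CohTop.HU F 1 V))
    (h : ∀ s : F.obj.obj (op (U ⊓ V)), ∃ a b,
      s = F.obj.map (homOfLE inf_le_left).op a - F.obj.map (homOfLE inf_le_right).op b) :
    Subsingleton (CohTop.HU F 1 (U ⊔ V)) := by
  let S := Opens.mayerVietorisSquare U V
  have hex := (S.sequence_exact F 0 1 rfl).exact 2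
  rw [ShortComplex.ab_exact_iff] at hex
  refine subsingleton_of_forall_eq 0 fun x => ?_
  have hsub : Subsingleton (F.H' 1 S.X₂ ⊞ F.H' 1 S.X₃ : AddCommGrpCat.{u}) :=
    have : Subsingleton ((F.H' 1 S.X₂ : AddCommGrpCat.{u}) × (F.H' 1 S.X₃ : AddCommGrpCat.{u})) :=
      ⟨fun a b => Prod.ext (h₁.elim _ _) (h₂.elim _ _)⟩
    (AddCommGrpCat.biprodIsoProd _ _).addCommGroupIsoToAddEquiv.toEquiv.subsingleton
  obtain ⟨y, hy⟩ := hex x (hsub.elim _ _)
  obtain ⟨a, b, hab⟩ := h (SiteBase.huZero F (U ⊓ V) y)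
  let y₂ : F.H' 0 S.X₂ := (SiteBase.huZero F U).symm a
  let y₃ : F.H' 0 S.X₃ := (SiteBase.huZero F V).symm b
  have he : y = S.fromBiprod F 0 ((AddCommGrpCat.biprodIsoProd _ _).inv ⟨y₂, y₃⟩) := by
    apply (SiteBase.huZero F (U ⊓ V)).injective
    rw [S.fromBiprod_biprodIsoProd_inv_apply]
    refine hab.trans ?_
    refine Eq.trans ?_ (map_sub (SiteBase.huZero F (U ⊓ V)) _ _).symm
    congr 1
    · refine Eq.trans ?_ (huZero_res F (homOfLE inf_le_left) y₂).symm
      exact congrArg _ ((SiteBase.huZero F U).apply_symm_apply a).symm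
    · refine Eq.trans ?_ (huZero_res F (homOfLE inf_le_right) y₃).symm
      exact congrArg _ ((SiteBase.huZero F V).apply_symm_apply b).symm
  rw [← hy, he]
  exact ConcreteCategory.congr_hom (S.fromBiprod_δ F 0 1 rfl) ((AddCommGrpCat.biprodIsoProd _ _).inv ⟨y₂, y₃⟩)

variable {X : Scheme.{u}}

/-- Globally generated modules have generating global sections. -/
theorem exists_generatedBy {F : X.Modules} (h : Curv2.IsGloballyGenerated F) :
    ∃ (ι : Type u) (s : ι → Γ(F, ⊤)), ProjUP.GeneratedBy F s := by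
  obtain ⟨ι, p, hp⟩ := h
  let j : ι → (Coh.structureModule X ⟶ SheafOfModules.free ι) := fun i => SheafOfModules.ιFree i
  refine ⟨ι, fun i => InvX.one (j i ≫ p), fun x => ?_⟩
  let S := DerSch.stalkFunctor X x
  set N := Submodule.span (X.presheaf.stalk x)
    (Set.range fun i => (F.presheaf.germ ⊤ x trivial).hom (InvX.one (j i ≫ p))) with hN
  let q : S.obj F ⟶ ModuleCat.of (X.presheaf.stalk x) ((S.obj F) ⧸ (show Submodule _ (S.obj F) from N)) :=
    ModuleCat.ofHom (Submodule.mkQ _)
  have hz : S.map p ≫ q = 0 := by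
    refine (isColimitOfPreserves S (coproductIsCoproduct fun _ : ι => SheafOfModules.unit X.ringCatSheaf)).hom_ext
      fun ⟨i⟩ => ?_
    rw [Limits.comp_zero]
    show S.map (j i) ≫ S.map p ≫ q = 0
    rw [← Category.assoc, ← S.map_comp]
    refine ModuleCat.hom_ext (LinearMap.ext fun z => ?_)
    obtain ⟨a, rfl⟩ := CurveCohLib.GlobGen.exists_smul_one x z
    rw [map_smul, map_smul]
    refine congrArg (fun w => a • w) ?_
    show Submodule.mkQ _ _ = (0 : _)
    rw [Submodule.mkQ_apply, Submodule.Quotient.mk_eq_zero]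
    refine Submodule.subset_span ⟨i, ?_⟩
    exact (KFlatLib.stalkModMap_germ (DCoh.toP.map (j i ≫ p)) ⊤ trivial _).symm
  haveI : Epi (S.map p) := inferInstance
  have hq : q = 0 := (cancel_epi (S.map p)).1 (hz.trans Limits.comp_zero.symm)
  refine eq_top_iff.2 fun z _ => ?_
  exact (Submodule.Quotient.mk_eq_zero _).1 (LinearMap.congr_fun (congrArg ModuleCat.Hom.hom hq) z)

/-- `H^p`, `p ≥ 2`, vanishes on a separated union of two affines. -/
theorem subsingleton_HH_two_affines [X.IsSeparated] (U V : X.Opens) (hU : IsAffineOpen U)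
    (hV : IsAffineOpen V) (hcov : U ⊔ V = ⊤) {F : X.Modules} (hF : Coh.IsQCoh F) (p : ℕ) :
    Subsingleton (Coh.HH X F (p + 2)) := by
  refine QCoh.Ab.subsingleton_H_of_HU_top (X := X.toPresheafedSpace.carrier) (Coh.toAb F) (p + 2) ?_
  rw [← hcov]
  exact QCoh.Ab.subsingleton_HU_sup _ U V (p + 1) (QCoh.subsingleton_HU_of_isAffineOpen hF hU _)
    (QCoh.subsingleton_HU_of_isAffineOpen hF hV _)
    (QCoh.subsingleton_HU_of_isAffineOpen hF (hU.inf hV) p)

/-- `H¹` of a globally generated module vanishes when functions on the overlap split. -/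
theorem subsingleton_HH_one_of_gg [X.IsSeparated] (U V : X.Opens) (hU : IsAffineOpen U)
    (hV : IsAffineOpen V) (hcov : U ⊔ V = ⊤)
    (hsplit : ∀ r : Γ(X, U ⊓ V), ∃ (a : Γ(X, U)) (b : Γ(X, V)),
      r = X.presheaf.map (homOfLE inf_le_left).op a + X.presheaf.map (homOfLE inf_le_right).op b)
    {F : X.Modules} (hF : Coh.IsQCoh F) (hgg : Curv2.IsGloballyGenerated F) :
    Subsingleton (Coh.HH X F 1) := by
  refine QCoh.Ab.subsingleton_H_of_HU_top (X := X.toPresheafedSpace.carrier) (Coh.toAb F) 1 ?_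
  rw [← hcov]
  refine subsingleton_HU_one_sup _ U V (QCoh.subsingleton_HU_of_isAffineOpen hF hU 0)
    (QCoh.subsingleton_HU_of_isAffineOpen hF hV 0) ?_
  obtain ⟨ι, s, hs⟩ := exists_generatedBy hgg
  let W := U ⊓ V
  have hspan := AmpleVan.span_eq_top_of_germs hF (hU.inf hV)
    (fun i => AModX.res F (le_top : W ≤ ⊤) (s i)) fun x hx => by
      refine Eq.trans ?_ (hs x)
      congr 2
      funext i
      exact InvX.germ_res' le_top hx (s i)
  have key : ∀ m : Γ(F, W), ∀ r : Γ(X, W), ∃ a b,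
      r • m = AModX.res F (inf_le_left : W ≤ U) a - AModX.res F (inf_le_right : W ≤ V) b := by
    intro m
    have hm : m ∈ Submodule.span Γ(X, W) (Set.range fun i => AModX.res F (le_top : W ≤ ⊤) (s i)) := by
      rw [hspan]; trivial
    induction hm using Submodule.span_induction with
    | mem z hz =>
      obtain ⟨i, rfl⟩ := hz
      intro r
      obtain ⟨a, b, hr⟩ := hsplit r
      refine ⟨a • AModX.res F (le_top : U ≤ ⊤) (s i), -(b • AModX.res F (le_top : V ≤ ⊤) (s i)), ?_⟩
      rw [map_neg, sub_neg_eq_add, hr, add_smul, AModX.res_smul, AModX.res_smul, AModX.res_res, AModX.res_res]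
      rfl
    | zero => intro r; exact ⟨0, 0, by rw [smul_zero, map_zero, map_zero, sub_zero]⟩
    | add y z _ _ hy hz =>
      intro r
      obtain ⟨a, b, h⟩ := hy r
      obtain ⟨a', b', h'⟩ := hz r
      exact ⟨a + a', b + b', by rw [smul_add, h, h', map_add, map_add]; abel⟩
    | smul c z _ hz => intro r; rw [← mul_smul]; exact hz _
  intro m
  obtain ⟨a, b, h⟩ := key m 1
  exact ⟨a, b, (one_smul Γ(X, W) (show Γ(F, W) from m)).symm.trans h⟩

end Groth.Agent.ResolveX
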