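import Groth.Agent.ResolveX.BlowPoint
import Groth.Agent.ParaFX.Ufd
import Groth.Agent.InvX.Tensor
import Groth.Agent.DivX.MeroMod
import Groth.Agent.InvX.Pullback
import Groth.Agent.S2821

/-!
# Functions and invertible modules under the blow-up of a regular point
-/

set_option autoImplicit false
set_option linter.style.haveILetI false
set_option linter.unusedSectionVars false
set_option backward.isDefEq.respectTransparency false
set_option backward.isDefEq.respectTransparency.types false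
set_option maxHeartbeats 1000000

universe u

open CategoryTheory CategoryTheory.Limits AlgebraicGeometry TopologicalSpace
open Groth.Agent.BlowUpLib

attribute [local instance 2000] CategoryTheory.CategoryStruct.toQuiver

noncomputable section

namespace Groth.Agent.ResolveX

open Groth.Agent

/-- An isomorphism over an open gives bijections on functions below it. -/
theorem bijective_app_of_isIso_restrict {X Y : Scheme.{u}} (f : X ⟶ Y) (U : Y.Opens) [IsIso (f ∣_ U)]
    {V : Y.Opens} (hV : V ≤ U) : Function.Bijective (f.app V) := by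
  have h := morphismRestrict_app f U (U.ι ⁻¹ᵁ V)
  have hVim : U.ι ''ᵁ (U.ι ⁻¹ᵁ V) = V := by
    rw [Scheme.Hom.image_preimage_eq_opensRange_inf, Scheme.Opens.opensRange_ι]
    exact inf_eq_right.mpr hV
  have hb := ConcreteCategory.bijective_of_isIso ((f ∣_ U).app (U.ι ⁻¹ᵁ V))
  rw [h] at hb
  have hb' : Function.Bijective (f.app (U.ι ''ᵁ (U.ι ⁻¹ᵁ V))) :=
    (Function.Bijective.of_comp_iff' (ConcreteCategory.bijective_of_isIso
      (X.presheaf.map (eqToHom (image_morphismRestrict_preimage f U (U.ι ⁻¹ᵁ V))).op)) _).1 hb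
  rwa [hVim] at hb'

variable {Y X : Scheme.{u}} [IsLocallyNoetherian Y] (y : Y) (hy : IsClosed ({y} : Set Y))
  [IsRegularLocalRing (Y.presheaf.stalk y)] {b : X ⟶ Y}

/-- The complement of the point. -/
abbrev off : Y.Opens := ⟨{y}ᶜ, hy.isOpen_compl⟩

variable (hdim : ringKrullDim (Y.presheaf.stalk y) = 2)
  (hb : BlowUp.IsBlowUp b (Scheme.IdealSheafData.vanishingIdeal ⟨{y}, hy⟩))

include hb in
theorem isIso_off : IsIso (b ∣_ off y hy) :=
  BlowUpLib.isIso_restrict hb (off y hy) fun p hp => by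
    show p ∉ ((Scheme.IdealSheafData.vanishingIdeal ⟨{y}, hy⟩).support : Set Y)
    rw [Scheme.IdealSheafData.coe_support_vanishingIdeal]
    exact hp

include hb in
theorem injective_off {z z' : X} (hz : b z ≠ y) (h : b z = b z') : z = z' := by
  haveI := isIso_off y hy hb
  have hz' : b z' ≠ y := h ▸ hz
  have h' := (b ∣_ off y hy).homeomorph.injective (a₁ := ⟨z, hz⟩) (a₂ := ⟨z', hz'⟩) (Subtype.ext
    ((morphismRestrict_base_coe b (off y hy) ⟨z, hz⟩).trans (h.trans (morphismRestrict_base_coe b (off y hy) ⟨z', hz'⟩).symm)))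
  exact congrArg Subtype.val h'

include hdim hb in
theorem surjective_point : Function.Surjective b := fun p => by
  by_cases hp : p = y
  · obtain ⟨e, he, -⟩ := exists_projLine_exceptional_point y hy hdim hb
    haveI : IsIntegral (CohB1.ProjSpace 1 (Y.residueField y)) := H23.PnChart.isIntegral_projSpace 1 _
    let z := genericPoint (CohB1.ProjSpace 1 (Y.residueField y))
    refine ⟨((Scheme.IdealSheafData.vanishingIdeal ⟨{y}, hy⟩).comap b).subschemeι (e.hom z), ?_⟩
    have h : ((Scheme.IdealSheafData.vanishingIdeal ⟨{y}, hy⟩).comap b).subschemeι (e.hom z) ∈ b ⁻¹' {y} := by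
      rw [← support_exceptional_point y hy, ← Scheme.IdealSheafData.range_subschemeι]
      exact ⟨_, rfl⟩
    exact h.trans hp.symm
  · haveI := isIso_off y hy hb
    obtain ⟨z, hz⟩ := (b ∣_ off y hy).homeomorph.surjective ⟨p, hp⟩
    exact ⟨z.1, (morphismRestrict_base_coe b (off y hy) z).symm.trans (congrArg Subtype.val hz)⟩

/-- An open away from the exceptional set is an inverse image. -/
theorem exists_preimage_eq (hb : BlowUp.IsBlowUp b (Scheme.IdealSheafData.vanishingIdeal ⟨{y}, hy⟩))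
    (W : X.Opens) (hW : W ≤ b ⁻¹ᵁ off y hy) : ∃ V : Y.Opens, V ≤ off y hy ∧ b ⁻¹ᵁ V = W := by
  haveI := isIso_off y hy hb
  let U := off y hy
  refine ⟨U.ι ''ᵁ ((b ∣_ U) ''ᵁ ((b ⁻¹ᵁ U).ι ⁻¹ᵁ W)), U.ι_image_le _, ?_⟩
  refine Opens.ext (Set.ext fun z => ⟨?_, fun hz => ?_⟩)
  · rintro ⟨p, ⟨⟨w, hwU⟩, hw, rfl⟩, hp⟩
    have h1 : b w = b z := (morphismRestrict_base_coe b U ⟨w, hwU⟩).symm.trans hp
    exact (injective_off y hy hb hwU h1) ▸ hw
  · exact ⟨(b ∣_ U) ⟨z, hW hz⟩, ⟨⟨z, hW hz⟩, hz, rfl⟩, morphismRestrict_base_coe b U ⟨z, hW hz⟩⟩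

include hdim hb in
/-- Functions on the blow-up are functions on the base. -/
theorem bijective_app (U : Y.Opens) : Function.Bijective (b.app U) := by
  haveI := isIso_off y hy hb
  haveI := RegLoc6.isDomain_of_isRegularLocalRing (Y.presheaf.stalk y)
  haveI : UniqueFactorizationMonoid (Y.presheaf.stalk y) := (S2821.result _).2
  have hH := Hartogs.restrict_bijective (off y hy) (fun p hp => by
    obtain rfl : p = y := not_not.1 hp
    exact ParaFX.two_le_depth_of_normal _ hdim.ge) U
  have h1 := bijective_app_of_isIso_restrict b (off y hy) (inf_le_right : U ⊓ off y hy ≤ off y hy)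
  let r := X.presheaf.map (homOfLE (show b ⁻¹ᵁ (U ⊓ off y hy) ≤ b ⁻¹ᵁ U from fun z hz => hz.1)).op
  have hr : Function.Injective r := fun s t hst => by
    let G := ModPair.interior ((Scheme.IdealSheafData.vanishingIdeal ⟨{y}, hy⟩).comap b)
    haveI := ModPairLib.isSchemeTheoreticallyDominant_interior hb.1
    haveI : IsAffineHom G.ι := ModPairLib.isAffineHom_interior (ModPairLib.isLocPrincipal_of_isEffCartier hb.1)
    refine G.ι.app_injective (b ⁻¹ᵁ U) ?_
    rw [Scheme.Opens.ι_app]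
    have hle : G.ι ''ᵁ G.ι ⁻¹ᵁ (b ⁻¹ᵁ U) ≤ b ⁻¹ᵁ (U ⊓ off y hy) := by
      rintro _ ⟨w, hw, rfl⟩
      refine ⟨hw, fun hbw => ?_⟩
      have h2 : G.ι w ∈ (G : Set X) := w.2
      have h3 : G.ι w ∉ (((Scheme.IdealSheafData.vanishingIdeal ⟨{y}, hy⟩).comap b).support : Set X) := h2
      rw [support_exceptional_point y hy] at h3
      exact h3 hbw
    have h3 := congrArg (X.presheaf.map (homOfLE hle).op) hst
    change (r ≫ X.presheaf.map (homOfLE hle).op) s = (r ≫ X.presheaf.map (homOfLE hle).op) t at h3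
    rw [← X.presheaf.map_comp] at h3
    exact h3
  have hsq : (r : Γ(X, b ⁻¹ᵁ U) → _) ∘ (b.app U : Γ(Y, U) → _) =
      (b.app (U ⊓ off y hy) : _ → _) ∘ Y.presheaf.map (homOfLE (inf_le_left : U ⊓ off y hy ≤ U)).op :=
    funext fun s => (ConcreteCategory.congr_hom (b.naturality (homOfLE (inf_le_left : U ⊓ off y hy ≤ U)).op) s).symm
  have hcomp : Function.Bijective ((r : Γ(X, b ⁻¹ᵁ U) → _) ∘ (b.app U : Γ(Y, U) → _)) := hsq ▸ h1.comp hH
  exact ⟨hcomp.1.of_comp, fun t => by
    obtain ⟨s, hs⟩ := hcomp.2 (r t)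
    exact ⟨s, hr hs⟩⟩

/-- A frame upstairs is a frame of the direct image. -/
theorem isFrame_push (hb' : ∀ U, Function.Bijective (b.app U)) {M : X.Modules} {V : Y.Opens}
    {e : Γ(M, b ⁻¹ᵁ V)} (he : InvX.IsFrame e) :
    InvX.IsFrame (M := (Scheme.Modules.pushforward b).obj M) (U := V) (show Γ((Scheme.Modules.pushforward b).obj M, V) from e) :=
  fun V' h => (he (b ⁻¹ᵁ V') fun z hz => h hz).comp (hb' V')

/-- A frame of the direct image away from the point is a frame upstairs. -/
theorem isFrame_of_push (hb : BlowUp.IsBlowUp b (Scheme.IdealSheafData.vanishingIdeal ⟨{y}, hy⟩))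
    {M : X.Modules} {V : Y.Opens} (hV : V ≤ off y hy)
    {e : Γ((Scheme.Modules.pushforward b).obj M, V)} (he : InvX.IsFrame e) :
    InvX.IsFrame (show Γ(M, b ⁻¹ᵁ V) from e) := by
  haveI := isIso_off y hy hb
  intro W hW
  obtain ⟨V', hV', rfl⟩ := exists_preimage_eq y hy hb W (hW.trans fun z hz => hV hz)
  have hle : V' ≤ V := fun p hp => by
    obtain ⟨z, hz⟩ := (b ∣_ off y hy).homeomorph.surjective ⟨p, hV' hp⟩
    have hbz : b z.1 = p := (morphismRestrict_base_coe b (off y hy) z).symm.trans (congrArg Subtype.val hz)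
    exact hbz ▸ hW (show z.1 ∈ b ⁻¹ᵁ V' from (show b z.1 ∈ V' from hbz.symm ▸ hp))
  exact (Function.Bijective.of_comp_iff _ (bijective_app_of_isIso_restrict b (off y hy) hV')).1 (he V' hle)

/-- The direct image has frames away from the point. -/
theorem exists_frame_push_off (hb : BlowUp.IsBlowUp b (Scheme.IdealSheafData.vanishingIdeal ⟨{y}, hy⟩))
    (hb' : ∀ U, Function.Bijective (b.app U)) {M : X.Modules} (hM : PicF.IsInvertible M) {p : Y}
    (hp : p ∈ off y hy) : ∃ V : Y.Opens, p ∈ V ∧ ∃ e : Γ((Scheme.Modules.pushforward b).obj M, V), InvX.IsFrame e := by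
  haveI := isIso_off y hy hb
  obtain ⟨z, hz⟩ := (b ∣_ off y hy).homeomorph.surjective ⟨p, hp⟩
  have hbz : b z.1 = p := (morphismRestrict_base_coe b (off y hy) z).symm.trans (congrArg Subtype.val hz)
  obtain ⟨U₀, hzU, e, he⟩ := InvX.exists_frame hM z.1
  obtain ⟨V, hV, hVU⟩ := exists_preimage_eq y hy hb (U₀ ⊓ b ⁻¹ᵁ off y hy) inf_le_right
  have hzV : z.1 ∈ b ⁻¹ᵁ V := by rw [hVU]; exact ⟨hzU, z.2⟩
  exact ⟨V, hbz ▸ hzV, _, isFrame_push hb' (he.res (show b ⁻¹ᵁ V ≤ U₀ from hVU.le.trans inf_le_left))⟩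

/-- Pullback and direct image are inverse on invertible modules with frames over inverse images. -/
theorem isIso_unit (hb' : ∀ U, Function.Bijective (b.app U)) {L : Y.Modules} (hL : PicF.IsInvertible L) :
    IsIso ((Scheme.Modules.pullbackPushforwardAdjunction b).unit.app L) := by
  refine DivX.isIso_of_frames _ fun p => ?_
  obtain ⟨U, hpU, e, he⟩ := InvX.exists_frame hL p
  exact ⟨U, hpU, e, he, isFrame_push hb' (InvX.isFrame_pullElt b he)⟩

theorem isIso_counit (hb' : ∀ U, Function.Bijective (b.app U)) {M : X.Modules}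
    (hM : ∀ z : X, ∃ V : Y.Opens, b z ∈ V ∧ ∃ e : Γ(M, b ⁻¹ᵁ V), InvX.IsFrame e) :
    IsIso ((Scheme.Modules.pullbackPushforwardAdjunction b).counit.app M) := by
  refine DivX.isIso_of_frames _ fun z => ?_
  obtain ⟨V, hzV, e, he⟩ := hM z
  let e' : Γ((Scheme.Modules.pushforward b).obj M, V) := e
  refine ⟨b ⁻¹ᵁ V, hzV, InvX.pullElt b e', InvX.isFrame_pullElt b (isFrame_push hb' he), ?_⟩
  have h := congr(($((Scheme.Modules.pullbackPushforwardAdjunction b).right_triangle_components M)).app V e')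
  have h' : ((Scheme.Modules.pullbackPushforwardAdjunction b).counit.app M).app (b ⁻¹ᵁ V) (InvX.pullElt b e') = e := h
  rw [h']
  exact he

end Groth.Agent.ResolveX
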