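import Groth.Agent.ResolveX.RegBlow
import Groth.Agent.RegLoc6.Basic
import Groth.Agent.S0564

/-!
# The blow-up of a two-dimensional regular local ring: assembly
-/

set_option linter.style.haveILetI false
set_option backward.isDefEq.respectTransparency false
set_option backward.isDefEq.respectTransparency.types false

universe u

open CategoryTheory CategoryTheory.Limits AlgebraicGeometry TopologicalSpace Opposite

namespace Groth.Agent.ResolveX

open BlowUpLib IsLocalRing

theorem exists_regular_pair (A : Type u) [CommRing A] [IsRegularLocalRing A] (hA : ringKrullDim A = 2) :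
    ∃ x y : maximalIdeal A, (x : A) ≠ 0 ∧ (y : A) ≠ 0 ∧ maximalIdeal A ≤ Ideal.span {(x : A), (y : A)} := by
  have h2 : Submodule.spanFinrank (maximalIdeal A) = 2 := by
    have h := IsRegularLocalRing.spanFinrank_maximalIdeal (R := A)
    rw [hA] at h
    exact_mod_cast h
  have hfg : (maximalIdeal A).FG := IsNoetherian.noetherian _
  have hcard := Submodule.FG.generators_ncard hfg
  rw [h2, Set.ncard_eq_two] at hcard
  obtain ⟨x, y, -, hs⟩ := hcard
  have hspan : Submodule.span A ({x, y} : Set A) = maximalIdeal A := by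
    rw [← hs]; exact Submodule.span_generators _
  have hone : ∀ z : A, maximalIdeal A ≠ Ideal.span {z} := fun z hz => by
    have h1 := Submodule.spanFinrank_span_le_ncard_of_finite (R := A) (Set.finite_singleton z)
    rw [Set.ncard_singleton] at h1
    have : Submodule.spanFinrank (maximalIdeal A) ≤ 1 := by rw [hz]; exact h1
    omega
  refine ⟨⟨x, hspan.le (Submodule.subset_span (Or.inl rfl))⟩, ⟨y, hspan.le (Submodule.subset_span (Or.inr rfl))⟩,
    fun hx => hone y ?_, fun hy => hone x ?_, hspan.ge⟩
  · rw [← hspan, show x = 0 from hx, Submodule.span_insert_zero]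
  · rw [← hspan, show y = 0 from hy, Set.pair_comm, Submodule.span_insert_zero]

variable (A : Type u) [CommRing A]

theorem regular_localBlowUp [IsRegularLocalRing A] (z : localBlowUp (maximalIdeal A)) :
    IsRegularLocalRing ((localBlowUp (maximalIdeal A)).presheaf.stalk z) := by
  letI : Field (A ⧸ maximalIdeal A) := Ideal.Quotient.field _
  haveI : IsClosedImmersion (Spec.map (CommRingCat.ofHom (Ideal.Quotient.mk (maximalIdeal A)))) :=
    IsClosedImmersion.spec_of_surjective _ Ideal.Quotient.mk_surjective
  refine BlowExc.regular_blowUp (Spec.map (CommRingCat.ofHom (Ideal.Quotient.mk (maximalIdeal A)))) (fun p => ?_)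
    (fun q => ?_) (toBase (maximalIdeal A)) ?_ z
  · haveI := S0564.result A p.asIdeal
    exact IsRegularLocalRing.of_ringEquiv
      (StructureSheaf.stalkIso A p).toRingEquiv
  · haveI : IsField (A ⧸ maximalIdeal A) := Field.toIsField _
    haveI : IsRegularLocalRing (Localization.AtPrime q.asIdeal) := S0564.result (A ⧸ maximalIdeal A) q.asIdeal
    exact IsRegularLocalRing.of_ringEquiv
      (StructureSheaf.stalkIso (A ⧸ maximalIdeal A) q).toRingEquiv
  · rw [BlowExc.ker_SpecMap_mk]
    exact isBlowUp_local (maximalIdeal A)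

theorem exists_iso_localBlowUp (I : Ideal A) {X : Scheme.{u}} (b : X ⟶ Spec (CommRingCat.of A))
    (hb : BlowUp.IsBlowUp b (Curv2.idealSheaf A I)) :
    ∃ e : X ⟶ localBlowUp I, IsIso e ∧ e ≫ toBase I = b := by
  obtain ⟨e, he⟩ := BlowUpLib.exists_iso hb (isBlowUp_local I)
  exact ⟨e.hom, inferInstance, he⟩

/-- Two affine charts with splitting overlap. -/
theorem exists_two_charts [IsRegularLocalRing A] (hA : ringKrullDim A = 2) :
    IrreducibleSpace (localBlowUp (maximalIdeal A)) ∧ (localBlowUp (maximalIdeal A)).IsSeparated ∧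
      ∃ U V : (localBlowUp (maximalIdeal A)).Opens, IsAffineOpen U ∧ IsAffineOpen V ∧ U ⊔ V = ⊤ ∧
        ∀ r : Γ(localBlowUp (maximalIdeal A), U ⊓ V), ∃ (a : Γ(localBlowUp (maximalIdeal A), U)) (b : Γ(localBlowUp (maximalIdeal A), V)),
          r = (localBlowUp (maximalIdeal A)).presheaf.map (homOfLE inf_le_left).op a +
            (localBlowUp (maximalIdeal A)).presheaf.map (homOfLE inf_le_right).op b := by
  haveI := RegLoc6.isDomain_of_isRegularLocalRing A
  obtain ⟨x, y, hx, hy, hm⟩ := exists_regular_pair A hA
  haveI hirr := irreducibleSpace_localBlowUp (maximalIdeal A) x y hx hy hm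
  haveI : IsReduced (localBlowUp (maximalIdeal A)) := by
    haveI : ∀ z : localBlowUp (maximalIdeal A), _root_.IsReduced ((localBlowUp (maximalIdeal A)).presheaf.stalk z) :=
      fun z => by
        haveI := regular_localBlowUp A z
        haveI := RegLoc6.isDomain_of_isRegularLocalRing ((localBlowUp (maximalIdeal A)).presheaf.stalk z)
        infer_instance
    exact isReduced_of_isReduced_stalk _
  haveI := isIntegral_of_irreducibleSpace_of_isReduced (localBlowUp (maximalIdeal A))
  haveI : IsProper (toBase (maximalIdeal A)) := isProper_toBase (I := maximalIdeal A) (IsNoetherian.noetherian _)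
  haveI hsep : (localBlowUp (maximalIdeal A)).IsSeparated := ⟨by
    rw [← terminal.comp_from (toBase (maximalIdeal A))]
    infer_instance⟩
  exact ⟨hirr, hsep, _, _, (isAffineOpen_top _).image_of_isOpenImmersion (chart (maximalIdeal A) y),
    (isAffineOpen_top _).image_of_isOpenImmersion (chart (maximalIdeal A) x),
    chart_sup _ x y hm, exists_split_chart _ x y hx hy hm⟩

/-- The blow-up is a regular irreducible separated scheme, covered by two charts with split overlap. -/
theorem blowUp_props [IsRegularLocalRing A] (hA : ringKrullDim A = 2) {X : Scheme.{u}}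
    (b : X ⟶ Spec (CommRingCat.of A)) (hb : BlowUp.IsBlowUp b (Curv2.idealSheaf A (maximalIdeal A))) :
    IrreducibleSpace X ∧ (∀ x : X, IsRegularLocalRing (X.presheaf.stalk x)) ∧ X.IsSeparated ∧
      ∃ U V : X.Opens, IsAffineOpen U ∧ IsAffineOpen V ∧ U ⊔ V = ⊤ ∧
        ∀ r : Γ(X, U ⊓ V), ∃ (a : Γ(X, U)) (b : Γ(X, V)),
          r = X.presheaf.map (homOfLE inf_le_left).op a + X.presheaf.map (homOfLE inf_le_right).op b := by
  obtain ⟨hirr, hsep, U, V, hU, hV, hcov, hsplit⟩ := exists_two_charts A hA
  obtain ⟨e, he, -⟩ := exists_iso_localBlowUp A (maximalIdeal A) b hb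
  refine ⟨?_, fun x => ?_, ?_, e ⁻¹ᵁ U, e ⁻¹ᵁ V, hU.preimage e, hV.preimage e, ?_, fun r => ?_⟩
  · let h := (Scheme.homeoOfIso (asIso e)).symm
    refine { toPreirreducibleSpace := ⟨?_⟩, toNonempty := ⟨h hirr.toNonempty.some⟩ }
    rw [← h.surjective.range_eq, ← Set.image_univ]
    exact (IrreducibleSpace.isIrreducible_univ _).isPreirreducible.image h h.continuous.continuousOn
  · haveI := regular_localBlowUp A (e x)
    exact IsRegularLocalRing.of_ringEquiv (asIso (e.stalkMap x)).commRingCatIsoToRingEquiv
  · exact ⟨by rw [← terminal.comp_from e]; infer_instance⟩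
  · rw [← Scheme.Hom.preimage_sup, hcov, Scheme.Hom.preimage_top]
  · obtain ⟨r', hr'⟩ := (ConcreteCategory.bijective_of_isIso (e.app (U ⊓ V))).2 r
    obtain ⟨a, c, hac⟩ := hsplit r'
    refine ⟨e.app U a, e.app V c, ?_⟩
    rw [← hr', hac, map_add]
    congr 1
    · exact ConcreteCategory.congr_hom (e.naturality (homOfLE inf_le_left).op) a
    · exact ConcreteCategory.congr_hom (e.naturality (homOfLE inf_le_right).op) c

end Groth.Agent.ResolveX
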