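import Groth.Agent.ResolveX.PointIdeal
import Groth.Agent.ResolveX.BlowPush
import Groth.Agent.ResolveX.RegBlowBase
import Groth.Agent.Div21Lib.StalkIdeal
import Groth.Agent.DivX.CodimOne
import Groth.Agent.ArInt.Contract
import Groth.Agent.BlowCoh.PnPoint
import Groth.Agent.BlowExc.Nonsingular
import Groth.Agent.S2421
import Groth.Agent.S2821
import Groth.Prelude.Def_ArSurf
import Groth.Prelude.Def_BlowUp2

/-!
# Birational morphisms of regular surfaces factor through point blow-ups
-/

set_option autoImplicit false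
set_option linter.style.haveILetI false
set_option linter.unusedSectionVars false
set_option backward.isDefEq.respectTransparency false
set_option backward.isDefEq.respectTransparency.types false
set_option maxHeartbeats 1000000

universe u

open CategoryTheory CategoryTheory.Limits AlgebraicGeometry TopologicalSpace IsLocalRing

attribute [local instance 2000] CategoryTheory.CategoryStruct.toQuiver

noncomputable section

namespace Groth.Agent.ResolveX

open Groth.Agent

/-- The centre of the point has stalk the maximal ideal. -/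
theorem stI_point {Y : Scheme.{u}} (y : Y) (hy : IsClosed ({y} : Set Y)) :
    Div21Lib.stI (Scheme.IdealSheafData.vanishingIdeal ⟨{y}, hy⟩) y = maximalIdeal (Y.presheaf.stalk y) := by
  obtain ⟨U, hU, hyU, -⟩ := exists_isAffineOpen_mem_and_subset (x := y) (U := ⊤) trivial
  rw [Div21Lib.stI_eq _ ⟨U, hU⟩ hyU,
    BlowCoh.vanishingIdeal_ideal_of_inter_eq ⟨{y}, hy⟩ ⟨U, hU⟩ hyU rfl fun z hz _ => hz]
  letI := TopCat.Presheaf.algebra_section_stalk Y.presheaf ⟨y, hyU⟩
  haveI := hU.isLocalization_stalk ⟨y, hyU⟩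
  exact IsLocalization.AtPrime.map_eq_maximalIdeal (hU.primeIdealOf ⟨y, hyU⟩).asIdeal _

/-- Away from the support the stalk ideal is trivial. -/
theorem stI_eq_top {Y : Scheme.{u}} (I : Y.IdealSheafData) {p : Y} (hp : p ∉ (I.support : Set Y)) :
    Div21Lib.stI I p = ⊤ := by
  obtain ⟨U, hU, hpU, -⟩ := exists_isAffineOpen_mem_and_subset (x := p) (U := ⊤) trivial
  rw [Div21Lib.stI_eq _ ⟨U, hU⟩ hpU]
  obtain ⟨s, hs, hps⟩ : ∃ s ∈ I.ideal ⟨U, hU⟩, p ∈ Y.basicOpen s := by
    by_contra h
    push Not at h
    exact hp ((Scheme.IdealSheafData.mem_support_iff_of_mem (U := ⟨U, hU⟩) hpU).2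
      ((Scheme.mem_zeroLocus_iff _ _ _).2 h))
  exact Ideal.eq_top_of_isUnit_mem _ (Ideal.mem_map_of_mem _ hs) ((Y.mem_basicOpen s p hpU).1 hps)

/-- An ideal sheaf with principal stalks on an integral scheme is effective Cartier. -/
theorem isEffCartier_of_stI {X : Scheme.{u}} [IsIntegral X] [IsLocallyNoetherian X] (J : X.IdealSheafData)
    (h : ∀ x : X, ∃ g : X.presheaf.stalk x, g ≠ 0 ∧ Div21Lib.stI J x = Ideal.span {g}) :
    BlowUp.IsEffCartierIdeal J := fun x => by
  obtain ⟨V, hV, hxV, -⟩ := exists_isAffineOpen_mem_and_subset (x := x) (U := ⊤) trivial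
  haveI : IsNoetherianRing Γ(X, V) := IsLocallyNoetherian.component_noetherian ⟨V, hV⟩
  obtain ⟨g, hg0, hg⟩ := h x
  rw [Div21Lib.stI_eq J ⟨V, hV⟩ hxV] at hg
  letI := TopCat.Presheaf.algebra_section_stalk X.presheaf ⟨x, hxV⟩
  let p := (hV.primeIdealOf ⟨x, hxV⟩).asIdeal
  haveI : IsLocalization.AtPrime (X.presheaf.stalk x) p := hV.isLocalization_stalk ⟨x, hxV⟩
  have hg' : (J.ideal ⟨V, hV⟩).map (algebraMap Γ(X, V) (X.presheaf.stalk x)) = Ideal.span {g} := hg
  have hgm : g ∈ (J.ideal ⟨V, hV⟩).map (algebraMap Γ(X, V) (X.presheaf.stalk x)) :=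
    hg'.symm ▸ Ideal.mem_span_singleton_self g
  obtain ⟨⟨⟨i, hi⟩, m⟩, him⟩ := (IsLocalization.mem_map_algebraMap_iff p.primeCompl _).1 hgm
  have hu := IsLocalization.map_units (X.presheaf.stalk x) m
  have hspan : Ideal.span {algebraMap Γ(X, V) (X.presheaf.stalk x) i} = Ideal.span {g} := by
    rw [← him, Ideal.span_singleton_mul_right_unit hu]
  obtain ⟨a, ha, hS⟩ := DivX.exists_gen_away (J.ideal ⟨V, hV⟩) p (X.presheaf.stalk x) i
    (by rw [← him]; exact mul_ne_zero hg0 hu.ne_zero) hi (hg'.trans hspan.symm)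
  have hxa : x ∈ X.basicOpen a :=
    (X.mem_basicOpen a x hxV).2 (IsLocalization.map_units (X.presheaf.stalk x) (⟨a, ha⟩ : p.primeCompl))
  refine ⟨X.affineBasicOpen (U := ⟨V, hV⟩) a, hxa, ?_⟩
  haveI := hV.isLocalization_basicOpen a
  obtain ⟨h1, h2⟩ := hS Γ(X, X.basicOpen a)
  exact ⟨_, h2, (J.map_ideal_basicOpen ⟨V, hV⟩ a).symm.trans h1⟩

section Birational

variable {X Y : Scheme.{u}} [IsIntegral X] [IsIntegral Y] (f : X ⟶ Y) (U : Y.Opens)
  (hU : (U : Set Y).Nonempty) (hiso : IsIso (f ∣_ U))

include hU hiso in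
/-- The stalk of the base sits in the function field of the source with the same fraction field. -/
theorem isFraction_stalkToFunctionField (p : Y) (h : f (genericPoint X) ⤳ p) :
    Function.Injective (CohIII.stalkToFunctionField f p h) ∧
      ∀ z : X.functionField, ∃ a s : Y.presheaf.stalk p, s ≠ 0 ∧
        z * CohIII.stalkToFunctionField f p h s = CohIII.stalkToFunctionField f p h a := by
  obtain ⟨hη, hbij⟩ := ArInt.birational_of_isIso_restrict f U hU hiso
  have hηp : genericPoint Y ⤳ p := (genericPoint_spec Y).specializes trivial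
  let j : Y.presheaf.stalk p →+* Y.functionField := (Y.presheaf.stalkSpecializes hηp).hom
  let β : Y.functionField →+* X.functionField :=
    (Y.presheaf.stalkSpecializes (specializes_of_eq hη) ≫ f.stalkMap (genericPoint X)).hom
  have hψ : ∀ a, CohIII.stalkToFunctionField f p h a = β (j a) := fun a => by
    show (f.stalkMap (genericPoint X)).hom ((Y.presheaf.stalkSpecializes h).hom a) =
      (f.stalkMap (genericPoint X)).hom ((Y.presheaf.stalkSpecializes (specializes_of_eq hη)).hom
        ((Y.presheaf.stalkSpecializes hηp).hom a))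
    rw [← CommRingCat.comp_apply (Y.presheaf.stalkSpecializes hηp), TopCat.Presheaf.stalkSpecializes_comp]
  have hjalg : j = algebraMap (Y.presheaf.stalk p) Y.functionField := rfl
  refine ⟨fun a b hab => ?_, fun z => ?_⟩
  · rw [hψ, hψ] at hab
    have := hbij.1 hab
    rw [hjalg] at this
    exact IsFractionRing.injective (Y.presheaf.stalk p) Y.functionField this
  · obtain ⟨k, rfl⟩ := hbij.2 z
    obtain ⟨⟨a, s⟩, hs⟩ := IsLocalization.surj (nonZeroDivisors (Y.presheaf.stalk p)) (S := Y.functionField) k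
    refine ⟨a, s.1, nonZeroDivisors.ne_zero s.2, ?_⟩
    rw [hψ, hψ, hjalg, ← hs, map_mul]

include hU hiso in
/-- The stalk maps are injective and birational. -/
theorem birational_stalkMap (x : X) :
    Function.Injective (f.stalkMap x).hom ∧
      ∀ b : X.presheaf.stalk x, ∃ a s : Y.presheaf.stalk (f x), s ≠ 0 ∧
        b * (f.stalkMap x).hom s = (f.stalkMap x).hom a := by
  have hx : genericPoint X ⤳ x := (genericPoint_spec X).specializes trivial
  obtain ⟨h1, h2⟩ := isFraction_stalkToFunctionField f U hU hiso (f x) (hx.map f.continuous)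
  let j : X.presheaf.stalk x →+* X.functionField := (X.presheaf.stalkSpecializes hx).hom
  have hj : Function.Injective j := IsFractionRing.injective (X.presheaf.stalk x) X.functionField
  have hψ : ∀ a, CohIII.stalkToFunctionField f (f x) (hx.map f.continuous) a = j ((f.stalkMap x).hom a) := fun a =>
    Scheme.Hom.stalkSpecializes_stalkMap_apply f (genericPoint X) x hx a
  refine ⟨fun a b hab => h1 (by rw [hψ, hψ, hab]), fun b => ?_⟩
  obtain ⟨a, s, hs, has⟩ := h2 (j b)
  refine ⟨a, s, hs, hj ?_⟩
  rw [map_mul, ← hψ, ← hψ, has]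

include hU hiso in
/-- The fibres of a proper birational morphism onto a normal scheme are connected. -/
theorem preconnected_fibre [IsLocallyNoetherian X] [IsLocallyNoetherian Y] [IsProper f] (y : Y)
    [IsIntegrallyClosed (Y.presheaf.stalk y)] : PreconnectedSpace (f.fiber y) := by
  obtain ⟨hη, -⟩ := ArInt.birational_of_isIso_restrict f U hU hiso
  have h : f (genericPoint X) ⤳ y := by rw [hη]; exact (genericPoint_spec Y).specializes trivial
  obtain ⟨hinj, hfrac⟩ := isFraction_stalkToFunctionField f U hU hiso y h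
  have hcard := S2421.result f hη y h
  let A := Y.presheaf.stalk y
  letI : Algebra A X.functionField := (CohIII.stalkToFunctionField f y h).toAlgebra
  have hmem : ∀ z : X.functionField, z ∈ CohIII.integralClosureStalk f y h →
      ∃ a : A, CohIII.stalkToFunctionField f y h a = z := fun z (hz : _root_.IsIntegral A z) => by
    haveI : FaithfulSMul A X.functionField := (faithfulSMul_iff_algebraMap_injective _ _).2 hinj
    haveI : IsFractionRing A X.functionField := IsFractionRing.of_field A X.functionField fun w => by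
      obtain ⟨a, s, hs, has⟩ := hfrac w
      refine ⟨a, s, Eq.symm ?_⟩
      show CohIII.stalkToFunctionField f y h a / CohIII.stalkToFunctionField f y h s = w
      rw [div_eq_iff (fun h0 => hs (hinj (h0.trans (map_zero _).symm)))]
      exact has.symm
    exact IsIntegrallyClosed.isIntegral_iff.1 hz
  let e : A →+* CohIII.integralClosureStalk f y h :=
    RingHom.codRestrict (CohIII.stalkToFunctionField f y h) _ fun a => isIntegral_algebraMap (x := a)
  have he : Function.Bijective e :=
    ⟨fun a b hab => hinj (congrArg Subtype.val hab), fun ⟨z, hz⟩ => by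
      obtain ⟨a, ha⟩ := hmem z hz; exact ⟨a, Subtype.ext ha⟩⟩
  haveI : IsLocalRing (CohIII.integralClosureStalk f y h) := (RingEquiv.ofBijective e he).isLocalRing
  haveI : Subsingleton (MaximalSpectrum (CohIII.integralClosureStalk f y h)) := ⟨fun a b =>
    MaximalSpectrum.ext ((eq_maximalIdeal a.isMaximal).trans (eq_maximalIdeal b.isMaximal).symm)⟩
  haveI : Subsingleton (_root_.ConnectedComponents (f.fiber y)) :=
    Cardinal.le_one_iff_subsingleton.1 (hcard.trans (Cardinal.le_one_iff_subsingleton.2 inferInstance))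
  refine preconnectedSpace_iff_connectedComponent.2 fun p => Set.eq_univ_of_forall fun q => ?_
  exact ConnectedComponents.coe_eq_coe'.1 (Subsingleton.elim (q : _root_.ConnectedComponents (f.fiber y)) p)

end Birational

/-- In a connected fibre with several points every point is related to another one. -/
theorem exists_specializes_ne {X Y : Scheme.{u}} (f : X ⟶ Y) [LocallyOfFiniteType f] [QuasiCompact f] (y : Y)
    [PreconnectedSpace (f.fiber y)] {x : X} (hx : f x = y) (hne : ∃ x', f x' = y ∧ x' ≠ x) :
    ∃ x', f x' = y ∧ x' ≠ x ∧ (x' ⤳ x ∨ x ⤳ x') := by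
  by_contra hcon
  push Not at hcon
  let e := f.fiberHomeo y
  let p : f.fiber y := e.symm ⟨x, hx⟩
  have hrel : ∀ q : f.fiber y, q ⤳ p ∨ p ⤳ q → q = p := fun q hq => by
    by_contra hqp
    have hep : e p = ⟨x, hx⟩ := e.apply_symm_apply _
    have hne' : (e q).1 ≠ x := fun h => hqp (e.injective ((Subtype.ext h : e q = ⟨x, hx⟩).trans hep.symm))
    obtain ⟨h1, h2⟩ := hcon (e q).1 (e q).2 hne'
    rcases hq with hq | hq <;>
      [refine h1 ?_; refine h2 ?_] <;>
      simpa only [hep] using (subtype_specializes_iff _ _).1 (hq.map e.continuous)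
  haveI : IsLocallyNoetherian (f.fiber y) := LocallyOfFiniteType.isLocallyNoetherian (f.fiberToSpecResidueField y)
  haveI : CompactSpace (f.fiber y) := QuasiCompact.compactSpace_of_compactSpace (f.fiberToSpecResidueField y)
  haveI : IsNoetherian (f.fiber y) := {}
  let S := irreducibleComponents (f.fiber y) \ {{p}}
  have hS : ({p}ᶜ : Set (f.fiber y)) = ⋃₀ S := by
    ext q
    refine ⟨fun hq => ⟨irreducibleComponent q, ⟨irreducibleComponent_mem_irreducibleComponents q,
      fun h => hq (h.le mem_irreducibleComponent)⟩, mem_irreducibleComponent⟩, ?_⟩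
    rintro ⟨C, ⟨hC, hCp⟩, hqC⟩ rfl
    have hCi := hC.1
    have hCc := isClosed_of_mem_irreducibleComponents C hC
    have hgen := hCi.isGenericPoint_genericPoint hCc
    have hg : hCi.genericPoint = p := hrel _ (Or.inl (hgen.specializes hqC))
    refine hCp (Set.eq_singleton_iff_unique_mem.2 ⟨hqC, fun r hr => hrel r (Or.inr ?_)⟩)
    exact hg ▸ hgen.specializes hr
  have hclosed : IsClosed ({p} : Set (f.fiber y)) := by
    refine closure_subset_iff_isClosed.1 fun q hq => hrel q (Or.inr (specializes_iff_mem_closure.2 hq))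
  have hopen : IsOpen ({p} : Set (f.fiber y)) := by
    rw [← isClosed_compl_iff, hS, Set.sUnion_eq_biUnion]
    exact (NoetherianSpace.finite_irreducibleComponents.subset Set.sdiff_subset).isClosed_biUnion
      fun C hC => isClosed_of_mem_irreducibleComponents C hC.1
  rcases isClopen_iff.1 (⟨hclosed, hopen⟩ : IsClopen ({p} : Set (f.fiber y))) with h | h
  · exact Set.singleton_ne_empty p h
  · obtain ⟨x', hx', hne'⟩ := hne
    have : e.symm ⟨x', hx'⟩ = p := h.ge trivial
    exact hne' (congrArg Subtype.val (e.symm.injective this))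

section Factor

variable {X Y : Scheme.{u}} [IsIntegral X] [IsLocallyNoetherian X] [IsIntegral Y] [IsLocallyNoetherian Y]
  (f : X ⟶ Y) [IsProper f] (U : Y.Opens) (hU : (U : Set Y).Nonempty) (hiso : IsIso (f ∣_ U))
  (y : Y) [IsRegularLocalRing (Y.presheaf.stalk y)]
  (hbig : ∃ x x' : X, x ≠ x' ∧ f x = y ∧ f x' = y)

include hU hiso hbig in
/-- A regular point with a big fibre is not of dimension at most one. -/
theorem two_le_dim : (2 : WithBot ℕ∞) ≤ ringKrullDim (Y.presheaf.stalk y) := by
  haveI : UniqueFactorizationMonoid (Y.presheaf.stalk y) := (S2821.result _).2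
  haveI := preconnected_fibre f U hU hiso y
  obtain ⟨x, x', hne, hx, hx'⟩ := hbig
  obtain ⟨z, hz, hzne, hrel⟩ := exists_specializes_ne f y hx ⟨x', hx', hne.symm⟩
  obtain ⟨a, b, hab, hfa, hfb, hne'⟩ : ∃ a b : X, a ⤳ b ∧ f a = y ∧ f b = y ∧ a ≠ b := by
    rcases hrel with h | h
    exacts [⟨z, x, h, hz, hx, hzne⟩, ⟨x, z, h, hx, hz, hzne.symm⟩]
  by_contra hlt
  push Not at hlt
  subst hfb
  -- the base ring is a valuation ring
  have hsurj : ∀ c : X, f c = f b → Function.Surjective (f.stalkMap c).hom := fun c hc v => by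
    haveI : IsRegularLocalRing (Y.presheaf.stalk (f c)) := hc ▸ ‹IsRegularLocalRing (Y.presheaf.stalk (f b))›
    haveI : UniqueFactorizationMonoid (Y.presheaf.stalk (f c)) := (S2821.result _).2
    have hlt' : ringKrullDim (Y.presheaf.stalk (f c)) < 2 := hc ▸ hlt
    haveI : Ring.KrullDimLE 1 (Y.presheaf.stalk (f c)) :=
      Ring.krullDimLE_iff.2 (by
        rcases h : ringKrullDim (Y.presheaf.stalk (f c)) with _ | n
        · exact bot_le
        · rw [h] at hlt'
          exact WithBot.coe_le_coe.2 (Order.le_of_lt_add_one (show n < 1 + 1 from WithBot.coe_lt_coe.1 hlt')))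
    haveI : Ring.DimensionLEOne (Y.presheaf.stalk (f c)) := ⟨fun {P} hP0 hP =>
      Ideal.IsPrime.isMaximal_of_ne_bot hP hP0⟩
    haveI : IsDedekindDomain (Y.presheaf.stalk (f c)) := {}
    obtain ⟨hinj, hfr⟩ := birational_stalkMap f U hU hiso c
    obtain ⟨a, s, hs, has⟩ := hfr v
    rcases ValuationRing.dvd_total s a with ⟨w, hw⟩ | ⟨w, hw⟩
    · refine ⟨w, mul_right_cancel₀ (fun h => hs (hinj (h.trans (map_zero _).symm))) ?_⟩
      rw [has, hw, map_mul, mul_comm]
    · have ha : (f.stalkMap c).hom a ≠ 0 ∨ v = 0 := by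
        by_contra h
        push Not at h
        rw [h.1] at has
        exact h.2 ((mul_eq_zero.1 has).resolve_right fun h => hs (hinj (h.trans (map_zero _).symm)))
      rcases ha with ha | rfl
      · rw [hw, map_mul] at has
        have h1 : v * (f.stalkMap c).hom w = 1 := mul_left_cancel₀ ha (by linear_combination has)
        obtain ⟨w', hw'⟩ := (isUnit_map_iff (f.stalkMap c).hom w).1 (IsUnit.of_mul_eq_one_right _ h1)
        refine ⟨(w'⁻¹ : (Y.presheaf.stalk (f c))ˣ), ?_⟩
        refine mul_right_cancel₀ (b := (f.stalkMap c).hom w) (fun h0 => by rw [h0, mul_zero] at h1; exact zero_ne_one h1) ?_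
        rw [h1, ← map_mul, ← hw', Units.inv_mul, map_one]
      · exact ⟨0, map_zero _⟩
  have hb := hsurj b rfl
  have ha := hsurj a hfa
  -- so the specialisation is local
  refine hne' ?_
  haveI : IsIso (Y.presheaf.stalkSpecializes (hab.map f.continuous)) :=
    BirNormal.isIso_stalkSpecializes_of_eq hfa (hab.map f.continuous)
  have hloc : IsLocalHom (X.presheaf.stalkSpecializes hab).hom := ⟨fun v hv => by
    obtain ⟨w, rfl⟩ := hb v
    rw [← Scheme.Hom.stalkSpecializes_stalkMap_apply f a b hab w] at hv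
    exact ((isUnit_map_iff (Y.presheaf.stalkSpecializes (hab.map f.continuous)).hom w).1
      ((isUnit_map_iff (f.stalkMap a).hom _).1 hv)).map _⟩
  have h1 : (Spec.map (X.presheaf.stalkSpecializes hab) ≫ X.fromSpecStalk b) (closedPoint (X.presheaf.stalk a)) =
      X.fromSpecStalk a (closedPoint _) :=
    congrArg (fun g : Spec (X.presheaf.stalk a) ⟶ X => g (closedPoint _)) (Scheme.SpecMap_stalkSpecializes_fromSpecStalk hab)
  rw [Scheme.fromSpecStalk_closedPoint, Scheme.Hom.comp_apply] at h1
  rw [← h1]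
  haveI := hloc
  rw [show Spec.map (X.presheaf.stalkSpecializes hab) (closedPoint (X.presheaf.stalk a)) = closedPoint _ from
    IsLocalRing.comap_closedPoint (X.presheaf.stalkSpecializes hab).hom, Scheme.fromSpecStalk_closedPoint]

variable (hy : IsClosed ({y} : Set Y)) (hdim : ringKrullDim (Y.presheaf.stalk y) = 2)
  (hX : ∀ x : X, IsRegularLocalRing (X.presheaf.stalk x)) (hX2 : topologicalKrullDim X ≤ 2)

include hU hiso hbig hdim hX hX2 in
/-- The preimage of a point with a big fibre is an effective Cartier divisor. -/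
theorem isEffCartier_comap_point :
    BlowUp.IsEffCartierIdeal ((Scheme.IdealSheafData.vanishingIdeal ⟨{y}, hy⟩).comap f) := by
  haveI : UniqueFactorizationMonoid (Y.presheaf.stalk y) := (S2821.result _).2
  haveI := preconnected_fibre f U hU hiso y
  have hd : ∀ x : X, ringKrullDim (X.presheaf.stalk x) ≤ 2 := fun x => by
    rw [ringKrullDim_stalk_eq_coheight]
    refine (Order.coheight_le_krullDim x).trans ?_
    rw [← Order.krullDim_eq_of_orderIso (irreducibleSetEquivPoints (α := X))]
    exact hX2
  refine isEffCartier_of_stI _ fun x => ?_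
  rw [Div21Lib.stI_comap]
  by_cases hx : f x = y
  swap
  · refine ⟨1, one_ne_zero, ?_⟩
    rw [stI_eq_top _ (by rw [Scheme.IdealSheafData.coe_support_vanishingIdeal]; exact hx), Ideal.map_top,
      Ideal.span_singleton_one]
  subst hx
  rw [stI_point (f x) hy]
  haveI := hX x
  haveI : UniqueFactorizationMonoid (X.presheaf.stalk x) := (S2821.result _).2
  obtain ⟨t, s, ht, hs, hts⟩ := exists_regular_pair (Y.presheaf.stalk (f x)) hdim
  have hm : maximalIdeal (Y.presheaf.stalk (f x)) = Ideal.span {(t : Y.presheaf.stalk (f x)), ↑s} :=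
    le_antisymm hts (Ideal.span_le.2 (by rintro _ (rfl | rfl) <;> [exact t.2; exact s.2]))
  obtain ⟨hinj, hfr⟩ := birational_stalkMap f U hU hiso x
  rcases principal_or_primary hm ht hs (f.stalkMap x).hom inferInstance hinj (hd x) hfr with ⟨g, hg, h⟩ | ⟨h2, hP⟩
  · exact ⟨g, hg, h⟩
  exfalso
  obtain ⟨a, b, hne, ha, hb⟩ := hbig
  have hne' : ∃ x', f x' = f x ∧ x' ≠ x := by
    by_cases h : a = x
    exacts [⟨b, hb, fun h' => hne (h.trans h'.symm)⟩, ⟨a, ha, h⟩]
  obtain ⟨z, hz, hzne, hrel⟩ := exists_specializes_ne f (f x) rfl hne'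
  rcases hrel with hzx | hxz
  · -- generalisations in the fibre
    let P : Ideal (X.presheaf.stalk x) := (maximalIdeal (X.presheaf.stalk z)).comap (X.presheaf.stalkSpecializes hzx).hom
    haveI : IsIso (Y.presheaf.stalkSpecializes (hzx.map f.continuous)) :=
      BirNormal.isIso_stalkSpecializes_of_eq hz (hzx.map f.continuous)
    have hle : (maximalIdeal (Y.presheaf.stalk (f x))).map (f.stalkMap x).hom ≤ P := by
      rw [Ideal.map_le_iff_le_comap]
      intro v hv
      show (X.presheaf.stalkSpecializes hzx).hom ((f.stalkMap x).hom v) ∈ maximalIdeal _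
      rw [← Scheme.Hom.stalkSpecializes_stalkMap_apply f z x hzx v, mem_maximalIdeal]
      intro hu
      exact hv ((isUnit_map_iff (Y.presheaf.stalkSpecializes (hzx.map f.continuous)).hom v).1
        ((isUnit_map_iff (f.stalkMap z).hom _).1 hu))
    have hPm := hP P inferInstance hle
    have hw : (Spec.map (X.presheaf.stalkSpecializes hzx)) (closedPoint (X.presheaf.stalk z)) = closedPoint _ :=
      PrimeSpectrum.ext hPm
    have h1 : (Spec.map (X.presheaf.stalkSpecializes hzx) ≫ X.fromSpecStalk x) (closedPoint (X.presheaf.stalk z)) =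
        X.fromSpecStalk z (closedPoint _) :=
      congrArg (fun g : Spec (X.presheaf.stalk z) ⟶ X => g (closedPoint _)) (Scheme.SpecMap_stalkSpecializes_fromSpecStalk hzx)
    rw [Scheme.fromSpecStalk_closedPoint, Scheme.Hom.comp_apply, hw, Scheme.fromSpecStalk_closedPoint] at h1
    exact hzne h1.symm
  · -- specialisations are too deep
    have hlt : z < x := ⟨hxz, fun h : z ⤳ x => hzne (h.antisymm hxz).eq⟩
    have h3 := Order.coheight_add_one_le hlt
    rw [ringKrullDim_stalk_eq_coheight] at h2
    have h4 := hd z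
    rw [ringKrullDim_stalk_eq_coheight] at h4
    have h5 : (2 : ℕ∞) + 1 ≤ 2 := (add_le_add (WithBot.coe_le_coe.1 h2) le_rfl).trans (h3.trans (WithBot.coe_le_coe.1 h4))
    exact absurd h5 (by norm_num)

include hU hiso hbig hdim hX hX2 in
/-- A birational morphism factors through the blow-up of a point with big fibre. -/
theorem exists_lift_point {Y' : Scheme.{u}} {π : Y' ⟶ Y}
    (hπ : BlowUp.IsBlowUp π (Scheme.IdealSheafData.vanishingIdeal ⟨{y}, hy⟩)) : ∃ g : X ⟶ Y', g ≫ π = f :=
  (hπ.2 X f (isEffCartier_comap_point f U hU hiso y hbig hy hdim hX hX2)).exists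

end Factor

end Groth.Agent.ResolveX
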