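import Groth.Agent.ResolveX.DesingMin
import Groth.Agent.S3254
import Groth.Agent.ArInt.LineCurve

/-!
# Contracting an exceptional curve on an arithmetic surface
-/

set_option autoImplicit false
set_option linter.style.haveILetI false
set_option linter.unusedSectionVars false
set_option backward.isDefEq.respectTransparency false
set_option backward.isDefEq.respectTransparency.types false
set_option maxHeartbeats 1000000

universe u

open CategoryTheory CategoryTheory.Limits AlgebraicGeometry TopologicalSpace IsLocalRing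

attribute [local instance 2000] CategoryTheory.CategoryStruct.toQuiver

noncomputable section

namespace Groth.Agent.ResolveX

open Groth.Agent

/-- Being over the closed point, an exceptional divisor contracts to an arithmetic surface. -/
theorem exists_contraction {R : Type u} [CommRing R] [IsDomain R] [IsDiscreteValuationRing R]
    (X : Over (Spec (CommRingCat.of R))) (hX : ArSurf.IsArithSurface R X) (E : ArSurf.VertComp R X)
    (hE : Models.IsExcCurve E.ι) :
    ∃ (Y : Over (Spec (CommRingCat.of R))) (f : X ⟶ Y) (y : Y.left) (hy : IsClosed ({y} : Set Y.left)),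
      ArSurf.IsArithSurface R Y ∧ IsProper f.left ∧ ringKrullDim (Y.left.presheaf.stalk y) = 2 ∧
      Set.range ((E.ι ≫ f.left).base : E.curve.left → Y.left) = {y} ∧
      Set.range E.ι = f.left ⁻¹' {y} ∧
      IsIso (f.left ∣_ (⟨{y}ᶜ, hy.isOpen_compl⟩ : Y.left.Opens)) ∧
      BlowUp.IsBlowUp f.left (Scheme.IdealSheafData.vanishingIdeal ⟨{y}, hy⟩) := by
  haveI := ArInt.isSurf_of_isArithSurface hX
  haveI := E.isClosedImmersion
  haveI := E.isIntegral
  obtain ⟨L, hL, hLi⟩ := exists_inverseOf (Big.isInvertible_ideal hE.1)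
  have hnum := (ArInt.numbers_of_isExcCurve E hLi hE).2
  obtain ⟨-, K, _, e, -⟩ := hE
  let k := IsLocalRing.ResidueField R
  let P := CohB1.ProjSpace 1 K
  let s := E.curve.hom
  let ε := RingEquiv.ofBijective (CohB1.ProjSpace.toSpec 1 K).appTop.hom (ArInt.bijective_appTop_line K)
  let φ : k →+* K := (Scheme.ΓSpecIso (CommRingCat.of K)).hom.hom.comp (ε.symm.toRingHom.comp
    ((e.hom ≫ s).appTop.hom.comp (Scheme.ΓSpecIso (CommRingCat.of k)).inv.hom))
  have hfac : e.hom ≫ s = CohB1.ProjSpace.toSpec 1 K ≫ Spec.map (CommRingCat.ofHom φ) := by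
    refine ext_of_isAffine ?_
    ext x
    rw [Scheme.Hom.comp_appTop (CohB1.ProjSpace.toSpec 1 K)]
    show (e.hom ≫ s).appTop x = (CohB1.ProjSpace.toSpec 1 K).appTop ((Spec.map (CommRingCat.ofHom φ)).appTop x)
    have hx : (Spec.map (CommRingCat.ofHom φ)).appTop x =
        (Scheme.ΓSpecIso (CommRingCat.of K)).inv (φ ((Scheme.ΓSpecIso (CommRingCat.of k)).hom x)) := by
      have h := ConcreteCategory.congr_hom (Scheme.ΓSpecIso_naturality (CommRingCat.ofHom φ)) x
      refine ((Scheme.ΓSpecIso (CommRingCat.of K)).hom_inv_id_apply _).symm.trans ?_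
      exact congrArg (Scheme.ΓSpecIso (CommRingCat.of K)).inv h
    rw [hx]
    show _ = (CohB1.ProjSpace.toSpec 1 K).appTop ((Scheme.ΓSpecIso (CommRingCat.of K)).inv
      ((Scheme.ΓSpecIso (CommRingCat.of K)).hom (ε.symm ((e.hom ≫ s).appTop
        ((Scheme.ΓSpecIso (CommRingCat.of k)).inv ((Scheme.ΓSpecIso (CommRingCat.of k)).hom x))))))
    rw [Iso.hom_inv_id_apply, Iso.hom_inv_id_apply]
    exact (ε.apply_symm_apply _).symm
  letI : Algebra (IsLocalRing.ResidueField R) K := φ.toAlgebra
  have he : e.symm.hom ≫ CohB1.ProjSpace.toSpec 1 K ≫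
      Spec.map (CommRingCat.ofHom (algebraMap (IsLocalRing.ResidueField R) K)) = E.curve.hom := by
    show e.inv ≫ CohB1.ProjSpace.toSpec 1 K ≫ Spec.map (CommRingCat.ofHom φ) = s
    rw [← hfac, Iso.inv_hom_id_assoc]
  haveI := ArInt.finite_of_line E e.symm he
  obtain ⟨-, hw, -⟩ := ArInt.numbers_of_line E e.symm he
  obtain ⟨Y, f, y, hy, hY, hEy, hpre, hiso⟩ := S3254.result R X hX E K e.symm he L hLi (by rw [hnum, hw])
  haveI := ArInt.isSurf_of_isArithSurface hY
  haveI : Flat Y.hom := hY.2.2.2.1
  haveI : IsLocallyNoetherian Y.left := LocallyOfFiniteType.isLocallyNoetherian Y.hom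
  haveI : IsNoetherian X.left :=
    { toIsLocallyNoetherian := LocallyOfFiniteType.isLocallyNoetherian X.hom
      toCompactSpace := QuasiCompact.compactSpace_of_compactSpace X.hom }
  haveI : IsProper f.left := by
    haveI : IsProper (f.left ≫ Y.hom) := by rw [Over.w f]; infer_instance
    exact IsProper.of_comp f.left Y.hom
  have hfib : f.left ⁻¹' {y} = Set.range E.ι := by
    have h := congrArg (fun s => sᶜ) hpre
    simp only [compl_compl] at h
    rw [← h]
    ext z
    exact not_not.symm
  have hys := hom_closed_point Y.hom hy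
  have hdim := dim_stalk_closedPoint hy hys
  have hirr : IsPreirreducible (f.left ⁻¹' {y}) := by
    rw [hfib, ← Set.image_univ]
    exact (IrreducibleSpace.isIrreducible_univ E.curve.left).2.image _ E.ι.continuous.continuousOn
  have hbig : ∃ x x' : X.left, x ≠ x' ∧ f.left x = y ∧ f.left x' = y := by
    obtain ⟨a, b, hab⟩ : ∃ a b : E.curve.left, a ≠ b := by
      by_contra h
      push Not at h
      haveI : Subsingleton E.curve.left := ⟨h⟩
      have h0 : topologicalKrullDim E.curve.left ≤ 0 := topologicalKrullDim_zero_of_discreteTopology _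
      rw [E.dim_eq] at h0
      exact absurd h0 (by norm_num)
    exact ⟨E.ι a, E.ι b, fun h => hab (E.ι.isEmbedding.injective h), hfib.ge ⟨a, rfl⟩, hfib.ge ⟨b, rfl⟩⟩
  haveI := hX.2.1; haveI := hY.2.1
  exact ⟨Y, f, y, hy, hY, inferInstance, hdim, hEy, hfib.symm, hiso,
    isBlowUp_of_irreducible_fibre f.left y hy hY.1 hdim hX.1 hX.2.2.1.le hiso hirr hbig⟩

end Groth.Agent.ResolveX
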