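import Groth.Agent.BlowCoh.Emb
import Groth.Agent.BlowCoh.Cover
import Groth.Agent.Lib.AmpleEmbed
import Groth.Agent.Lib.AVAmple
import Groth.Agent.AmpleX.Sect
import Groth.Agent.PnCoh.Chow.Proper
import Groth.Agent.S8914
import Groth.Agent.S3572

/-!
# A blowing up is closed in a projective space over the base
-/

set_option autoImplicit false
set_option linter.style.haveILetI false
set_option linter.unusedSectionVars false
set_option backward.isDefEq.respectTransparency false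
set_option backward.isDefEq.respectTransparency.types false
set_option maxHeartbeats 1000000

universe u

open CategoryTheory CategoryTheory.Limits AlgebraicGeometry TopologicalSpace
open Groth.Agent.BlowUpLib

noncomputable section

namespace Groth.Agent.ResolveX

open Groth.Agent Groth.Agent.BlowCoh

variable {A : Type u} [CommRing A] {n : ℕ} {a : Fin (n + 1) → A} {X : Scheme.{u}} {b : X ⟶ Spec (CommRingCat.of A)}

/-- The generators are sections of the exceptional ideal. -/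
theorem exists_genTop (i : Fin (n + 1)) :
    ∃ σ : Γ(ClSub.idealMod (exc a b), ⊤), OmegaSh.idealSect (exc a b) ⊤ σ = strHom b ⊤ (a i) := by
  refine OmegaLib.exists_idealSect_eq _ ⊤ _ ?_
  let K := exc a b
  refine AModX.eq_of_locally (M := Coh.structureModule K.subscheme) _ _ fun p _ => ?_
  obtain ⟨W, hW, hpW, -⟩ := exists_isAffineOpen_mem_and_subset (X := X) (U := ⊤) (x := K.subschemeι p) trivial
  refine ⟨K.subschemeι ⁻¹ᵁ W, le_top, hpW, ?_⟩
  have h1 : strHom b W (a i) ∈ K.ideal ⟨W, hW⟩ := by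
    show _ ∈ ((centre (ctr a)).comap b).ideal ⟨W, hW⟩
    rw [ideal_comap_centre]
    exact Ideal.mem_map_of_mem _ (gen_mem_ctr a i)
  rw [← K.ker_subschemeι_app, RingHom.mem_ker, ← strHom_res b (le_top : W ≤ ⊤)] at h1
  have h2 := ConcreteCategory.congr_hom (K.subschemeι.naturality (homOfLE (le_top : W ≤ ⊤)).op) (strHom b ⊤ (a i))
  rw [map_zero]
  exact h2.symm.trans h1

theorem isClosedImmersion_of_charts {R : Type u} [CommRing R] {Y : Scheme.{u}} {L : Y.Modules}
    (q : Y ⟶ Spec (CommRingCat.of R)) (r : Y ⟶ CohB1.ProjSpace n R) (hr : r ≫ CohB1.ProjSpace.toSpec n R = q)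
    (τ : (Scheme.Modules.pullback r).obj (Twist.twistProjSpace n R 1) ≅ L) (s : Fin (n + 1) → Γ(L, ⊤))
    (hτ : ∀ i, τ.hom.app ⊤ (ProjUP.pullSec r (Twist.twistProjSpace n R 1) (ProjUP.coord n R i)) = s i)
    (U : Fin (n + 1) → Y.Opens) (hU : ∀ i, IsAffineOpen (U i)) (hloc : ∀ i, H23.TrivBasic.locus (s i) = U i)
    (hgen : ∀ (i : Fin (n + 1)) (S : Subring Γ(Y, U i)), (∀ c, strHom q (U i) c ∈ S) →
      (∀ j (β : Γ(Y, U i)), AModX.res L (le_top : U i ≤ ⊤) (s j) = β • AModX.res L (le_top : U i ≤ ⊤) (s i) → β ∈ S) →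
      S = ⊤) :
    IsClosedImmersion r := by
  let D : Fin (n + 1) → (CohB1.ProjSpace n R).Opens := fun i =>
    Proj.basicOpen (CohB1.polyGrading n R) (MvPolynomial.X i)
  have hpre : ∀ i, r ⁻¹ᵁ D i = U i := fun i => by rw [AmpleEmbed.preimage_chart r τ i (hτ i), hloc i]
  refine IsZariskiLocalAtTarget.of_iSup_eq_top (P := @IsClosedImmersion) D (AmpleEmbed.iSup_basicOpen_X n R) fun i => ?_
  have hDaff : IsAffineOpen (D i) := Proj.isAffineOpen_basicOpen _ _ (ProjPt.X_mem _) one_pos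
  haveI : IsAffine (D i : Scheme) := hDaff
  haveI : IsAffine (r ⁻¹ᵁ D i : Scheme) := by rw [hpre i]; exact hU i
  refine IsClosedImmersion.of_surjective_of_isAffine _ ?_
  let φ : Γ(CohB1.ProjSpace n R, D i) →+* Γ(Y, U i) := (r.appLE (D i) (U i) (hpre i).ge).hom
  have hS : φ.range = ⊤ := hgen i φ.range (fun c => by
    refine ⟨(CohB1.ProjSpace.toSpec n R).appLE ⊤ (D i) le_top ((Scheme.ΓSpecIso (CommRingCat.of R)).inv c), ?_⟩
    show r.appLE (D i) (U i) _ _ = q.appLE ⊤ _ _ _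
    rw [← CommRingCat.comp_apply, Scheme.Hom.appLE_comp_appLE]
    simp only [hr]
    rfl) fun j β hβ => ⟨(Proj.awayToSection (CohB1.polyGrading n R) (MvPolynomial.X i)).hom
      (HomogeneousLocalization.Away.mk (CohB1.polyGrading n R) (ProjPt.X_mem _) 1 (MvPolynomial.X j)
        (by rw [one_smul]; exact ProjPt.X_mem _)), AmpleEmbed.ratioOf_eq r τ _ _ (hτ i) (hτ j) (hpre i).ge β hβ⟩
  have hsurj : Function.Surjective (r.appLE (D i) (U i) (hpre i).ge) := fun v => by
    show v ∈ φ.range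
    rw [hS]; trivial
  intro z
  rw [morphismRestrict_appTop]
  obtain ⟨y, hy⟩ := hsurj (Y.presheaf.map (eqToHom (hpre i).symm).op ((r ⁻¹ᵁ D i).topIso.hom z))
  refine ⟨(D i).topIso.inv y, (ConcreteCategory.bijective_of_isIso (r ⁻¹ᵁ D i).topIso.hom).1 ?_⟩
  apply (ConcreteCategory.bijective_of_isIso (Y.presheaf.map (eqToHom (hpre i).symm).op)).1
  rw [← hy]
  simp only [← CommRingCat.comp_apply]
  congr 2
  simp only [Scheme.Hom.appLE, Scheme.Opens.topIso, Category.assoc]
  simp [← Functor.map_comp]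
  rw [r.naturality_assoc, ← Functor.map_comp]
  rfl

/-- The generators give a cover by affine loci, with rings generated by the base and the ratios. -/
theorem exists_chart_sections [IsNoetherianRing A] (hb : BlowUp.IsBlowUp b (centre (ctr a)))
    (ha : ∀ i, a i ∈ nonZeroDivisors A) :
    ∃ (σ : Fin (n + 1) → Γ(ClSub.idealMod (exc a b), ⊤)) (U : Fin (n + 1) → X.Opens),
      (∀ i, IsAffineOpen (U i)) ∧ (∀ x, ∃ i, x ∈ U i) ∧ (∀ i, H23.TrivBasic.locus (σ i) = U i) ∧
      ∀ (i : Fin (n + 1)) (S : Subring Γ(X, U i)), (∀ c, strHom b (U i) c ∈ S) →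
        (∀ j (β : Γ(X, U i)), AModX.res (ClSub.idealMod (exc a b)) (le_top : U i ≤ ⊤) (σ j) =
          β • AModX.res (ClSub.idealMod (exc a b)) (le_top : U i ≤ ⊤) (σ i) → β ∈ S) → S = ⊤ := by
  classical
  obtain ⟨Cd⟩ := exists_charts a b hb ha
  let K := exc a b
  let M := ClSub.idealMod K
  have hM : PicF.IsInvertible M := (S8914.result K).2 hb.1
  choose σ hσ using fun i => exists_genTop (a := a) (b := b) i
  have hfr : ∀ i, InvX.IsFrame (AModX.res M (le_top : (Cd.U i).1 ≤ ⊤) (σ i)) := fun i => by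
    refine ExtShX.isFrame_of_affine fun V hV hVa => ?_
    have hI := gen_res Cd i (W := ⟨V, hVa⟩) hV
    have hsect : ∀ r : Γ(X, V), OmegaSh.idealSect K V (r • AModX.res M hV (AModX.res M (le_top : (Cd.U i).1 ≤ ⊤) (σ i))) =
        r * strHom b V (a i) := fun r => by
      rw [OmegaLib.idealSect_smul, AModX.res_res]
      refine congrArg (r * ·) ((OmegaLib.idealSect_map K (le_top : V ≤ ⊤) (σ i)).trans ?_)
      rw [hσ i]
      exact strHom_res b _ _
    refine ⟨fun r r' h => ?_, fun z => ?_⟩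
    · have h1 := congrArg (OmegaSh.idealSect K V) h
      rw [hsect, hsect] at h1
      exact mul_cancel_right_mem_nonZeroDivisors
        (ModPairLib.generator_mem_nonZeroDivisors hb.1 hI) |>.1 h1
    · have h1 := OmegaLib.idealSect_mem K ⟨V, hVa⟩ z
      rw [hI, Ideal.mem_span_singleton'] at h1
      obtain ⟨r, hr⟩ := h1
      exact ⟨r, OmegaLib.idealSect_injective _ _ ((hsect r).trans hr)⟩
  have hloc : ∀ i, (Cd.U i).1 ≤ H23.TrivBasic.locus (σ i) := fun i x hx =>
    H23.TrivBasic.mem_locus_iff.2 ⟨(Cd.U i).1, hx, hfr i⟩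
  have hcov : ∀ x, ∃ i, x ∈ H23.TrivBasic.locus (σ i) := fun x => (Cd.cover x).imp fun i hi => hloc i hi
  have hlocus : ∀ i, H23.TrivBasic.locus (σ i) = (Cd.U i).1 := fun i => by
    refine le_antisymm (fun x hx => ?_) (hloc i)
    obtain ⟨V, hxV, hV⟩ := H23.TrivBasic.mem_locus_iff.1 hx
    obtain ⟨W, hW, hxW, hWV⟩ := exists_isAffineOpen_mem_and_subset (X := X) hxV
    refine Cd.max i ⟨W, hW⟩ ?_ hxW
    have hVW : InvX.IsFrame (AModX.res M (le_top : W ≤ ⊤) (σ i)) := by
      rw [← AModX.res_res (le_top : V ≤ ⊤) hWV]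
      exact hV.res hWV
    refine le_antisymm (fun z hz => ?_) ((Ideal.span_singleton_le_iff_mem _).2 ?_)
    · obtain ⟨k, hk⟩ := OmegaLib.exists_of_mem K ⟨W, hW⟩ z hz
      obtain ⟨c, hc⟩ := hVW.exists_coord le_rfl k
      rw [AModX.res_self] at hc
      refine Ideal.mem_span_singleton'.2 ⟨c, ?_⟩
      rw [← hk, hc, OmegaLib.idealSect_smul]
      refine congrArg (c * ·) ?_
      exact ((OmegaLib.idealSect_map K (le_top : W ≤ ⊤) (σ i)).trans (by rw [hσ i]; exact strHom_res b _ _)).symm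
    · show _ ∈ ((centre (ctr a)).comap b).ideal ⟨W, hW⟩
      rw [ideal_comap_centre]
      exact Ideal.mem_map_of_mem _ (gen_mem_ctr a i)
  refine ⟨σ, fun i => (Cd.U i).1, fun i => (Cd.U i).2, Cd.cover, hlocus, fun i S hA hβS => ?_⟩
  let s := strHom b (Cd.U i).1 (a i)
  have hs : s ∈ nonZeroDivisors Γ(X, (Cd.U i).1) := Cd.regular i _ (ha i)
  have hj : ∀ j, ∃ β ∈ S, strHom b (Cd.U i).1 (a j) = β * s := fun j => by
    obtain ⟨β, hβ⟩ := (hfr i).exists_coord le_rfl (AModX.res M (le_top : (Cd.U i).1 ≤ ⊤) (σ j))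
    rw [AModX.res_self] at hβ
    refine ⟨β, hβS j β hβ, ?_⟩
    have h := congrArg (OmegaSh.idealSect K (Cd.U i).1) hβ
    rw [OmegaLib.idealSect_smul] at h
    have hh : ∀ l, OmegaSh.idealSect K (Cd.U i).1 (AModX.res M (le_top : (Cd.U i).1 ≤ ⊤) (σ l)) =
        strHom b (Cd.U i).1 (a l) := fun l =>
      (OmegaLib.idealSect_map K _ (σ l)).trans (by rw [hσ l]; exact strHom_res b _ _)
    rwa [hh, hh] at h
  have hpow : ∀ (N : ℕ) (x : A), x ∈ ctr a ^ N → ∃ γ ∈ S, strHom b (Cd.U i).1 x = γ * s ^ N := by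
    intro N
    induction N with
    | zero => exact fun x _ => ⟨_, hA x, by rw [pow_zero, mul_one]⟩
    | succ N ih =>
      intro x hx
      rw [pow_succ] at hx
      refine Submodule.mul_induction_on hx (fun u hu v hv => ?_) ?_
      · obtain ⟨γ, hγ, hu'⟩ := ih u hu
        obtain ⟨c, rfl⟩ := Ideal.mem_span_range_iff_exists_fun.1 hv
        choose β hβ hβ' using hj
        refine ⟨γ * ∑ l, strHom b (Cd.U i).1 (c l) * β l,
          S.mul_mem hγ (S.sum_mem fun l _ => S.mul_mem (hA _) (hβ l)), ?_⟩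
        rw [map_mul, map_sum, hu', Finset.mul_sum, Finset.mul_sum, Finset.sum_mul]
        refine Finset.sum_congr rfl fun l _ => ?_
        rw [map_mul, hβ' l, pow_succ]
        ring
      · rintro u v ⟨γ, hγ, hu⟩ ⟨δ, hδ, hv⟩
        exact ⟨γ + δ, S.add_mem hγ hδ, by rw [map_add, hu, hv, add_mul]⟩
  refine eq_top_iff.2 fun v _ => ?_
  obtain ⟨N, x, hx, hv⟩ := Cd.frac i v
  obtain ⟨γ, hγ, hγ'⟩ := hpow N x hx
  have : v = γ := (mul_cancel_left_mem_nonZeroDivisors (pow_mem hs N)).1 (hv.trans (hγ'.trans (mul_comm _ _)))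
  rwa [this]

/-- A blowing up along `n + 1` generators is closed in projective `n`-space, twisting to the exceptional ideal. -/
theorem exists_embedding_blowUp [IsNoetherianRing A] (hb : BlowUp.IsBlowUp b (centre (ctr a)))
    (ha : ∀ i, a i ∈ nonZeroDivisors A) :
    ∃ r : X ⟶ CohB1.ProjSpace n A, IsClosedImmersion r ∧ r ≫ CohB1.ProjSpace.toSpec n A = b ∧
      Nonempty ((Scheme.Modules.pullback r).obj (Twist.twistProjSpace n A 1) ≅ ClSub.idealMod (exc a b)) := by
  obtain ⟨σ, U, hU, hcov, hloc, hgen⟩ := exists_chart_sections hb ha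
  obtain ⟨r, hr, τ, hτ⟩ := S3572.result n b _ ((S8914.result _).2 hb.1) σ
    (AVAmple.generatedBy_of_locus σ fun x => (hcov x).imp fun i hi => (hloc i).ge hi)
  exact ⟨r, isClosedImmersion_of_charts b r hr τ σ hτ U hU hloc hgen, hr, ⟨τ⟩⟩

end Groth.Agent.ResolveX
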