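import Groth.Agent.ResolveX.BlowEmbed
import Groth.Agent.ResolveX.RegBlowBase
import Groth.Agent.AlgSpDec.BirationalNormalScheme
import Groth.Agent.H9Pur.Birational
import Groth.Agent.BlowExc.Main
import Groth.Agent.CurveCohLib.Proper
import Groth.Agent.GmDiv.DimOne
import Groth.Agent.H23.PnChart
import Groth.Agent.S10829
import Mathlib.AlgebraicGeometry.ZariskisMainTheorem

/-!
# The exceptional curve of a blown-up regular surface point is a line
-/

set_option autoImplicit false
set_option linter.style.haveILetI false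
set_option linter.unusedSectionVars false
set_option backward.isDefEq.respectTransparency false
set_option backward.isDefEq.respectTransparency.types false
set_option maxHeartbeats 1000000

universe u

open CategoryTheory CategoryTheory.Limits AlgebraicGeometry TopologicalSpace
open Groth.Agent.BlowUpLib

noncomputable section

namespace Groth.Agent.ResolveX

open Groth.Agent Groth.Agent.BlowCoh IsLocalRing

variable {A : Type u} [CommRing A] [IsRegularLocalRing A] {X : Scheme.{u}} {b : X ⟶ Spec (CommRingCat.of A)}

theorem exists_pair_gens (hA : ringKrullDim A = 2) :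
    ∃ a : Fin 2 → A, (∀ i, a i ∈ nonZeroDivisors A) ∧ ctr a = maximalIdeal A ∧
      ∀ z : A, maximalIdeal A ≠ Ideal.span {z} := by
  haveI := RegLoc6.isDomain_of_isRegularLocalRing A
  obtain ⟨x, y, hx, hy, hm⟩ := exists_regular_pair A hA
  refine ⟨![(x : A), (y : A)], fun i => mem_nonZeroDivisors_of_ne_zero (by fin_cases i <;> assumption), ?_,
    fun z hz => ?_⟩
  · show Ideal.span (Set.range ![(x : A), (y : A)]) = _
    rw [Matrix.range_cons_cons_empty]
    exact le_antisymm (Ideal.span_le.2 (by rintro _ (rfl | rfl); exacts [x.2, y.2])) hm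
  · have h := IsRegularLocalRing.spanFinrank_maximalIdeal (R := A)
    rw [hA] at h
    have h2 : Submodule.spanFinrank (maximalIdeal A) = 2 := by exact_mod_cast h
    have h1 := Submodule.spanFinrank_span_le_ncard_of_finite (R := A) (Set.finite_singleton z)
    rw [Set.ncard_singleton] at h1
    have : Submodule.spanFinrank (maximalIdeal A) ≤ 1 := by rw [hz]; exact h1
    omega

theorem isIntegral_blowUp (hA : ringKrullDim A = 2)
    (hb : BlowUp.IsBlowUp b (centre (maximalIdeal A))) : IsIntegral X := by
  obtain ⟨h1, h2, -⟩ := blowUp_props A hA b hb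
  haveI := h1
  haveI : ∀ z : X, _root_.IsReduced (X.presheaf.stalk z) := fun z => by
    haveI := h2 z
    haveI := RegLoc6.isDomain_of_isRegularLocalRing (X.presheaf.stalk z)
    infer_instance
  haveI : IsReduced X := isReduced_of_isReduced_stalk _
  exact isIntegral_of_irreducibleSpace_of_isReduced X

theorem isProper_blowUp (hb : BlowUp.IsBlowUp b (centre (maximalIdeal A))) : IsProper b := by
  obtain ⟨e, he, hfac⟩ := exists_iso_localBlowUp A (maximalIdeal A) b hb
  haveI : IsProper (toBase (maximalIdeal A)) := isProper_toBase (I := maximalIdeal A) (IsNoetherian.noetherian _)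
  rw [← hfac]
  infer_instance

theorem closedPoint_interior {p : Spec (CommRingCat.of A)} (hp : p ≠ closedPoint A) :
    p ∈ ModPair.interior (centre (maximalIdeal A)) := by
  show p ∉ ((centre (maximalIdeal A)).support : Set _)
  intro h
  haveI : IsClosedImmersion (Spec.map (CommRingCat.ofHom (Ideal.Quotient.mk (maximalIdeal A)))) :=
    IsClosedImmersion.spec_of_surjective _ Ideal.Quotient.mk_surjective
  rw [← BlowExc.ker_SpecMap_mk, Scheme.Hom.support_ker,
    (Spec.map (CommRingCat.ofHom (Ideal.Quotient.mk (maximalIdeal A)))).isClosedEmbedding.isClosed_range.closure_eq] at h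
  obtain ⟨w, rfl⟩ := h
  refine hp (PrimeSpectrum.ext ?_)
  refine ((maximalIdeal.isMaximal A).eq_of_le
    ((Spec.map (CommRingCat.ofHom (Ideal.Quotient.mk (maximalIdeal A)))) w).isPrime.ne_top ?_).symm
  intro r hr
  show Ideal.Quotient.mk (maximalIdeal A) r ∈ (w : PrimeSpectrum _).asIdeal
  rw [Ideal.Quotient.eq_zero_iff_mem.2 hr]
  exact zero_mem _

/-- The exceptional fibre is not finite. -/
theorem not_finite_exceptional (hA : ringKrullDim A = 2) (hb : BlowUp.IsBlowUp b (centre (maximalIdeal A))) :
    ¬ (b ⁻¹' {closedPoint A}).Finite := by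
  intro hfin
  haveI := RegLoc6.isDomain_of_isRegularLocalRing A
  haveI := isIntegral_blowUp hA hb
  haveI := isProper_blowUp hb
  let U : (Spec (CommRingCat.of A)).Opens := ⟨{closedPoint A}ᶜ, (isClosed_singleton_closedPoint A).isOpen_compl⟩
  haveI hU : IsIso (b ∣_ U) := isIso_restrict hb U fun p hp => closedPoint_interior hp
  have hinj : ∀ z z', b z ∈ U → b z = b z' → z = z' := fun z z' hz he => by
    have h := (b ∣_ U).homeomorph.injective (a₁ := ⟨z, hz⟩) (a₂ := ⟨z', show b z' ∈ U from he ▸ hz⟩) (Subtype.ext ((morphismRestrict_base_coe b U ⟨z, hz⟩).trans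
      (he.trans (morphismRestrict_base_coe b U ⟨z', show b z' ∈ U from he ▸ hz⟩).symm)))
    exact congrArg Subtype.val h
  haveI : LocallyQuasiFinite b := by
    refine locallyQuasiFinite_iff_finite_preimage_singleton.2 fun p => ?_
    by_cases hp : p = closedPoint A
    · rw [hp]; exact hfin
    · exact Set.Subsingleton.finite fun z hz z' hz' =>
        hinj z z' (show b z ≠ closedPoint A from hz.symm ▸ hp) (hz.trans hz'.symm)
  haveI : IsFinite b := IsFinite.of_isProper_of_locallyQuasiFinite b
  have hne : (⟨⊥, Ideal.isPrime_bot⟩ : PrimeSpectrum A) ≠ closedPoint A := fun h => by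
    obtain ⟨-, -, -, hone⟩ := exists_pair_gens hA
    exact hone 0 (by rw [show maximalIdeal A = ⊥ from (congrArg PrimeSpectrum.asIdeal h).symm]; simp)
  have hgenU : genericPoint (Spec (CommRingCat.of A)) ∈ U := fun h => hne (by
    have h2 : (genericPoint (Spec (CommRingCat.of A))) ⤳ (⟨⊥, Ideal.isPrime_bot⟩ : PrimeSpectrum A) :=
      (genericPoint_spec _).specializes trivial
    rw [show genericPoint (Spec (CommRingCat.of A)) = closedPoint A from h] at h2
    exact h2.mem_closed (isClosed_singleton_closedPoint A) rfl)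
  obtain ⟨⟨z, hz⟩, hz'⟩ := (b ∣_ U).homeomorph.surjective ⟨_, hgenU⟩
  have hbz : b z = genericPoint (Spec (CommRingCat.of A)) := by
    rw [← morphismRestrict_base_coe b U ⟨z, hz⟩]
    exact congrArg Subtype.val hz'
  have hbg : b (genericPoint X) = genericPoint (Spec (CommRingCat.of A)) := by
    have h1 : b (genericPoint X) ⤳ b z := ((genericPoint_spec X).specializes trivial).map b.continuous
    rw [hbz] at h1
    exact (h1.antisymm ((genericPoint_spec _).specializes trivial)).eq
  haveI : IsIso b := by
    haveI : IsNoetherianRing A := inferInstance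
    refine AlgSpDec.BiratNormal.isIso_of_birational b (H9Pur.isNormalScheme_of_regular fun p => ?_)
      NoetherianSpace.finite_irreducibleComponents ?_ fun w hw => ?_
    · haveI := S0564.result A p.asIdeal
      exact IsRegularLocalRing.of_ringEquiv (StructureSheaf.stalkIso A p).toRingEquiv
    · rw [genericPoints_eq_singleton, genericPoints_eq_singleton, Set.bijOn_singleton]
      exact hbg
    · rw [genericPoints_eq_singleton] at hw
      rw [Set.mem_singleton_iff.1 hw]
      have hgU : genericPoint X ∈ b ⁻¹ᵁ U := show b (genericPoint X) ∈ U from hbg.symm ▸ hgenU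
      have hi := (MorphismProperty.isomorphisms CommRingCat).arrow_mk_iso_iff
        (morphismRestrictStalkMap b U ⟨genericPoint X, hgU⟩)
      exact hi.1 (inferInstanceAs (IsIso ((b ∣_ U).stalkMap ⟨genericPoint X, hgU⟩)))
  obtain ⟨V, hV, g, -, hg⟩ := (BlowUpLib.isEffCartier_comap_flat (inv b)
    hb.1) (closedPoint A)
  rw [← Scheme.IdealSheafData.comap_comp, IsIso.inv_hom_id, Scheme.IdealSheafData.comap_id] at hg
  have hVtop : V.1 = ⊤ := top_le_iff.1 fun p _ => (IsLocalRing.specializes_closedPoint p).mem_open V.1.isOpen hV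
  obtain ⟨V, hVa⟩ := V
  change V = ⊤ at hVtop
  subst hVtop
  rw [centre_top] at hg
  obtain ⟨-, -, -, hone⟩ := exists_pair_gens hA
  refine hone ((Scheme.ΓSpecIso (CommRingCat.of A)).hom g) ?_
  have h := congrArg (Ideal.map (Scheme.ΓSpecIso (CommRingCat.of A)).hom.hom) hg
  rw [Ideal.map_map, ← CommRingCat.hom_comp, Iso.inv_hom_id, CommRingCat.hom_id, Ideal.map_id, Ideal.map_span,
    Set.image_singleton] at h
  exact h

/-- The exceptional divisor is a line over the residue field, with conormal sheaf `O(1)`. -/
theorem exists_projLine_exceptional (hA : ringKrullDim A = 2) (hb : BlowUp.IsBlowUp b (centre (maximalIdeal A))) :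
    ∃ e : CohB1.ProjSpace 1 (ResidueField A) ≅ ((centre (maximalIdeal A)).comap b).subscheme,
      e.hom ≫ ((centre (maximalIdeal A)).comap b).subschemeι ≫ b =
        CohB1.ProjSpace.toSpec 1 (ResidueField A) ≫ Spec.map (CommRingCat.ofHom (residue A)) ∧
      Nonempty ((Scheme.Modules.pullback (e.hom ≫ ((centre (maximalIdeal A)).comap b).subschemeι)).obj
        (ClSub.idealMod ((centre (maximalIdeal A)).comap b)) ≅ Twist.twistProjSpace 1 (ResidueField A) 1) := by
  classical
  haveI := RegLoc6.isDomain_of_isRegularLocalRing A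
  haveI := isProper_blowUp hb
  obtain ⟨a, ha, hctr, -⟩ := exists_pair_gens hA
  have hexc : exc a b = (centre (maximalIdeal A)).comap b := by show (centre (ctr a)).comap b = _; rw [hctr]
  have hb' : BlowUp.IsBlowUp b (centre (ctr a)) := by rwa [hctr]
  rw [← hexc]
  obtain ⟨σ, U, hU, hcov, hloc, hgen⟩ := exists_chart_sections hb' ha
  let K := exc a b
  let j : K.subscheme ⟶ X := K.subschemeι
  let jk := Spec.map (CommRingCat.ofHom (residue A))
  haveI : IsClosedImmersion jk := IsClosedImmersion.spec_of_surjective _ residue_surjective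
  have hker : jk.ker ≤ (j ≫ b).ker := by
    rw [← Scheme.IdealSheafData.map_ker, show j.ker = K from K.ker_subschemeι,
      Scheme.IdealSheafData.le_map_iff_comap_le]
    show jk.ker.comap b ≤ (centre (ctr a)).comap b
    rw [hctr, show jk.ker = centre (maximalIdeal A) from BlowExc.ker_SpecMap_mk (maximalIdeal A)]
  let π := IsClosedImmersion.lift jk (j ≫ b) hker
  have hπ : π ≫ jk = j ≫ b := IsClosedImmersion.lift_fac _ _ _
  haveI : IsProper (π ≫ jk) := hπ ▸ inferInstance
  haveI : IsProper π := IsProper.of_comp π jk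
  let M := ClSub.idealMod K
  have hM : PicF.IsInvertible M := (S8914.result K).2 hb'.1
  let L := (Scheme.Modules.pullback j).obj M
  have hL : PicF.IsInvertible L := PicClLib.isInvertible_pullback j hM
  let s : Fin 2 → Γ(L, ⊤) := fun i => InvX.pullElt j (σ i)
  have hsloc : ∀ i, H23.TrivBasic.locus (s i) = j ⁻¹ᵁ U i := fun i => by
    rw [← hloc i]
    exact H23.TrivBasic.locus_pullElt hM j (σ i)
  obtain ⟨r, hr, τ, hτ⟩ := S3572.result 1 π L hL s (AVAmple.generatedBy_of_locus s fun x =>
    (hcov (j x)).imp fun i hi => (hsloc i).ge hi)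
  haveI hri : IsClosedImmersion r := by
    refine isClosedImmersion_of_charts π r hr τ s hτ (fun i => j ⁻¹ᵁ U i) (fun i => (hU i).preimage j) hsloc
      fun i S hS hβS => ?_
    let φ : Γ(X, U i) →+* Γ(K.subscheme, j ⁻¹ᵁ U i) := (j.app (U i)).hom
    have hφs : Function.Surjective φ := j.app_surjective (U i) (hU i)
    have h : Subring.comap φ S = ⊤ := hgen i (Subring.comap φ S) (fun c => by
      show φ (strHom b (U i) c) ∈ S
      convert hS (residue A c) using 1
      show j.app (U i) (b.appLE ⊤ (U i) le_top ((Scheme.ΓSpecIso (CommRingCat.of A)).inv c)) =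
        π.appLE ⊤ (j ⁻¹ᵁ U i) le_top ((Scheme.ΓSpecIso (CommRingCat.of (ResidueField A))).inv (residue A c))
      have h1 := ConcreteCategory.congr_hom (Scheme.ΓSpecIso_inv_naturality (CommRingCat.ofHom (residue A))) c
      refine Eq.trans ?_ (congrArg (π.appLE ⊤ (j ⁻¹ᵁ U i) le_top) h1.symm)
      show (b.appLE ⊤ (U i) le_top ≫ j.app (U i)) _ = (jk.appTop ≫ π.appLE ⊤ (j ⁻¹ᵁ U i) le_top) _
      rw [Scheme.Hom.app_eq_appLE, Scheme.Hom.appLE_comp_appLE,
        show jk.appTop = jk.appLE ⊤ ⊤ le_rfl from Scheme.Hom.app_eq_appLE jk, Scheme.Hom.appLE_comp_appLE]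
      simp only [hπ]
      rfl) fun k β hβ => by
        refine hβS k (φ β) ?_
        have h2 := congrArg (fun m => InvX.pullElt j m) hβ
        simp only [← InvX.res_pullElt, InvX.pullElt_smul] at h2
        exact h2
    exact eq_top_iff.2 fun v _ => by
      obtain ⟨u, rfl⟩ := hφs v
      exact (show u ∈ Subring.comap φ S by rw [h]; trivial)
  haveI : IsIntegral (CohB1.ProjSpace 1 (ResidueField A)) := H23.PnChart.isIntegral_projSpace 1 (ResidueField A)
  haveI : IsProper (CohB1.ProjSpace.toSpec 1 (ResidueField A)) := PnCoh.Chow.isProper_toSpec 1 _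
  haveI : IsNoetherian (CohB1.ProjSpace 1 (ResidueField A)) :=
    { toIsLocallyNoetherian := LocallyOfFiniteType.isLocallyNoetherian (CohB1.ProjSpace.toSpec 1 (ResidueField A))
      toCompactSpace := QuasiCompact.compactSpace_of_compactSpace (CohB1.ProjSpace.toSpec 1 (ResidueField A)) }
  have hdim : topologicalKrullDim ↥(CohB1.ProjSpace 1 (ResidueField A)) = 1 := by
    simpa using S10829.result (ResidueField A) 1
  have hgenr : genericPoint (CohB1.ProjSpace 1 (ResidueField A)) ∈ Set.range r := by
    by_contra hn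
    have hfinr : (Set.range r).Finite :=
      CurveCohLib.finite_of_closedPoints r.isClosedEmbedding.isClosed_range fun p hp =>
        GmDiv.isClosed_singleton_of_dim hdim.le fun h => hn
          ((h _ ((genericPoint_spec _).specializes trivial)).symm ▸ hp)
    have hfinE : (Set.univ : Set K.subscheme).Finite :=
      Set.Finite.of_finite_image (Set.image_univ ▸ hfinr) r.isClosedEmbedding.injective.injOn
    refine not_finite_exceptional hA hb ((hfinE.image j).subset fun z hz => ?_)
    have hz' : z ∈ (K.support : Set X) := by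
      show z ∈ (((centre (ctr a)).comap b).support : Set X)
      rw [Scheme.IdealSheafData.support_comap, hctr]
      show b z ∈ ((centre (maximalIdeal A)).support : Set _)
      rw [hz, ← BlowExc.ker_SpecMap_mk, Scheme.Hom.support_ker]
      exact subset_closure ⟨closedPoint (ResidueField A), IsLocalRing.comap_closedPoint (residue A)⟩
    rw [← K.range_subschemeι] at hz'
    obtain ⟨w, hw⟩ := hz'
    exact ⟨w, trivial, hw⟩
  haveI : Surjective r := ⟨fun p =>
    ((genericPoint_spec (CohB1.ProjSpace 1 (ResidueField A))).specializes trivial).mem_closed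
      r.isClosedEmbedding.isClosed_range hgenr⟩
  haveI : IsIso r := isIso_of_isClosedImmersion_of_surjective r
  refine ⟨(asIso r).symm, ?_, ⟨?_⟩⟩
  · show inv r ≫ j ≫ b = _
    rw [← hπ, ← Category.assoc, ← hr, IsIso.inv_hom_id_assoc]
  · exact (Scheme.Modules.pullbackComp (inv r) j).symm.app M ≪≫
      (Scheme.Modules.pullback (inv r)).mapIso τ.symm ≪≫ (Scheme.Modules.pullbackComp (inv r) r).app _ ≪≫
      (Scheme.Modules.pullbackCongr (IsIso.inv_hom_id r)).app _ ≪≫ (Scheme.Modules.pullbackId _).app _

end Groth.Agent.ResolveX
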