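import Groth.Agent.ArInt.GGDivisor
import Groth.Agent.Big.AffineBoundary
import Groth.Agent.ArInt.Fibre
import Groth.Agent.ArInt.PicKernel
import Groth.Agent.AmpleX.ExtendQS
import Groth.Agent.AmpleX.Sect
import Groth.Agent.PicCurve.DivClass
import Groth.Agent.PicCurve.Alb.Classes
import Groth.Agent.SurfRR.Divisors
import Groth.Agent.JetNef.Main

/-!
# Invertible modules trivial off a prime effective Cartier divisor
-/

set_option autoImplicit false
set_option linter.style.haveILetI false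
set_option linter.unusedSectionVars false
set_option backward.isDefEq.respectTransparency false
set_option backward.isDefEq.respectTransparency.types false
set_option maxHeartbeats 1000000

universe u

open CategoryTheory CategoryTheory.Limits AlgebraicGeometry TopologicalSpace
open Groth.Agent.H23.PicMul

noncomputable section

namespace Groth.Agent.ResolveX

open Groth.Agent

variable {W : Scheme.{u}}

theorem cl_idealMod_pow {K : W.IdealSheafData} (hK : BlowUp.IsEffCartierIdeal K) :
    ∀ n : ℕ, PicF.cl (ClSub.idealMod (K ^ n)) = PicF.cl (ClSub.idealMod K) ^ n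
  | 0 => by
    rw [pow_zero, pow_zero, Scheme.IdealSheafData.one_eq_top]
    exact ArInt.cl_idealMod_top W
  | n + 1 => by
    rw [pow_succ, pow_succ, SurfRR.cl_idealMod_mul (JetNef.isEffCartier_pow hK n) hK, cl_idealMod_pow hK n]

/-- An invertible module with a frame off a prime divisor is a power of its ideal. -/
theorem exists_cl_pow_of_frame [IsIntegral W] [IsNoetherian W] {K : W.IdealSheafData}
    (hK : BlowUp.IsEffCartierIdeal K) (hKi : IsIntegral K.subscheme) {L : W.Modules} (hL : PicF.IsInvertible L)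
    (U : W.Opens) (hU : (U : Set W) = (K.support : Set W)ᶜ) (hne : (U : Set W).Nonempty)
    {σ : Γ(L, U)} (hσ : InvX.IsFrame σ) :
    ∃ i j : ℕ, PicF.cl L * PicF.cl (ClSub.idealMod K) ^ i = PicF.cl (ClSub.idealMod K) ^ j := by
  classical
  obtain ⟨M, s, hM, hz⟩ := PicCurve.exists_line K hK
  have hclM : PicF.cl M * PicF.cl (ClSub.idealMod K) = 1 := by
    have h := PicCurve.Alb.cl_mul_idl hM s (by
      show BlowUp.IsEffCartierIdeal (PicF2.zeroScheme M (InvX.ofSect s))
      rw [hz]; exact hK)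
    rwa [hz] at h
  -- the locus of the canonical section
  have hloc : CohB1.genLocus M (InvX.ofSect s) = U := by
    rw [AmpleX.genLocus_eq_locus, InvX.one_ofSect]
    refine Opens.ext (Set.ext fun x => ?_)
    rw [hU]
    obtain ⟨U₀, hxU₀, e, he⟩ := InvX.exists_frame hM x
    obtain ⟨V, hV, hxV, hle⟩ := exists_isAffineOpen_mem_and_subset (show x ∈ U₀ from hxU₀)
    have hle' : V ≤ U₀ := hle
    obtain ⟨c, hc⟩ := (he.res hle').exists_coord le_rfl (AModX.res M (le_top : V ≤ ⊤) s)
    rw [AModX.res_self] at hc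
    have hl := AmpleX.locus_inf s le_top (he.res hle') hc
    have hideal : K.ideal ⟨V, hV⟩ = Ideal.span {c} := by
      rw [← hz, ZeroSchX.ideal_zeroScheme hM _ ⟨V, hV⟩,
        ZeroSchX.zeroIdealOn_eq_span _ (he.res hle') ((PicCurve.sv_ofSect s V).trans hc)]
    show x ∈ AmpleX.locus s ↔ x ∉ K.support
    rw [Scheme.IdealSheafData.mem_support_iff_of_mem (U := ⟨V, hV⟩) hxV, hideal, Scheme.zeroLocus_span,
      Scheme.zeroLocus_singleton]
    show _ ↔ ¬ x ∉ (W.basicOpen c : Set W)
    rw [not_not, ← hl]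
    exact ⟨fun h => ⟨h, hxV⟩, fun h => h.1⟩
  -- extend the frame after twisting
  let G := CohB1.genLocus M (InvX.ofSect s)
  have hGU : G ≤ U := hloc.le
  obtain ⟨n, hn⟩ := AmpleX.exists_extend' (ProjUPX.isQCoh_of_isInvertible hL) hM (InvX.ofSect s)
    (AModX.res L hGU σ)
  obtain ⟨T, hT⟩ := hn (n + 1) n.le_succ
  let N := CohB1.tensorMod L (CohB1.tensorPow M (n + 1))
  have hN : PicF.IsInvertible N := isInvertible_tensor hL (isInvertible_tensorPow hM _)
  have hone : InvX.IsFrame (AModX.res M (le_top : G ≤ ⊤) (InvX.one (InvX.ofSect s))) :=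
    AmpleX.isFrame_res_of_le _ (AmpleX.genLocus_eq_locus _).le
  have hUT : U ≤ AmpleX.locus T := by
    rw [← hloc]
    refine AmpleX.le_locus T le_top ?_
    rw [hT]
    refine InvX.isFrame_tmul (hσ.res hGU) ?_
    have h1 : AmpleX.locus (AmpleX.powElt (AModX.res M (le_top : G ≤ ⊤) (InvX.one (InvX.ofSect s))) (n + 1)) = G := by
      rw [AmpleX.locus_powElt hM]
      exact le_antisymm (AmpleX.locus_le _) (AmpleX.le_locus _ le_rfl (by rw [AModX.res_self]; exact hone))
    have h2 := AmpleX.isFrame_res_of_le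
      (AmpleX.powElt (AModX.res M (le_top : G ≤ ⊤) (InvX.one (InvX.ofSect s))) (n + 1)) h1.ge
    rwa [AModX.res_self] at h2
  have hT0 : T ≠ 0 := fun h0 => by
    obtain ⟨x, hx⟩ := hne
    obtain ⟨V, hV, hxV, hfr⟩ := AmpleX.mem_locus.1 (hUT hx)
    haveI : Nonempty (V : Scheme.{u}) := ⟨⟨x, hxV⟩⟩
    have h1 : AModX.res N hV T = 0 := by rw [h0]; exact map_zero _
    refine one_ne_zero (α := Γ(W, V)) (hfr.coord_unique le_rfl ?_)
    rw [h1, map_zero, smul_zero, smul_zero]
  obtain ⟨B, hB, hBs, hBc⟩ := Big.AffineBd.exists_divisor_of_locus hN T hT0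
  obtain ⟨a, ha⟩ := CartierExt.exists_prod_eq (fun _ : Fin 1 => K) (fun _ => hK) (fun _ => hKi) B hB fun z hz => by
    refine Set.mem_iUnion.2 ⟨0, ?_⟩
    rw [hBs] at hz
    by_contra hzK
    exact hz (hUT (hU.ge hzK))
  rw [Fin.prod_univ_one] at ha
  refine ⟨a 0, n + 1, ?_⟩
  rw [cl_tensor, cl_tensorPow, ha, cl_idealMod_pow hK] at hBc
  have h2 : PicF.cl M ^ (n + 1) * PicF.cl (ClSub.idealMod K) ^ (n + 1) = 1 := by rw [← mul_pow, hclM, one_pow]
  calc PicF.cl L * PicF.cl (ClSub.idealMod K) ^ a 0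
      = PicF.cl L * PicF.cl (ClSub.idealMod K) ^ a 0 * (PicF.cl M ^ (n + 1) * PicF.cl (ClSub.idealMod K) ^ (n + 1)) := by
        rw [h2, mul_one]
    _ = PicF.cl L * PicF.cl M ^ (n + 1) * PicF.cl (ClSub.idealMod K) ^ a 0 * PicF.cl (ClSub.idealMod K) ^ (n + 1) := by
        rw [← mul_assoc, mul_right_comm (PicF.cl L) (PicF.cl (ClSub.idealMod K) ^ a 0)]
    _ = _ := by rw [hBc, one_mul]

end Groth.Agent.ResolveX
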