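import Groth.Agent.ResolveX.BlowPush
import Groth.Agent.ResolveX.DivFrame
import Groth.Agent.InvUfdLib.Extend
import Groth.Agent.CanonDual.GGCrit
import Groth.Agent.H23.SeesawGlobal
import Groth.Agent.ArInt.ExcCurve
import Groth.Agent.S2348

/-!
# Invertible modules on the blow-up of a regular point
-/

set_option autoImplicit false
set_option linter.style.haveILetI false
set_option linter.unusedSectionVars false
set_option backward.isDefEq.respectTransparency false
set_option backward.isDefEq.respectTransparency.types false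
set_option maxHeartbeats 1000000

universe u

open CategoryTheory CategoryTheory.Limits AlgebraicGeometry TopologicalSpace
open Groth.Agent.H23.PicMul

attribute [local instance 2000] CategoryTheory.CategoryStruct.toQuiver

noncomputable section

namespace Groth.Agent.ResolveX

open Groth.Agent

attribute [local instance] ArInt.lineOver

/-- Powers of `O(1)` on the line are distinct. -/
theorem twist_pow_injective (κ : Type u) [Field κ] {i j : ℕ}
    (h : PicF.cl (Twist.twistProjSpace 1 κ 1) ^ i = PicF.cl (Twist.twistProjSpace 1 κ 1) ^ j) : i = j := by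
  haveI := ArInt.isProper_line κ
  haveI : IsIntegral (CohB1.ProjSpace 1 κ) := H23.PnChart.isIntegral_projSpace 1 κ
  have hT := ArInt.isInvertible_twist κ 1
  rw [← cl_tensorPow, ← cl_tensorPow, cl_eq_iff] at h
  obtain ⟨φ⟩ := h
  have h1 := CurveRR.deg_congr κ φ 1
  rw [CanonDual.deg_tensorPow (k := κ) (ArInt.dim_line κ).le hT, CanonDual.deg_tensorPow (k := κ) (ArInt.dim_line κ).le hT,
    show Curv2.deg κ (CohB1.ProjSpace 1 κ) (Twist.twistProjSpace 1 κ 1) 1 = ((1 : ℕ) : ℤ) from ArInt.deg_twist_nat κ 1] at h1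
  push_cast at h1
  omega

variable {Y X : Scheme.{u}} [IsLocallyNoetherian Y] (y : Y) (hy : IsClosed ({y} : Set Y))
  [IsRegularLocalRing (Y.presheaf.stalk y)] {b : X ⟶ Y}
  (hdim : ringKrullDim (Y.presheaf.stalk y) = 2)
  (hb : BlowUp.IsBlowUp b (Scheme.IdealSheafData.vanishingIdeal ⟨{y}, hy⟩))

/-- The exceptional ideal. -/
abbrev excIdeal (hy : IsClosed ({y} : Set Y)) (b : X ⟶ Y) : X.IdealSheafData :=
  (Scheme.IdealSheafData.vanishingIdeal ⟨{y}, hy⟩).comap b

include hdim hb in
/-- Near the exceptional curve an invertible module is a power of the exceptional ideal. -/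
theorem exists_pow_nhd {L : X.Modules} (hL : PicF.IsInvertible L) :
    ∃ V : Y.Opens, y ∈ V ∧ ∃ i j : ℕ,
      PicF.pullCl (b ⁻¹ᵁ V).ι (PicF.cl L) * PicF.pullCl (b ⁻¹ᵁ V).ι (PicF.cl (ClSub.idealMod (excIdeal y hy b))) ^ i =
        PicF.pullCl (b ⁻¹ᵁ V).ι (PicF.cl (ClSub.idealMod (excIdeal y hy b))) ^ j := by
  haveI := RegLoc6.isDomain_of_isRegularLocalRing (Y.presheaf.stalk y)
  haveI : UniqueFactorizationMonoid (Y.presheaf.stalk y) := (S2821.result _).2
  have hb' := bijective_app y hy hdim hb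
  obtain ⟨e, he, -⟩ := exists_projLine_exceptional_point y hy hdim hb
  obtain ⟨V₀, hyV₀, hV₀int, m₀, hm₀⟩ := InvUfdLib.exists_frame_at ((Scheme.Modules.pushforward b).obj L) (off y hy)
    (fun p hp => exists_frame_push_off y hy hb hb' hL hp) y
  obtain ⟨V, hV, hyV, hVV₀⟩ := exists_isAffineOpen_mem_and_subset (show y ∈ V₀ from hyV₀)
  have hVV₀' : V ≤ V₀ := hVV₀
  haveI : IsIntegral V₀.toScheme := hV₀int
  haveI : Nonempty V.toScheme := ⟨⟨y, hyV⟩⟩
  haveI : IsIntegral V.toScheme := isIntegral_of_isOpenImmersion (Y.homOfLE hVV₀')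
  haveI : IsAffine V.toScheme := hV
  let m := AModX.res ((Scheme.Modules.pushforward b).obj L)
    (inf_le_inf_right (off y hy) hVV₀' : V ⊓ off y hy ≤ V₀ ⊓ off y hy) m₀
  have hσ : InvX.IsFrame (show Γ(L, b ⁻¹ᵁ (V ⊓ off y hy)) from m) :=
    isFrame_of_push y hy hb inf_le_right (hm₀.res _)
  -- the piece of the blow-up
  let W := b ⁻¹ᵁ V
  let ι := W.ι
  haveI := isProper_point y hy hb
  haveI : IsLocallyNoetherian X := LocallyOfFiniteType.isLocallyNoetherian b
  haveI : IsLocallyNoetherian W.toScheme := inferInstance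
  haveI : IsProper (b ∣_ V) := IsZariskiLocalAtTarget.restrict (P := @IsProper) inferInstance V
  haveI : CompactSpace W.toScheme := QuasiCompact.compactSpace_of_compactSpace (b ∣_ V)
  haveI : IsNoetherian W.toScheme := {}
  -- it is integral
  obtain ⟨p, hpV, hpy⟩ : ∃ p ∈ V, p ≠ y := by
    refine ⟨V.ι (genericPoint V.toScheme), (genericPoint V.toScheme).2, fun hgy => ?_⟩
    have h0 : ringKrullDim (Y.presheaf.stalk (V.ι (genericPoint V.toScheme))) = 0 := by
      rw [ringKrullDim_eq_of_ringEquiv (asIso (V.ι.stalkMap (genericPoint V.toScheme))).commRingCatIsoToRingEquiv]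
      exact ringKrullDim_eq_zero_of_field V.toScheme.functionField
    rw [hgy, hdim] at h0
    exact absurd h0 (by norm_num)
  have hne : (Scheme.IdealSheafData.vanishingIdeal ⟨{y}, hy⟩).comap V.ι ≠ ⊥ := fun h => by
    have h1 := congrArg (fun I : V.toScheme.IdealSheafData => (I.support : Set V.toScheme)) h
    simp only [Scheme.IdealSheafData.support_comap, Scheme.IdealSheafData.support_bot] at h1
    have h2 : V.ι ⟨p, hpV⟩ ∈ ((Scheme.IdealSheafData.vanishingIdeal ⟨{y}, hy⟩).support : Set Y) := h1.ge trivial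
    rw [Scheme.IdealSheafData.coe_support_vanishingIdeal] at h2
    exact hpy h2
  haveI : IsIntegral W.toScheme :=
    (S2348.result _ hne (b ∣_ V) (BlowUpLib.isBlowUp_of_isPullback (isPullback_morphismRestrict b V) hb)).fst
  -- its exceptional divisor
  let K := excIdeal y hy b
  let K' := K.comap ι
  have hK' : BlowUp.IsEffCartierIdeal K' := BlowUpLib.isEffCartier_comap_flat ι hb.1
  have hrange : Set.range K.subschemeι ⊆ Set.range ι := by
    rw [Scheme.IdealSheafData.range_subschemeι, support_exceptional_point y hy, Scheme.Opens.range_ι]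
    intro z hz
    show b z ∈ V
    rw [show b z = y from hz]
    exact hyV
  let j : CohB1.ProjSpace 1 (Y.residueField y) ⟶ W.toScheme :=
    IsOpenImmersion.lift ι (e.hom ≫ K.subschemeι) (by
      rintro _ ⟨z, rfl⟩
      exact hrange ⟨e.hom z, rfl⟩)
  haveI : IsIso (pullback.snd ι K.subschemeι) := by
    haveI : Surjective (pullback.snd ι K.subschemeι) := ⟨fun z => by
      obtain ⟨w, hw⟩ := hrange ⟨z, rfl⟩
      obtain ⟨q, -, hq⟩ := Scheme.Pullback.exists_preimage_pullback w z hw
      exact ⟨q, hq⟩⟩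
    exact (isIso_iff_isOpenImmersion_and_surjective _).2 ⟨inferInstance, inferInstance⟩
  haveI : IsIntegral (CohB1.ProjSpace 1 (Y.residueField y)) := H23.PnChart.isIntegral_projSpace 1 _
  haveI : IsIntegral K.subscheme := IsIntegral.of_isIso e.hom
  haveI : IsIntegral (pullback ι K.subschemeι) := IsIntegral.of_isIso (inv (pullback.snd ι K.subschemeι))
  have hKi : IsIntegral K'.subscheme := IsIntegral.of_isIso (K.comapIso ι).inv
  -- the frame off the exceptional divisor
  let U' : W.toScheme.Opens := ι ⁻¹ᵁ (b ⁻¹ᵁ (V ⊓ off y hy))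
  have hU' : (U' : Set W.toScheme) = (K'.support : Set W.toScheme)ᶜ := by
    ext w
    rw [Set.mem_compl_iff, Scheme.IdealSheafData.support_comap]
    show (b (ι w) ∈ V ∧ b (ι w) ≠ y) ↔ ι w ∉ (K.support : Set X)
    rw [support_exceptional_point y hy]
    exact ⟨fun h => h.2, fun h => ⟨w.2, h⟩⟩
  have hU'ne : (U' : Set W.toScheme).Nonempty := by
    obtain ⟨z, hz⟩ := surjective_point y hy hdim hb p
    exact ⟨⟨z, show b z ∈ V from hz.symm ▸ hpV⟩, show b z ∈ V from hz.symm ▸ hpV, show b z ≠ y from hz.symm ▸ hpy⟩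
  obtain ⟨i, k, hik⟩ := exists_cl_pow_of_frame hK' hKi (PicClLib.isInvertible_pullback ι hL) U' hU' hU'ne
    (InvX.isFrame_pullElt ι hσ)
  obtain ⟨ψ⟩ := CurveAlgEquiv.nonempty_pullback_idealMod ι K (Big.isInvertible_ideal hb.1) K'
    (Big.isInvertible_ideal hK') rfl
  have hclK : PicF.pullCl ι (PicF.cl (ClSub.idealMod K)) = PicF.cl (ClSub.idealMod K') := cl_eq_iff.2 ⟨ψ⟩
  refine ⟨V, hyV, i, k, ?_⟩
  show PicF.pullCl ι (PicF.cl L) * PicF.pullCl ι (PicF.cl (ClSub.idealMod K)) ^ i =
    PicF.pullCl ι (PicF.cl (ClSub.idealMod K)) ^ k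
  rw [hclK]
  exact hik

include hdim hb in
/-- The class of the exceptional ideal restricts to `O(1)` on the exceptional line. -/
theorem exists_line_lift :
    ∃ (j : CohB1.ProjSpace 1 (Y.residueField y) ⟶ X) (e : CohB1.ProjSpace 1 (Y.residueField y) ≅ (excIdeal y hy b).subscheme),
      j = e.hom ≫ (excIdeal y hy b).subschemeι ∧ (∀ z, b (j z) = y) ∧
      PicF.pullCl j (PicF.cl (ClSub.idealMod (excIdeal y hy b))) = PicF.cl (Twist.twistProjSpace 1 (Y.residueField y) 1) := by
  obtain ⟨e, -, τ⟩ := exists_projLine_exceptional_point y hy hdim hb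
  refine ⟨_, e, rfl, fun z => ?_, cl_eq_iff.2 τ⟩
  have h : (e.hom ≫ (excIdeal y hy b).subschemeι) z ∈ b ⁻¹' {y} := by
    rw [← support_exceptional_point y hy, ← Scheme.IdealSheafData.range_subschemeι]
    exact ⟨e.hom z, rfl⟩
  exact h

include hdim hb in
/-- An invertible module trivial on the exceptional divisor has a frame near it. -/
theorem exists_frame_nhd {L : X.Modules} (hL : PicF.IsInvertible L)
    (htriv : Nonempty ((Scheme.Modules.pullback (excIdeal y hy b).subschemeι).obj L ≅ Coh.structureModule _)) :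
    ∃ V : Y.Opens, y ∈ V ∧ ∃ σ : Γ(L, b ⁻¹ᵁ V), InvX.IsFrame σ := by
  obtain ⟨V, hyV, i, k, hik⟩ := exists_pow_nhd y hy hdim hb hL
  obtain ⟨j, e, hj, hjy, hjI⟩ := exists_line_lift y hy hdim hb
  let ι := (b ⁻¹ᵁ V).ι
  let j' := IsOpenImmersion.lift ι j (by
    rw [Scheme.Opens.range_ι]
    rintro _ ⟨z, rfl⟩
    show b (j z) ∈ V
    rw [hjy]; exact hyV)
  have hj' : j' ≫ ι = j := IsOpenImmersion.lift_fac _ _ _
  have hjL : PicF.pullCl j (PicF.cl L) = 1 := by
    rw [hj, ← PicClLib.pullCl_comp,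
      show PicF.pullCl (excIdeal y hy b).subschemeι (PicF.cl L) = 1 from cl_eq_iff.2 htriv, pullCl_one]
  have h := congrArg (PicF.pullCl j') hik
  rw [pullCl_mul, pullCl_pow, pullCl_pow, PicClLib.pullCl_comp, PicClLib.pullCl_comp, hj', hjL, one_mul, hjI] at h
  have hik' := twist_pow_injective _ h
  subst hik'
  have hu : IsUnit (PicF.pullCl ι (PicF.cl (ClSub.idealMod (excIdeal y hy b))) ^ i) :=
    (isUnit_cl (PicClLib.isInvertible_pullback ι (Big.isInvertible_ideal hb.1))).pow i
  have h1 : PicF.pullCl ι (PicF.cl L) = 1 := hu.mul_eq_right.mp hik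
  obtain ⟨s, hs⟩ := H23.SeesawGlobal.exists_frame_of_triv ι (cl_eq_iff.1 h1 : Nonempty ((Scheme.Modules.pullback ι).obj L ≅ Coh.structureModule _))
  exact ⟨V, hyV, _, hs.res (show b ⁻¹ᵁ V ≤ ι.opensRange by rw [Scheme.Opens.opensRange_ι])⟩

include hdim hb in
/-- An invertible module trivial on the exceptional divisor comes from the base. -/
theorem exists_descent {L : X.Modules} (hL : PicF.IsInvertible L)
    (htriv : Nonempty ((Scheme.Modules.pullback (excIdeal y hy b).subschemeι).obj L ≅ Coh.structureModule _)) :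
    ∃ L' : Y.Modules, PicF.IsInvertible L' ∧ Nonempty ((Scheme.Modules.pullback b).obj L' ≅ L) := by
  have hb' := bijective_app y hy hdim hb
  obtain ⟨V, hyV, σ, hσ⟩ := exists_frame_nhd y hy hdim hb hL htriv
  have hfr : ∀ z : X, ∃ V : Y.Opens, b z ∈ V ∧ ∃ e : Γ(L, b ⁻¹ᵁ V), InvX.IsFrame e := fun z => by
    by_cases hz : b z = y
    · exact ⟨V, hz ▸ hyV, σ, hσ⟩
    · obtain ⟨U₀, hzU, e, he⟩ := InvX.exists_frame hL z
      obtain ⟨V', -, hV'⟩ := exists_preimage_eq y hy hb (U₀ ⊓ b ⁻¹ᵁ off y hy) inf_le_right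
      exact ⟨V', show z ∈ b ⁻¹ᵁ V' from hV'.ge ⟨hzU, hz⟩, _, he.res (show b ⁻¹ᵁ V' ≤ U₀ from hV'.le.trans inf_le_left)⟩
  refine ⟨(Scheme.Modules.pushforward b).obj L, InvX.isInvertible_of_frames fun p => ?_, ?_⟩
  · obtain ⟨z, rfl⟩ := surjective_point y hy hdim hb p
    obtain ⟨V', hz, e, he⟩ := hfr z
    exact ⟨V', hz, e, isFrame_push hb' he⟩
  · haveI := isIso_counit hb' hfr
    exact ⟨asIso ((Scheme.Modules.pullbackPushforwardAdjunction b).counit.app L)⟩

include hdim hb in
/-- Pulling invertible modules back to the blow-up is injective. -/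
theorem pullback_injective {L₁ L₂ : Y.Modules} (h₁ : PicF.IsInvertible L₁) (h₂ : PicF.IsInvertible L₂)
    (h : Nonempty ((Scheme.Modules.pullback b).obj L₁ ≅ (Scheme.Modules.pullback b).obj L₂)) :
    Nonempty (L₁ ≅ L₂) := by
  have hb' := bijective_app y hy hdim hb
  haveI := isIso_unit hb' h₁
  haveI := isIso_unit hb' h₂
  exact ⟨asIso ((Scheme.Modules.pullbackPushforwardAdjunction b).unit.app L₁) ≪≫
    (Scheme.Modules.pushforward b).mapIso h.some ≪≫
    (asIso ((Scheme.Modules.pullbackPushforwardAdjunction b).unit.app L₂)).symm⟩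

include hdim hb in
/-- A module from the base is trivial on the exceptional divisor. -/
theorem triv_exceptional {L' : Y.Modules} (hL' : PicF.IsInvertible L') {E : Scheme.{u}} (ι : E ⟶ X)
    (hι : ∀ z, b (ι z) = y) :
    Nonempty ((Scheme.Modules.pullback (ι ≫ b)).obj L' ≅ Coh.structureModule E) := by
  obtain ⟨U, hyU, e, he⟩ := InvX.exists_frame hL' y
  refine H23.TrivBasic.triv_of_frame (e := AModX.res _ (show (⊤ : E.Opens) ≤ (ι ≫ b) ⁻¹ᵁ U from fun z _ => ?_) (InvX.pullElt (ι ≫ b) e))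
    ((InvX.isFrame_pullElt (ι ≫ b) he).res _)
  show b (ι z) ∈ U
  rw [hι]; exact hyU

include hdim hb in
/-- Over a base in which every neighbourhood of the point is everything, the power is global. -/
theorem exists_pow_global (hnhd : ∀ V : Y.Opens, y ∈ V → V = ⊤) {L : X.Modules} (hL : PicF.IsInvertible L) :
    ∃ i j : ℕ, PicF.cl L * PicF.cl (ClSub.idealMod (excIdeal y hy b)) ^ i =
      PicF.cl (ClSub.idealMod (excIdeal y hy b)) ^ j := by
  obtain ⟨V, hyV, i, j, h⟩ := exists_pow_nhd y hy hdim hb hL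
  haveI : IsIso (b ⁻¹ᵁ V).ι := by
    refine (isIso_iff_isOpenImmersion_and_surjective _).2 ⟨inferInstance, ⟨fun z => ⟨⟨z, ?_⟩, rfl⟩⟩⟩
    show b z ∈ V
    rw [hnhd V hyV]; trivial
  refine ⟨i, j, ?_⟩
  have h2 := congrArg (PicF.pullCl (inv (b ⁻¹ᵁ V).ι)) h
  simp only [pullCl_mul, pullCl_pow, PicClLib.pullCl_comp, IsIso.inv_hom_id, PicClLib.pullCl_id] at h2
  exact h2

end Groth.Agent.ResolveX
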