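import Groth.Agent.ResolveX.BlowLine
import Groth.Agent.BlowCoh.PnPoint
import Groth.Agent.H23.RatExtend
import Groth.Agent.CurveDiv.Point
import Groth.Agent.CurveAlgEquiv.PullIdeal
import Groth.Agent.CanonDual.DegSub

/-!
# The exceptional curve of a blown-up regular closed point of a surface
-/

set_option autoImplicit false
set_option linter.style.haveILetI false
set_option linter.unusedSectionVars false
set_option backward.isDefEq.respectTransparency false
set_option backward.isDefEq.respectTransparency.types false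
set_option maxHeartbeats 1000000

universe u

open CategoryTheory CategoryTheory.Limits AlgebraicGeometry TopologicalSpace
open Groth.Agent.BlowUpLib

noncomputable section

namespace Groth.Agent.ResolveX

open Groth.Agent Groth.Agent.BlowCoh IsLocalRing

variable {Y X : Scheme.{u}} (y : Y) (hy : IsClosed ({y} : Set Y)) {b : X ⟶ Y}

theorem comap_fromSpecStalk_point :
    (Scheme.IdealSheafData.vanishingIdeal ⟨{y}, hy⟩).comap (Y.fromSpecStalk y) =
      centre (maximalIdeal (Y.presheaf.stalk y)) := by
  obtain ⟨U, hU, hyU, -⟩ := exists_isAffineOpen_mem_and_subset (show y ∈ (⊤ : Y.Opens) from trivial)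
  rw [← hU.fromSpecStalk_eq_fromSpecStalk hyU, IsAffineOpen.fromSpecStalk, Scheme.IdealSheafData.comap_comp,
    comap_fromSpec _ ⟨U, hU⟩,
    vanishingIdeal_ideal_of_inter_eq ⟨{y}, hy⟩ ⟨U, hU⟩ hyU rfl (fun z hz _ => hz)]
  letI := TopCat.Presheaf.algebra_section_stalk Y.presheaf (⟨y, hyU⟩ : U)
  haveI := hU.isLocalization_stalk ⟨y, hyU⟩
  rw [show Y.presheaf.germ U y hyU = CommRingCat.ofHom (algebraMap Γ(Y, U) (Y.presheaf.stalk y)) from rfl,
    BlowExc.centre_comap]
  congr 1
  exact IsLocalization.AtPrime.map_eq_maximalIdeal (hU.primeIdealOf ⟨y, hyU⟩).asIdeal (Y.presheaf.stalk y)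

theorem isProper_point [IsLocallyNoetherian Y]
    (hb : BlowUp.IsBlowUp b (Scheme.IdealSheafData.vanishingIdeal ⟨{y}, hy⟩)) : IsProper b :=
  isProper_of_isBlowUp _ hb fun U => by
    haveI := IsLocallyNoetherian.component_noetherian U
    exact IsNoetherian.noetherian _

theorem support_exceptional_point :
    (((Scheme.IdealSheafData.vanishingIdeal ⟨{y}, hy⟩).comap b).support : Set X) = b ⁻¹' {y} := by
  rw [Scheme.IdealSheafData.support_comap]
  show b ⁻¹' ((Scheme.IdealSheafData.vanishingIdeal ⟨{y}, hy⟩).support : Set Y) = _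
  rw [Scheme.IdealSheafData.coe_support_vanishingIdeal]
  rfl

/-- The exceptional divisor over a regular point of dimension two is a line over the residue field of
the point, with conormal sheaf `O(1)`. -/
theorem exists_projLine_exceptional_point [IsRegularLocalRing (Y.presheaf.stalk y)]
    (hdim : ringKrullDim (Y.presheaf.stalk y) = 2)
    (hb : BlowUp.IsBlowUp b (Scheme.IdealSheafData.vanishingIdeal ⟨{y}, hy⟩)) :
    ∃ e : CohB1.ProjSpace 1 (Y.residueField y) ≅
        ((Scheme.IdealSheafData.vanishingIdeal ⟨{y}, hy⟩).comap b).subscheme,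
      e.hom ≫ ((Scheme.IdealSheafData.vanishingIdeal ⟨{y}, hy⟩).comap b).subschemeι ≫ b =
        CohB1.ProjSpace.toSpec 1 (Y.residueField y) ≫ Y.fromSpecResidueField y ∧
      Nonempty ((Scheme.Modules.pullback
          (e.hom ≫ ((Scheme.IdealSheafData.vanishingIdeal ⟨{y}, hy⟩).comap b).subschemeι)).obj
          (ClSub.idealMod ((Scheme.IdealSheafData.vanishingIdeal ⟨{y}, hy⟩).comap b)) ≅
        Twist.twistProjSpace 1 (Y.residueField y) 1) := by
  set C := Scheme.IdealSheafData.vanishingIdeal ⟨{y}, hy⟩ with hC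
  set K := C.comap b with hK
  let q := Y.fromSpecStalk y
  haveI : Flat q := GrpSchLib.flat_fromSpecStalk y
  let P := pullback b q
  let p : P ⟶ X := pullback.fst b q
  let b' : P ⟶ Spec (Y.presheaf.stalk y) := pullback.snd b q
  have hb' : BlowUp.IsBlowUp b' (centre (maximalIdeal (Y.presheaf.stalk y))) := by
    have h := isBlowUp_of_isPullback (IsPullback.of_hasPullback b q).flip hb
    rwa [comap_fromSpecStalk_point y hy] at h
  obtain ⟨e, he, ⟨τ⟩⟩ := exists_projLine_exceptional hdim hb'
  have hK' : (centre (maximalIdeal (Y.presheaf.stalk y))).comap b' = K.comap p := by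
    refine ((congrArg (Scheme.IdealSheafData.comap · b') (comap_fromSpecStalk_point y hy)).symm.trans
      (Scheme.IdealSheafData.comap_comp _ _ _).symm).trans ?_
    rw [hK, ← Scheme.IdealSheafData.comap_comp]
    exact congrArg C.comap pullback.condition.symm
  -- the inclusion of the exceptional divisor lifts to the local blow-up
  haveI : IsClosedImmersion (Y.fromSpecResidueField y) :=
    IsClosedImmersion.of_isPreimmersion _ (by rw [Scheme.range_fromSpecResidueField]; exact hy)
  have hker : (Y.fromSpecResidueField y).ker ≤ (K.subschemeι ≫ b).ker := by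
    rw [← Scheme.IdealSheafData.map_ker, Scheme.IdealSheafData.ker_subschemeι,
      Scheme.IdealSheafData.le_map_iff_comap_le, CurveDiv.ker_fromSpecResidueField y hy]
  let l := IsClosedImmersion.lift (Y.fromSpecResidueField y) (K.subschemeι ≫ b) hker
  let s : K.subscheme ⟶ P := pullback.lift K.subschemeι (l ≫ Spec.map (Y.residue y)) (by
    rw [Category.assoc]
    exact (IsClosedImmersion.lift_fac (Y.fromSpecResidueField y) (K.subschemeι ≫ b) hker).symm)
  have hs : s ≫ p = K.subschemeι := pullback.lift_fst _ _ _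
  haveI : IsPreimmersion p := inferInstanceAs (IsPreimmersion (pullback.fst b q))
  haveI : Mono p := inferInstance
  have hpb : IsPullback (𝟙 K.subscheme) s K.subschemeι p :=
    IsPullback.of_isLimit' ⟨by rw [Category.id_comp, hs]⟩ (PullbackCone.IsLimit.mk _ (fun c => c.fst)
      (fun c => Category.comp_id _) (fun c => (cancel_mono p).1 (by rw [Category.assoc, hs]; exact c.condition))
      fun c m h1 _ => (Category.comp_id m).symm.trans h1)
  haveI : IsClosedImmersion s := MorphismProperty.of_isPullback (P := @IsClosedImmersion) hpb inferInstance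
  have hsker : s.ker = ((centre (maximalIdeal (Y.presheaf.stalk y))).comap b') := by
    have h := hpb.flip.isoPullback_hom_fst
    rw [hK', ← h]
    refine (Scheme.IdealSheafData.map_ker _ _).symm.trans ?_
    rw [show hpb.flip.isoPullback.hom.ker = ⊥ from Scheme.Hom.ker_eq_bot_of_isIso _,
      Scheme.IdealSheafData.map_bot]
    exact (Scheme.IdealSheafData.ker_fst_of_isClosedImmersion K.subschemeι p).trans
      (by rw [Scheme.IdealSheafData.ker_subschemeι])
  let j := ((centre (maximalIdeal (Y.presheaf.stalk y))).comap b').subschemeι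
  have hjker : s.ker = j.ker := hsker.trans (Scheme.IdealSheafData.ker_subschemeι _).symm
  let φ := IsClosedImmersion.lift s j hjker.le
  haveI : IsIso φ := IsClosedImmersion.isIso_lift _ _ hjker
  have hφ : φ ≫ K.subschemeι = j ≫ p := by
    rw [← hs, ← Category.assoc, IsClosedImmersion.lift_fac]
  refine ⟨e ≪≫ asIso φ, ?_, ?_⟩
  · show (e.hom ≫ φ) ≫ K.subschemeι ≫ b = _
    rw [Category.assoc, reassoc_of% hφ]
    show e.hom ≫ j ≫ p ≫ b = _
    rw [show p ≫ b = b' ≫ q from pullback.condition, reassoc_of% he]
    rfl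
  · obtain ⟨σ⟩ := CurveAlgEquiv.nonempty_pullback_idealMod p K (Big.isInvertible_ideal hb.1) _
      (Big.isInvertible_ideal hb'.1) hK'.symm
    have hc : (e ≪≫ asIso φ).hom ≫ K.subschemeι = (e.hom ≫ j) ≫ p := by
      show (e.hom ≫ φ) ≫ K.subschemeι = _
      rw [Category.assoc, hφ, Category.assoc]
    exact ⟨(Scheme.Modules.pullbackCongr hc).app _ ≪≫ (Scheme.Modules.pullbackComp (e.hom ≫ j) p).symm.app _ ≪≫
      (Scheme.Modules.pullback (e.hom ≫ j)).mapIso σ ≪≫ τ⟩

end Groth.Agent.ResolveX
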