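import Mathlib.AlgebraicGeometry.AffineScheme
import Mathlib.AlgebraicGeometry.Restrict
import Mathlib.AlgebraicGeometry.Morphisms.Basic
import Mathlib.AlgebraicGeometry.Limits

/-!
# Factoring through a closed surjection with trivial direct image of functions
-/

set_option autoImplicit false
set_option linter.style.haveILetI false
set_option backward.isDefEq.respectTransparency false
set_option backward.isDefEq.respectTransparency.types false
set_option maxHeartbeats 1000000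

universe u

open CategoryTheory CategoryTheory.Limits AlgebraicGeometry TopologicalSpace

noncomputable section

namespace Groth.Agent.ResolveX

variable {X Y Z : Scheme.{u}} (b : X ⟶ Y)

theorem bijective_appTop_restrict (O : Y.Opens) (h : Function.Bijective (b.app O)) :
    Function.Bijective (b ∣_ O).appTop := by
  have h0 : Function.Bijective (b.app (O.ι ''ᵁ ⊤)) := by rw [O.ι_image_top]; exact h
  rw [Scheme.Hom.appTop, morphismRestrict_app]
  exact (ConcreteCategory.bijective_of_isIso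
    (X.presheaf.map (eqToHom (image_morphismRestrict_preimage b O ⊤)).op)).comp h0

theorem injective_appTop_restrict (O : Y.Opens) (h : Function.Injective (b.app O)) :
    Function.Injective (b ∣_ O).appTop := by
  have h0 : Function.Injective (b.app (O.ι ''ᵁ ⊤)) := by rw [O.ι_image_top]; exact h
  rw [Scheme.Hom.appTop, morphismRestrict_app]
  exact (ConcreteCategory.bijective_of_isIso
    (X.presheaf.map (eqToHom (image_morphismRestrict_preimage b O ⊤)).op)).1.comp h0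

/-- A surjection which is injective on functions is an epimorphism. -/
theorem hom_ext_of_push (hs : Function.Surjective b) (hinj : ∀ U, Function.Injective (b.app U))
    {g h : Y ⟶ Z} (e : b ≫ g = b ≫ h) : g = h := by
  have hpt : ∀ p, g p = h p := fun p => by
    obtain ⟨x, rfl⟩ := hs p
    rw [← Scheme.Hom.comp_apply, e, Scheme.Hom.comp_apply]
  let O : Z.affineOpens → Y.Opens := fun V => g ⁻¹ᵁ V.1
  have hO : ∀ V : Z.affineOpens, O V ≤ h ⁻¹ᵁ V.1 := fun V p hp => by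
    show h p ∈ V.1
    rw [← hpt]; exact hp
  refine (Y.openCoverOfIsOpenCover O (TopologicalSpace.IsOpenCover.mk (eq_top_iff.2 fun p _ => ?_))).hom_ext _ _ fun V => ?_
  · obtain ⟨V, hV, hpV, -⟩ := exists_isAffineOpen_mem_and_subset (show g p ∈ (⊤ : Z.Opens) from trivial)
    exact Opens.mem_iSup.2 ⟨⟨V, hV⟩, hpV⟩
  show (O V).ι ≫ g = (O V).ι ≫ h
  let g' : (O V).toScheme ⟶ V.1.toScheme := IsOpenImmersion.lift V.1.ι ((O V).ι ≫ g) (by
    rw [Scheme.Opens.range_ι]; rintro _ ⟨p, rfl⟩; exact p.2)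
  let h' : (O V).toScheme ⟶ V.1.toScheme := IsOpenImmersion.lift V.1.ι ((O V).ι ≫ h) (by
    rw [Scheme.Opens.range_ι]; rintro _ ⟨p, rfl⟩; exact hO V p.2)
  have hg' : g' ≫ V.1.ι = (O V).ι ≫ g := IsOpenImmersion.lift_fac _ _ _
  have hh' : h' ≫ V.1.ι = (O V).ι ≫ h := IsOpenImmersion.lift_fac _ _ _
  rw [← hg', ← hh']
  congr 1
  haveI : IsAffine V.1.toScheme := V.2
  have e' : (b ∣_ O V) ≫ g' = (b ∣_ O V) ≫ h' := by
    rw [← cancel_mono V.1.ι, Category.assoc, Category.assoc, hg', hh', morphismRestrict_ι_assoc,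
      morphismRestrict_ι_assoc, e]
  refine ext_of_isAffine (ConcreteCategory.hom_ext _ _ fun s => ?_)
  refine injective_appTop_restrict b (O V) (hinj _) ?_
  exact ConcreteCategory.congr_hom (congrArg Scheme.Hom.appTop e') s

theorem injective_app_restrict (hinj : ∀ U, Function.Injective (b.app U)) (O : Y.Opens) (U : O.toScheme.Opens) :
    Function.Injective ((b ∣_ O).app U) := by
  rw [morphismRestrict_app]
  exact (ConcreteCategory.bijective_of_isIso
    (X.presheaf.map (eqToHom (image_morphismRestrict_preimage b O U)).op)).1.comp (hinj (O.ι ''ᵁ U))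

theorem surjective_restrict (hs : Function.Surjective b) (O : Y.Opens) : Function.Surjective (b ∣_ O) := fun p => by
  obtain ⟨x, hx⟩ := hs p.1
  exact ⟨⟨x, show b x ∈ O from hx.symm ▸ p.2⟩, Subtype.ext ((morphismRestrict_base_coe b O ⟨x, _⟩).trans hx)⟩

/-- A morphism constant on the fibres factors uniquely. -/
theorem exists_unique_factor (hs : Function.Surjective b) (hcl : IsClosedMap b)
    (hbij : ∀ U, Function.Bijective (b.app U)) (φ : X ⟶ Z) (hφ : ∀ x x', b x = b x' → φ x = φ x') :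
    ∃! ψ : Y ⟶ Z, b ≫ ψ = φ := by
  have loc : ∀ p : Y, ∃ (W : Y.Opens) (ψ : W.toScheme ⟶ Z), p ∈ W ∧ (b ∣_ W) ≫ ψ = (b ⁻¹ᵁ W).ι ≫ φ := fun p => by
    obtain ⟨x, hx⟩ := hs p
    obtain ⟨V, hV, hxV, -⟩ := exists_isAffineOpen_mem_and_subset (show φ x ∈ (⊤ : Z.Opens) from trivial)
    let W : Y.Opens := ⟨(b '' ((φ ⁻¹ᵁ V : X.Opens) : Set X)ᶜ)ᶜ, (hcl _ (φ ⁻¹ᵁ V).isOpen.isClosed_compl).isOpen_compl⟩
    have hpW : p ∈ W := fun ⟨z, hz, hzp⟩ => hz (show φ z ∈ V from (hφ z x (hzp.trans hx.symm)) ▸ hxV)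
    have hWV : b ⁻¹ᵁ W ≤ φ ⁻¹ᵁ V := fun z hz => by
      by_contra h
      exact hz ⟨z, h, rfl⟩
    let φ' : (b ⁻¹ᵁ W).toScheme ⟶ V.toScheme := IsOpenImmersion.lift V.ι ((b ⁻¹ᵁ W).ι ≫ φ) (by
      rw [Scheme.Opens.range_ι]; rintro _ ⟨z, rfl⟩; exact hWV z.2)
    haveI : IsAffine V.toScheme := hV
    haveI : IsIso (b ∣_ W).appTop :=
      (ConcreteCategory.isIso_iff_bijective _).2 (bijective_appTop_restrict b W (hbij W))
    let ψ : W.toScheme ⟶ V.toScheme :=
      W.toScheme.toSpecΓ ≫ Spec.map (φ'.appTop ≫ inv (b ∣_ W).appTop) ≫ V.toScheme.isoSpec.inv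
    have hψ : (b ∣_ W) ≫ ψ = φ' := by
      show (b ∣_ W) ≫ W.toScheme.toSpecΓ ≫ Spec.map (φ'.appTop ≫ inv (b ∣_ W).appTop) ≫ V.toScheme.isoSpec.inv = φ'
      rw [Scheme.toSpecΓ_naturality_assoc, ← Spec.map_comp_assoc, Category.assoc, IsIso.inv_hom_id,
        Category.comp_id, ← Scheme.toSpecΓ_naturality_assoc]
      show φ' ≫ V.toScheme.isoSpec.hom ≫ V.toScheme.isoSpec.inv = φ'
      rw [Iso.hom_inv_id, Category.comp_id]
    refine ⟨W, ψ ≫ V.ι, hpW, ?_⟩
    rw [← Category.assoc, hψ]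
    exact IsOpenImmersion.lift_fac _ _ _
  choose W ψ hpW hψ using loc
  let 𝒰 := Y.openCoverOfIsOpenCover W (TopologicalSpace.IsOpenCover.mk
    (eq_top_iff.2 fun p _ => Opens.mem_iSup.2 ⟨p, hpW p⟩))
  have hcompat : ∀ i j : Y, pullback.fst (W i).ι (W j).ι ≫ ψ i = pullback.snd (W i).ι (W j).ι ≫ ψ j := fun i j => by
    let q := pullback.fst (W i).ι (W j).ι ≫ (W i).ι
    let O := q.opensRange
    have hOi : O ≤ W i := by
      rintro _ ⟨w, rfl⟩; exact (pullback.fst (W i).ι (W j).ι w).2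
    have hOj : O ≤ W j := by
      rintro _ ⟨w, rfl⟩
      show (pullback.fst (W i).ι (W j).ι ≫ (W i).ι) w ∈ W j
      rw [pullback.condition]
      exact (pullback.snd (W i).ι (W j).ι w).2
    have h1 : pullback.fst (W i).ι (W j).ι = q.isoOpensRange.hom ≫ Y.homOfLE hOi := by
      rw [← cancel_mono (W i).ι, Category.assoc, Y.homOfLE_ι, Scheme.Hom.isoOpensRange_hom_ι]
    have h2 : pullback.snd (W i).ι (W j).ι = q.isoOpensRange.hom ≫ Y.homOfLE hOj := by
      rw [← cancel_mono (W j).ι, Category.assoc, Y.homOfLE_ι, Scheme.Hom.isoOpensRange_hom_ι]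
      exact pullback.condition.symm
    rw [h1, h2, Category.assoc, Category.assoc]
    congr 1
    refine hom_ext_of_push (b ∣_ O) (surjective_restrict b hs O) (injective_app_restrict b (fun U => (hbij U).1) O) ?_
    have key : ∀ (i : Y) (h : O ≤ W i), (b ∣_ O) ≫ Y.homOfLE h ≫ ψ i = (b ⁻¹ᵁ O).ι ≫ φ := fun i h => by
      have hsq : (b ∣_ O) ≫ Y.homOfLE h = X.homOfLE (fun z hz => h hz : b ⁻¹ᵁ O ≤ b ⁻¹ᵁ W i) ≫ (b ∣_ W i) := by
        rw [← cancel_mono (W i).ι, Category.assoc, Category.assoc, Y.homOfLE_ι, morphismRestrict_ι,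
          morphismRestrict_ι, ← Category.assoc, X.homOfLE_ι]
      rw [reassoc_of% hsq, hψ, ← Category.assoc, X.homOfLE_ι]
    rw [key i hOi, key j hOj]
  let Ψ := 𝒰.glueMorphisms ψ hcompat
  have hΨ : b ≫ Ψ = φ := by
    refine (X.openCoverOfIsOpenCover (fun p => b ⁻¹ᵁ W p) (TopologicalSpace.IsOpenCover.mk
      (eq_top_iff.2 fun x _ => Opens.mem_iSup.2 ⟨b x, hpW (b x)⟩))).hom_ext _ _ fun p => ?_
    show (b ⁻¹ᵁ W p).ι ≫ b ≫ Ψ = (b ⁻¹ᵁ W p).ι ≫ φ
    rw [← morphismRestrict_ι_assoc, show (W p).ι ≫ Ψ = ψ p from Scheme.Cover.ι_glueMorphisms 𝒰 ψ hcompat p, hψ]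
  exact ⟨Ψ, hΨ, fun g hg => hom_ext_of_push b hs (fun U => (hbij U).1) (hg.trans hΨ.symm)⟩

end Groth.Agent.ResolveX
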