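import Groth.Agent.ResolveX.BlowPic
import Groth.Agent.ResolveX.PushFactor
import Groth.Prelude.Def_ModelsG

/-!
# Contractions of exceptional curves
-/

set_option autoImplicit false
set_option linter.style.haveILetI false
set_option linter.unusedSectionVars false
set_option backward.isDefEq.respectTransparency false
set_option backward.isDefEq.respectTransparency.types false
set_option maxHeartbeats 1000000

universe u

open CategoryTheory CategoryTheory.Limits AlgebraicGeometry TopologicalSpace

attribute [local instance 2000] CategoryTheory.CategoryStruct.toQuiver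

noncomputable section

namespace Groth.Agent.ResolveX

open Groth.Agent

variable {E X X' : Scheme.{u}} (ι : E ⟶ X) [IsClosedImmersion ι] [IsLocallyNoetherian X'] (y : X')
  (hy : IsClosed ({y} : Set X')) [IsRegularLocalRing (X'.presheaf.stalk y)] {b : X ⟶ X'}
  (hdim : ringKrullDim (X'.presheaf.stalk y) = 2)
  (hb : BlowUp.IsBlowUp b (Scheme.IdealSheafData.vanishingIdeal ⟨{y}, hy⟩))

include hdim hb in
/-- An exceptional curve over the point fills its fibre. -/
theorem range_eq_fibre (hE : Models.IsExcCurve ι) (hr : Set.range ((ι ≫ b).base : E → X') = {y}) :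
    Set.range ι = b ⁻¹' {y} := by
  obtain ⟨-, k, _, ek, -⟩ := hE
  obtain ⟨j, e, hj, hjy, -⟩ := exists_line_lift y hy hdim hb
  let P := CohB1.ProjSpace 1 (X'.residueField y)
  haveI : IsIntegral P := H23.PnChart.isIntegral_projSpace 1 _
  haveI : IsProper (CohB1.ProjSpace.toSpec 1 (X'.residueField y)) := PnCoh.Chow.isProper_toSpec 1 _
  haveI : IsNoetherian P :=
    { toIsLocallyNoetherian := LocallyOfFiniteType.isLocallyNoetherian (CohB1.ProjSpace.toSpec 1 (X'.residueField y))
      toCompactSpace := QuasiCompact.compactSpace_of_compactSpace (CohB1.ProjSpace.toSpec 1 (X'.residueField y)) }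
  haveI : IsClosedImmersion j := by rw [hj]; infer_instance
  have hjr : Set.range j = b ⁻¹' {y} := by
    refine Set.Subset.antisymm (fun z ⟨w, hw⟩ => hw ▸ hjy w) fun z hz => ?_
    rw [← support_exceptional_point y hy, ← Scheme.IdealSheafData.range_subschemeι] at hz
    obtain ⟨w, rfl⟩ := hz
    obtain ⟨v, rfl⟩ := e.hom.homeomorph.surjective w
    exact ⟨v, by rw [hj]; rfl⟩
  have hsub : Set.range ι ⊆ b ⁻¹' {y} := by
    rintro _ ⟨w, rfl⟩
    show (ι ≫ b) w ∈ ({y} : Set X')
    exact hr.le ⟨w, rfl⟩
  refine hsub.antisymm fun z hz => ?_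
  let S : Set P := j ⁻¹' Set.range ι
  have hS : IsClosed S := ι.isClosedEmbedding.isClosed_range.preimage j.continuous
  suffices hg : genericPoint P ∈ S by
    obtain ⟨p, rfl⟩ := hjr.ge hz
    exact ((genericPoint_spec P).specializes trivial).mem_closed hS hg
  by_contra hng
  have hPd : topologicalKrullDim ↥P = 1 := ArInt.dim_line _
  have hclS : ∀ p ∈ S, IsClosed ({p} : Set P) := fun p hp =>
    GmDiv.isClosed_singleton_of_dim hPd.le fun h =>
      hng ((h _ ((genericPoint_spec P).specializes trivial)).symm ▸ hp)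
  have hnospec : ∀ a c : E, a ⤳ c → a = c := fun a c hac => by
    obtain ⟨pa, hpa⟩ := hjr.ge (hsub ⟨a, rfl⟩)
    obtain ⟨pc, hpc⟩ := hjr.ge (hsub ⟨c, rfl⟩)
    refine ι.isEmbedding.injective ?_
    have h1 : pa ⤳ pc := j.isEmbedding.isInducing.specializes_iff.1 (by
      rw [hpa, hpc]; exact hac.map ι.continuous)
    rw [← hpa, ← hpc, h1.mem_closed (hclS pa ⟨a, hpa.symm⟩) rfl]
  have hE1 : topologicalKrullDim ↥E = 1 := by
    rw [← (Scheme.homeoOfIso ek).isHomeomorph.topologicalKrullDim_eq]
    exact ArInt.dim_line k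
  have h0 : Order.krullDim E ≤ 0 := by
    refine iSup_le fun s => ?_
    by_contra hs
    have h1 : 1 ≤ s.length := by
      by_contra h
      exact hs (by exact_mod_cast (by omega : s.length ≤ 0))
    have h2 := s.strictMono (show (⟨0, by omega⟩ : Fin (s.length + 1)) < ⟨1, by omega⟩ from Nat.lt_add_one _)
    exact h2.ne' (hnospec _ _ h2.le)
  rw [← Order.krullDim_eq_of_orderIso (irreducibleSetEquivPoints (α := E))] at h0
  change topologicalKrullDim _ ≤ _ at h0
  rw [hE1] at h0
  exact absurd h0 (by norm_num)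

include hdim hb in
/-- An exceptional curve over the point is the exceptional divisor. -/
theorem exists_iso_exceptional (hE : Models.IsExcCurve ι) (hr : Set.range ((ι ≫ b).base : E → X') = {y}) :
    ∃ φ : (excIdeal y hy b).subscheme ≅ E, φ.hom ≫ ι = (excIdeal y hy b).subschemeι := by
  have hrange := range_eq_fibre ι y hy hdim hb hE hr
  obtain ⟨-, k, _, ek, -⟩ := hE
  obtain ⟨-, e, -, -, -⟩ := exists_line_lift y hy hdim hb
  let K := excIdeal y hy b
  haveI : IsIntegral (CohB1.ProjSpace 1 (X'.residueField y)) := H23.PnChart.isIntegral_projSpace 1 _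
  haveI : IsIntegral (CohB1.ProjSpace 1 k) := H23.PnChart.isIntegral_projSpace 1 _
  haveI : IsReduced K.subscheme := isReduced_of_isOpenImmersion e.inv
  haveI : IsReduced E := isReduced_of_isOpenImmersion ek.inv
  have h1 := CanonDual.ker_eq_vanishingIdeal K.subschemeι (S := K.support) (Scheme.IdealSheafData.range_subschemeι _)
  have h2 := CanonDual.ker_eq_vanishingIdeal ι (S := K.support) (by
    rw [hrange, support_exceptional_point y hy])
  have hker : ι.ker = K.subschemeι.ker := h2.trans h1.symm
  haveI := IsClosedImmersion.isIso_lift ι K.subschemeι hker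
  exact ⟨asIso (IsClosedImmersion.lift ι K.subschemeι hker.le), IsClosedImmersion.lift_fac _ _ _⟩

omit [IsLocallyNoetherian X'] in
/-- A morphism collapsing the exceptional set factors through the contraction. -/
theorem exists_unique_factor_contraction [IsNoetherian X'] [IsProper b] (hdim : ringKrullDim (X'.presheaf.stalk y) = 2)
    (hb : BlowUp.IsBlowUp b (Scheme.IdealSheafData.vanishingIdeal ⟨{y}, hy⟩))
    (hE : Models.IsExcCurve ι) (hr : Set.range ((ι ≫ b).base : E → X') = {y})
    {Z : Scheme.{u}} (φ : X ⟶ Z) (z : Z) (hφ : Set.range ((ι ≫ φ).base : E → Z) = {z}) :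
    ∃! ψ : X' ⟶ Z, b ≫ ψ = φ := by
  refine exists_unique_factor b (surjective_point y hy hdim hb) b.isClosedMap (bijective_app y hy hdim hb) φ
    fun x x' h => ?_
  by_cases hx : b x = y
  · have hrange := range_eq_fibre ι y hy hdim hb hE hr
    obtain ⟨w, rfl⟩ := hrange.ge (show x ∈ b ⁻¹' {y} from hx)
    obtain ⟨w', rfl⟩ := hrange.ge (show x' ∈ b ⁻¹' {y} from h.symm.trans hx)
    exact (hφ.le ⟨w, rfl⟩ : (ι ≫ φ) w = z).trans (hφ.le ⟨w', rfl⟩ : (ι ≫ φ) w' = z).symm
  · exact congrArg φ (injective_off y hy hb hx h)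

end Groth.Agent.ResolveX
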