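import Groth.Agent.ResolveX.IrredBlow
import Groth.Agent.ResolveX.Contraction

/-!
# Proper birational morphisms of regular surfaces are sequences of contractions
-/

set_option autoImplicit false
set_option linter.style.haveILetI false
set_option linter.unusedSectionVars false
set_option backward.isDefEq.respectTransparency false
set_option backward.isDefEq.respectTransparency.types false
set_option maxHeartbeats 1000000

universe u

open CategoryTheory CategoryTheory.Limits AlgebraicGeometry TopologicalSpace IsLocalRing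

attribute [local instance 2000] CategoryTheory.CategoryStruct.toQuiver

noncomputable section

namespace Groth.Agent.ResolveX

open Groth.Agent

/-- Blowing up a regular point of dimension two is a contraction of an exceptional curve. -/
theorem contractionSeq_step {Z X X'' : Scheme.{u}} [IsNoetherian X] {b : Z ⟶ X} (y : X) (hy : IsClosed ({y} : Set X))
    [IsRegularLocalRing (X.presheaf.stalk y)] (hdim : ringKrullDim (X.presheaf.stalk y) = 2)
    (hb : BlowUp.IsBlowUp b (Scheme.IdealSheafData.vanishingIdeal ⟨{y}, hy⟩)) {r : X ⟶ X''}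
    (hr : Models.IsContractionSeq r) : Models.IsContractionSeq (b ≫ r) := by
  obtain ⟨e, he, ⟨τ⟩⟩ := exists_projLine_exceptional_point y hy hdim hb
  let K := (Scheme.IdealSheafData.vanishingIdeal ⟨{y}, hy⟩).comap b
  have hker : K.subschemeι.ker = K := K.ker_subschemeι
  refine Models.IsContractionSeq.step K.subschemeι b r inferInstance ⟨?_, X.residueField y, inferInstance, e, ?_⟩
    ⟨inferInstance, isProper_point y hy hb, y, hy, ?_, inferInstance, hdim, hb⟩ hr
  · rw [hker]; exact hb.1
  · rw [hker]; exact ⟨τ⟩
  · haveI : IsIntegral (CohB1.ProjSpace 1 (X.residueField y)) := H23.PnChart.isIntegral_projSpace 1 _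
    refine Set.Subset.antisymm ?_ ?_
    · rintro _ ⟨w, rfl⟩
      have h : K.subschemeι w ∈ b ⁻¹' {y} := by
        rw [← support_exceptional_point y hy, ← Scheme.IdealSheafData.range_subschemeι]
        exact ⟨w, rfl⟩
      exact h
    · rintro p (hp : p = y)
      let w := e.hom (genericPoint (CohB1.ProjSpace 1 (X.residueField y)))
      refine ⟨w, ?_⟩
      rw [hp]
      have h : K.subschemeι w ∈ b ⁻¹' {y} := by
        rw [← support_exceptional_point y hy, ← Scheme.IdealSheafData.range_subschemeι]
        exact ⟨w, rfl⟩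
      exact h

/-- A sequence of contractions after an isomorphism. -/
theorem contractionSeq_iso_comp {X Y Z : Scheme.{u}} (e : X ≅ Y) {r : Y ⟶ Z} (hr : Models.IsContractionSeq r) :
    Models.IsContractionSeq (e.hom ≫ r) := by
  cases hr with
  | iso e' => exact Models.IsContractionSeq.iso (e ≪≫ e')
  | step ι b r hι hE hb hr =>
    obtain ⟨hN, -, y, hy, -, hreg, hdim, hbl⟩ := hb
    haveI := hN; haveI := hreg
    rw [← Category.assoc]
    exact contractionSeq_step y hy hdim (BlowUpLib.isBlowUp_iso_comp e.hom hbl) hr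

/-- Sequences of contractions compose. -/
theorem contractionSeq_comp {Y X : Scheme.{u}} {r : Y ⟶ X} (hr : Models.IsContractionSeq r) :
    ∀ {W : Scheme.{u}} {s : X ⟶ W}, Models.IsContractionSeq s → Models.IsContractionSeq (r ≫ s) := by
  induction hr with
  | iso e => exact fun hs => contractionSeq_iso_comp e hs
  | step ι b r hι hE hb hr ih =>
    intro W s hs
    rw [Category.assoc]
    exact Models.IsContractionSeq.step ι b _ hι hE hb (ih hs)

/-- A point blow-up is a sequence of contractions. -/
theorem contractionSeq_point {Z X : Scheme.{u}} [IsNoetherian X] {b : Z ⟶ X} (y : X) (hy : IsClosed ({y} : Set X))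
    [IsRegularLocalRing (X.presheaf.stalk y)] (hdim : ringKrullDim (X.presheaf.stalk y) = 2)
    (hb : BlowUp.IsBlowUp b (Scheme.IdealSheafData.vanishingIdeal ⟨{y}, hy⟩)) : Models.IsContractionSeq b := by
  have h := contractionSeq_step y hy hdim hb (Models.IsContractionSeq.iso (Iso.refl X))
  rwa [Iso.refl_hom, Category.comp_id] at h

/-- Surjective closed maps do not raise the dimension. -/
theorem krullDim_le_of_surjective {X Y : Scheme.{u}} (g : X ⟶ Y) (hs : Function.Surjective g)
    (hc : IsClosedMap g) : topologicalKrullDim Y ≤ topologicalKrullDim X := by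
  show Order.krullDim _ ≤ Order.krullDim _
  rw [Order.krullDim_eq_of_orderIso (irreducibleSetEquivPoints (α := X)),
    Order.krullDim_eq_of_orderIso (irreducibleSetEquivPoints (α := Y))]
  -- lift chains downwards
  have key : ∀ n : ℕ, ∀ s : LTSeries Y, s.length = n →
      ∃ t : LTSeries X, t.length = n ∧ g t.head = s.head := by
    intro n
    induction n with
    | zero =>
      intro s _
      obtain ⟨x, hx⟩ := hs s.head
      exact ⟨RelSeries.singleton _ x, rfl, hx⟩
    | succ n ih =>
      intro s hs'
      have h0 : s.length ≠ 0 := by omega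
      obtain ⟨t, ht, hth⟩ := ih (s.tail h0) (by simp [hs'])
      -- the first point lifts to a specialisation of the lift of the second
      have hlt : s.head < (s.tail h0).head := by
        rw [RelSeries.head_tail]
        show s.toFun 0 < s.toFun 1
        have h1 : s.toFun ((⟨0, by omega⟩ : Fin s.length).castSucc) < s.toFun ((⟨0, by omega⟩ : Fin s.length).succ) :=
          s.step ⟨0, by omega⟩
        convert h1 using 2
        all_goals refine Fin.ext ?_
        · rfl
        · show (1 : Fin (s.length + 1)).val = 0 + 1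
          rw [Fin.val_one', Nat.mod_eq_of_lt (show 1 < s.length + 1 by omega)]
      have hsp : g t.head ⤳ s.head := hth ▸ hlt.le
      obtain ⟨x, hx, hgx⟩ : ∃ x, t.head ⤳ x ∧ g x = s.head := by
        have h := (hc.specializingMap) hsp
        obtain ⟨x, h1, h2⟩ := h
        exact ⟨x, h1, h2⟩
      have hxlt : x < t.head := ⟨hx, fun h : x ⤳ t.head => hlt.not_ge (by
        have := (h.map g.continuous)
        rw [hgx, hth] at this
        exact this)⟩
      exact ⟨t.cons x hxlt, by simp [ht], by rw [RelSeries.head_cons, hgx]⟩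
  refine iSup_le fun s => ?_
  obtain ⟨t, ht, -⟩ := key _ s rfl
  exact le_iSup_of_le t (by rw [ht])

section Factorisation

variable {X : Scheme.{u}} [IsIntegral X] [IsNoetherian X]

omit [IsIntegral X] in
/-- Nonclosed points mapping to closed points. -/
def contracted {Y : Scheme.{u}} (f : X ⟶ Y) : Set X := {x | ¬ IsClosed ({x} : Set X) ∧ IsClosed ({f x} : Set Y)}

/-- Only finitely many nonclosed points are mapped to closed points. -/
theorem finite_contracted {Y : Scheme.{u}} [IsIntegral Y] (f : X ⟶ Y) (V : Y.Opens) (hV : (V : Set Y).Nonempty)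
    (hiso : IsIso (f ∣_ V)) (hdX : topologicalKrullDim X ≤ 2) : (contracted f).Finite := by
  haveI := hiso
  let Z : Closeds X := ⟨((f ⁻¹ᵁ V : X.Opens) : Set X)ᶜ, (f ⁻¹ᵁ V).2.isClosed_compl⟩
  obtain ⟨T, hTf, hTc, hTi, hT⟩ := NoetherianSpace.exists_finite_set_isClosed_irreducible Z.2
  refine (hTf.dependent_image (fun C hC => (hTi C hC).genericPoint)).subset fun x hx => ?_
  obtain ⟨hxc, hfx⟩ := hx
  have hxZ : x ∈ (Z : Set X) := fun hxV => by
    refine hxc ?_
    have h : f ⁻¹' {f x} = {x} := by
      refine Set.eq_singleton_iff_unique_mem.2 ⟨rfl, fun z (hz : f z = f x) => ?_⟩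
      have hzV : z ∈ f ⁻¹ᵁ V := show f z ∈ V from hz ▸ hxV
      exact congrArg Subtype.val ((f ∣_ V).homeomorph.injective (a₁ := (⟨z, hzV⟩ : ↥(f ⁻¹ᵁ V))) (a₂ := ⟨x, hxV⟩)
        (Subtype.ext ((morphismRestrict_base_coe f V ⟨z, hzV⟩).trans
          (hz.trans (morphismRestrict_base_coe f V ⟨x, hxV⟩).symm))))
    exact h ▸ hfx.preimage f.continuous
  have hmem : x ∈ ⋃₀ T := hT ▸ hxZ
  obtain ⟨C, hC, hxC⟩ := hmem
  refine ⟨C, hC, ?_⟩
  have hgen := (hTi C hC).isGenericPoint_genericPoint (hTc C hC)
  by_contra hne
  let z := (hTi C hC).genericPoint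
  have hzZ : z ∈ (Z : Set X) := by
    show z ∈ (Z : Closeds X).carrier
    rw [hT]; exact ⟨C, hC, hgen.mem⟩
  have hηV : genericPoint X ∈ f ⁻¹ᵁ V := by
    obtain ⟨hη, -⟩ := ArInt.birational_of_isIso_restrict f V hV hiso
    obtain ⟨v, hv⟩ := hV
    show f (genericPoint X) ∈ V
    rw [hη]
    exact ((genericPoint_spec Y).specializes (Set.mem_univ v)).mem_open V.2 hv
  have h1 : z < genericPoint X := ⟨(genericPoint_spec X).specializes trivial, fun h : z ⤳ genericPoint X =>
    hzZ ((((genericPoint_spec X).specializes trivial).antisymm h).eq ▸ hηV)⟩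
  have h2 : x < z := ⟨hgen.specializes hxC, fun h : x ⤳ z => hne ((hgen.specializes hxC).antisymm h).eq⟩
  obtain ⟨w, hw, hwne⟩ : ∃ w, x ⤳ w ∧ w ≠ x := by
    by_contra h
    push Not at h
    exact hxc (closure_subset_iff_isClosed.1 fun w hw => h w (specializes_iff_mem_closure.2 hw))
  have h3 : w < x := ⟨hw, fun h : w ⤳ x => hwne (h.antisymm hw).eq⟩
  have h4 := Order.coheight_add_one_le h1
  have h5 := Order.coheight_add_one_le h2
  have h6 := Order.coheight_add_one_le h3
  have h7 : (Order.coheight w : WithBot ℕ∞) ≤ 2 := by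
    refine (Order.coheight_le_krullDim w).trans ?_
    rw [← Order.krullDim_eq_of_orderIso (irreducibleSetEquivPoints (α := X))]
    exact hdX
  have h8 : (1 : ℕ∞) + 1 + 1 ≤ 2 :=
    (add_le_add (le_trans (add_le_add (le_add_self.trans h4) le_rfl) h5) le_rfl).trans
      (h6.trans (WithBot.coe_le_coe.1 h7))
  exact absurd h8 (by norm_num)

/-- A proper birational morphism between regular surfaces is a sequence of point blow-ups. -/
theorem isContractionSeq (hX : ∀ x : X, IsRegularLocalRing (X.presheaf.stalk x)) (hdX : topologicalKrullDim X ≤ 2) :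
    ∀ (n : ℕ) {Y : Scheme.{u}} [IsIntegral Y] [IsNoetherian Y] (f : X ⟶ Y) [IsProper f] (V : Y.Opens),
      (V : Set Y).Nonempty → IsIso (f ∣_ V) → (∀ y : Y, IsRegularLocalRing (Y.presheaf.stalk y)) →
      (contracted f).ncard = n → Models.IsContractionSeq f := by
  intro n
  induction n using Nat.strong_induction_on with
  | _ n ih =>
  intro Y _ _ f _ V hV hiso hY hn
  obtain ⟨hη, hbij⟩ := ArInt.birational_of_isIso_restrict f V hV hiso
  have hsurj : Function.Surjective f := fun q =>
    ((genericPoint_spec Y).specializes trivial).mem_closed f.isClosedMap.isClosed_range ⟨_, hη⟩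
  by_cases hinj : Function.Injective f
  · haveI : LocallyQuasiFinite f := LocallyQuasiFinite.of_injective hinj
    haveI : IsFinite f := IsFinite.of_isProper_of_locallyQuasiFinite f
    have hgen : ∀ (Z : Scheme.{u}) [IsIntegral Z], genericPoints Z = {genericPoint Z} := fun Z _ => by
      ext z
      show closure {z} ∈ irreducibleComponents Z ↔ z = genericPoint Z
      rw [irreducibleComponents_eq_singleton, Set.mem_singleton_iff]
      exact ⟨fun h => IsGenericPoint.eq h (genericPoint_spec Z), fun h => h ▸ (genericPoint_spec Z).def⟩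
    haveI : IsIso f := AlgSpDec.BiratNormal.isIso_of_birational f
      (fun p => by
        haveI := hY p
        haveI : UniqueFactorizationMonoid (Y.presheaf.stalk p) := (S2821.result _).2
        exact ⟨(S2821.result _).1, inferInstance⟩)
      (by rw [irreducibleComponents_eq_singleton]; exact Set.finite_singleton _)
      (by
        rw [hgen, hgen]
        exact ⟨fun a ha => by rw [Set.mem_singleton_iff.1 ha]; exact hη,
          Set.injOn_singleton _ _, fun b hb => ⟨_, rfl, hη.trans (Set.mem_singleton_iff.1 hb).symm⟩⟩)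
      fun x hx => by
        rw [hgen, Set.mem_singleton_iff] at hx
        subst hx
        haveI := BirNormal.isIso_stalkSpecializes_of_eq hη (specializes_of_eq hη)
        haveI := (ConcreteCategory.isIso_iff_bijective _).2 hbij
        exact IsIso.of_isIso_comp_left (Y.presheaf.stalkSpecializes (specializes_of_eq hη)) _
    exact Models.IsContractionSeq.iso (asIso f)
  obtain ⟨x, x', hxx', hne⟩ : ∃ x x', f x = f x' ∧ x ≠ x' := by
    simpa [Function.Injective] using hinj
  haveI := hY (f x)
  have hd : ∀ p : Y, (Order.coheight p : WithBot ℕ∞) ≤ 2 := fun p => by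
    refine (Order.coheight_le_krullDim p).trans ?_
    rw [← Order.krullDim_eq_of_orderIso (irreducibleSetEquivPoints (α := Y))]
    exact (krullDim_le_of_surjective f hsurj f.isClosedMap).trans hdX
  have hbig : ∃ a b : X, a ≠ b ∧ f a = f x ∧ f b = f x := ⟨x, x', hne, rfl, hxx'.symm⟩
  have h2 := two_le_dim f V hV hiso (f x) hbig
  have hdim : ringKrullDim (Y.presheaf.stalk (f x)) = 2 :=
    le_antisymm (by rw [ringKrullDim_stalk_eq_coheight]; exact hd _) h2
  have hy : IsClosed ({f x} : Set Y) := closure_subset_iff_isClosed.1 fun w hw => by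
    by_contra hne'
    have hlt : w < f x := ⟨specializes_iff_mem_closure.2 hw, fun h : w ⤳ f x =>
      hne' (h.antisymm (specializes_iff_mem_closure.2 hw)).eq⟩
    have h6 := Order.coheight_add_one_le hlt
    rw [ringKrullDim_stalk_eq_coheight] at h2
    have h8 : (2 : ℕ∞) + 1 ≤ 2 :=
      (add_le_add (WithBot.coe_le_coe.1 h2) le_rfl).trans (h6.trans (WithBot.coe_le_coe.1 (hd w)))
    exact absurd h8 (by norm_num)
  let C := Scheme.IdealSheafData.vanishingIdeal (⟨{f x}, hy⟩ : Closeds Y)
  obtain ⟨Y', π, hπ⟩ := BlowUpLib.exists_blowUp (C := C)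
  obtain ⟨g, hg⟩ := exists_lift_point f V hV hiso (f x) hbig hy hdim hX hdX hπ
  haveI := isProper_point (f x) hy hπ
  haveI : IsNoetherian Y' :=
    { toIsLocallyNoetherian := LocallyOfFiniteType.isLocallyNoetherian π
      toCompactSpace := QuasiCompact.compactSpace_of_compactSpace π }
  haveI : IsProper g := by
    haveI : IsProper (g ≫ π) := hg ▸ inferInstance
    exact IsProper.of_comp g π
  -- the point lies outside the open where the morphism is an isomorphism
  have hxV : f x ∉ V := fun hV' => hne (congrArg Subtype.val ((f ∣_ V).homeomorph.injective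
    (a₁ := (⟨x, hV'⟩ : ↥(f ⁻¹ᵁ V))) (a₂ := ⟨x', show f x' ∈ V from hxx' ▸ hV'⟩)
    (Subtype.ext ((morphismRestrict_base_coe f V ⟨x, hV'⟩).trans
      (hxx'.trans (morphismRestrict_base_coe f V ⟨x', show f x' ∈ V from hxx' ▸ hV'⟩).symm)))))
  have hC : C ≠ ⊥ := fun h => by
    obtain ⟨p, hp⟩ := hV
    have h1 : p ∈ ((⊥ : Y.IdealSheafData).support : Set Y) := by
      rw [Scheme.IdealSheafData.support_bot]; trivial
    rw [← h, Scheme.IdealSheafData.coe_support_vanishingIdeal] at h1
    exact hxV ((Set.mem_singleton_iff.1 h1) ▸ hp)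
  obtain ⟨hY'int, -⟩ := S2348.result C hC π hπ
  haveI := hY'int
  haveI : IsClosedImmersion (Y.fromSpecResidueField (f x)) :=
    IsClosedImmersion.of_isPreimmersion _ (by rw [Scheme.range_fromSpecResidueField]; exact hy)
  have hY'reg : ∀ p : Y', IsRegularLocalRing (Y'.presheaf.stalk p) := BlowExc.regular_blowUp
    (Y.fromSpecResidueField (f x)) hY (fun p => by
      haveI := S0564.result (Y.residueField (f x)) p.asIdeal
      exact IsRegularLocalRing.of_ringEquiv (StructureSheaf.stalkIso (Y.residueField (f x)) p).toRingEquiv)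
    π (by rw [CurveDiv.ker_fromSpecResidueField (f x) hy]; exact hπ)
  haveI : IsIso (π ∣_ V) := BlowUpLib.isIso_restrict hπ V fun p hp => by
    show p ∉ (C.support : Set Y)
    rw [Scheme.IdealSheafData.coe_support_vanishingIdeal]
    exact fun h => hxV ((Set.mem_singleton_iff.1 h) ▸ hp)
  haveI := hiso
  haveI : IsIso ((g ≫ π) ∣_ V) := by subst hg; exact hiso
  have hgiso : IsIso (g ∣_ (π ⁻¹ᵁ V)) := by
    haveI : IsIso (g ∣_ (π ⁻¹ᵁ V) ≫ π ∣_ V) := by rw [← morphismRestrict_comp]; infer_instance
    exact IsIso.of_isIso_comp_right _ (π ∣_ V)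
  have hne' : ((π ⁻¹ᵁ V : Y'.Opens) : Set Y').Nonempty := by
    obtain ⟨p, hp⟩ := hV
    obtain ⟨q, rfl⟩ := surjective_point (f x) hy hdim hπ p
    exact ⟨q, hp⟩
  obtain ⟨hgη, -⟩ := ArInt.birational_of_isIso_restrict g _ hne' hgiso
  have hgsurj : Function.Surjective g := fun q =>
    ((genericPoint_spec Y').specializes trivial).mem_closed g.isClosedMap.isClosed_range ⟨_, hgη⟩
  have hpt : ∀ a : X, π (g a) = f a := fun a => by rw [← Scheme.Hom.comp_apply, hg]
  have hsub : contracted g ⊆ contracted f := fun a ⟨ha, hga⟩ => by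
    refine ⟨ha, ?_⟩
    rw [← hpt, ← Set.image_singleton]
    exact π.isClosedMap _ hga
  -- the exceptional divisor is no longer contracted
  have hssub : contracted g ⊂ contracted f := by
    refine hsub.ssubset_of_ne fun heq => ?_
    obtain ⟨j, e, hj, hjy, -⟩ := exists_line_lift (f x) hy hdim hπ
    haveI : IsClosedImmersion j := by rw [hj]; infer_instance
    haveI : IsIntegral (CohB1.ProjSpace 1 (Y.residueField (f x))) := H23.PnChart.isIntegral_projSpace 1 _
    let w := genericPoint (CohB1.ProjSpace 1 (Y.residueField (f x)))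
    obtain ⟨a, ha⟩ := hgsurj (j w)
    have hnc : ¬ IsClosed ({j w} : Set Y') := fun hc => by
      haveI : Subsingleton (CohB1.ProjSpace 1 (Y.residueField (f x))) := ⟨fun p q =>
        j.isEmbedding.injective ((Set.mem_singleton_iff.1 ((((genericPoint_spec _).specializes trivial).map j.continuous).mem_closed hc (Set.mem_singleton (j w))) : j p = j w).trans
          (Set.mem_singleton_iff.1 ((((genericPoint_spec _).specializes trivial).map j.continuous).mem_closed hc (Set.mem_singleton (j w))) : j q = j w).symm)⟩
      have h1 : topologicalKrullDim (CohB1.ProjSpace 1 (Y.residueField (f x))) = 1 := ArInt.dim_line _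
      have h2 : topologicalKrullDim (CohB1.ProjSpace 1 (Y.residueField (f x))) ≤ 0 :=
        topologicalKrullDim_zero_of_discreteTopology _
      rw [h1] at h2
      exact absurd h2 (by norm_num)
    have hain : a ∈ contracted f := by
      refine ⟨fun hc => hnc ?_, ?_⟩
      · rw [← ha, ← Set.image_singleton]; exact g.isClosedMap _ hc
      · rw [← hpt, ha, hjy]; exact hy
    rw [← heq] at hain
    exact hnc (ha ▸ hain.2)
  have hlt := Set.ncard_lt_ncard hssub (finite_contracted f V hV hiso hdX)
  have := ih _ (hn ▸ hlt) g (π ⁻¹ᵁ V) hne' hgiso hY'reg rfl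
  exact hg ▸ contractionSeq_comp this (contractionSeq_point (f x) hy hdim hπ)

end Factorisation

end Groth.Agent.ResolveX
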