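import Groth.Agent.ResolveX.BlowPic
import Groth.Agent.ResolveX.BlowLine
import Groth.Agent.S4366

/-!
# Local rings of a point blow-up through the chart algebra
-/

set_option autoImplicit false
set_option linter.style.haveILetI false
set_option linter.unusedSectionVars false
set_option backward.isDefEq.respectTransparency false
set_option backward.isDefEq.respectTransparency.types false
set_option maxHeartbeats 1000000

universe u

open CategoryTheory CategoryTheory.Limits AlgebraicGeometry TopologicalSpace IsLocalRing Polynomial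

attribute [local instance 2000] CategoryTheory.CategoryStruct.toQuiver

noncomputable section

namespace Groth.Agent.ResolveX

open Groth.Agent Groth.Agent.BlowUpLib

/-- Elements of a localisation of a monogenic algebra are fractions of polynomial values. -/
theorem exists_eval_div {A C B : Type u} [CommRing A] [CommRing C] [CommRing B] [Algebra A C] [Algebra C B]
    [Algebra A B] [IsScalarTower A C B] (τ : C) (hτ : ∀ z : C, z ∈ Algebra.adjoin A ({τ} : Set C))
    (p : Ideal C) [p.IsPrime] [IsLocalization.AtPrime B p] (b : B) :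
    ∃ P Q : A[X], IsUnit (aeval (algebraMap C B τ) Q) ∧
      b * aeval (algebraMap C B τ) Q = aeval (algebraMap C B τ) P := by
  obtain ⟨⟨c, u⟩, hu⟩ := IsLocalization.surj p.primeCompl b
  obtain ⟨P, rfl⟩ := (Algebra.adjoin_singleton_eq_range_aeval A τ).le (hτ c)
  obtain ⟨Q, hQ⟩ := (Algebra.adjoin_singleton_eq_range_aeval A τ).le (hτ u.1)
  refine ⟨P, Q, ?_, ?_⟩ <;> rw [aeval_algebraMap_apply, show aeval τ Q = u.1 from hQ]
  · exact IsLocalization.map_units B u
  · rw [aeval_algebraMap_apply]; exact hu

/-- A monogenic algebra with a linear relation over a two-dimensional domain has dimension at most two. -/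
theorem dim_le_two_of_monogenic {A C : Type u} [CommRing A] [IsDomain A] [IsNoetherianRing A] [CommRing C]
    [Algebra A C] (hA : ringKrullDim A ≤ 2) {s t : A} (hs : s ≠ 0) (τ : C)
    (hτ : ∀ z : C, z ∈ Algebra.adjoin A ({τ} : Set C)) (hrel : τ * algebraMap A C s = algebraMap A C t) :
    ringKrullDim C ≤ 2 := by
  let q : A[X] := Polynomial.C s * X - Polynomial.C t
  have hq : q ∈ nonZeroDivisors A[X] := mem_nonZeroDivisors_of_ne_zero fun h => hs (by
    have := congrArg (fun r : A[X] => r.coeff 1) h
    simpa [q, coeff_C] using this)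
  let g : A[X] ⧸ Ideal.span {q} →+* C := Ideal.Quotient.lift (Ideal.span {q}) (aeval τ).toRingHom fun r hr => by
    obtain ⟨a, rfl⟩ := Ideal.mem_span_singleton'.1 hr
    show aeval τ (a * q) = 0
    have hq0 : aeval τ q = 0 := by
      simp only [q, map_sub, map_mul, aeval_C, aeval_X]
      rw [← hrel, mul_comm, sub_self]
    rw [map_mul, hq0, mul_zero]
  have hg : Function.Surjective g := fun z => by
    obtain ⟨r, rfl⟩ := (Algebra.adjoin_singleton_eq_range_aeval A τ).le (hτ z)
    exact ⟨Ideal.Quotient.mk _ r, rfl⟩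
  refine (ringKrullDim_le_of_surjective g hg).trans ?_
  have h1 := ringKrullDim_quotient_succ_le_of_nonZeroDivisor hq
  rw [Polynomial.ringKrullDim_of_isNoetherianRing] at h1
  have h2 : ringKrullDim (A[X] ⧸ Ideal.span {q}) + 1 ≤ 2 + 1 := h1.trans (add_le_add hA le_rfl)
  rcases hd : ringKrullDim (A[X] ⧸ Ideal.span {q}) with _ | d
  · exact bot_le
  · rw [hd] at h2
    refine WithBot.coe_le_coe.2 ?_
    exact (ENat.add_le_add_iff_right ENat.one_ne_top).1 (WithBot.coe_le_coe.1 h2)

variable {X X' : Scheme.{u}} (x : X) (hx : IsClosed ({x} : Set X)) [IsRegularLocalRing (X.presheaf.stalk x)]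
  {b : X' ⟶ X}

/-- The local ring of the blow-up at a point over the centre is a localisation of a chart algebra. -/
theorem exists_point_chart (hdim : ringKrullDim (X.presheaf.stalk x) = 2)
    (hb : BlowUp.IsBlowUp b (Scheme.IdealSheafData.vanishingIdeal ⟨{x}, hx⟩)) {p : X'} (hp : b p = x) :
    ∃ φ : X.presheaf.stalk x →+* X'.presheaf.stalk p,
      φ = (b.stalkMap p).hom.comp (X.presheaf.stalkSpecializes (specializes_of_eq hp)).hom ∧
      IsLocalHom φ ∧ Function.Injective φ ∧ IsRegularLocalRing (X'.presheaf.stalk p) ∧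
      ringKrullDim (X'.presheaf.stalk p) ≤ 2 ∧
      ∃ (s t : X.presheaf.stalk x) (T : X'.presheaf.stalk p), maximalIdeal (X.presheaf.stalk x) = Ideal.span {s, t} ∧
        s ≠ 0 ∧ φ t = T * φ s ∧
        (letI := φ.toAlgebra
         ∀ w : X'.presheaf.stalk p, ∃ P Q : (X.presheaf.stalk x)[X], IsUnit (aeval T Q) ∧
          w * aeval T Q = aeval T P) := by
  subst hp
  let A : Type u := X.presheaf.stalk (b p)
  haveI : IsRegularLocalRing A := ‹IsRegularLocalRing (X.presheaf.stalk (b p))›
  haveI : IsDomain A := RegLoc6.isDomain_of_isRegularLocalRing A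
  let q := X.fromSpecStalk (b p)
  haveI : Flat q := GrpSchLib.flat_fromSpecStalk (b p)
  have hb' : BlowUp.IsBlowUp (pullback.snd b q) (centre (maximalIdeal A)) := by
    have h := isBlowUp_of_isPullback (IsPullback.of_hasPullback b q).flip hb
    rwa [comap_fromSpecStalk_point (b p) hx] at h
  obtain ⟨e, he, hfac⟩ := exists_iso_localBlowUp A (maximalIdeal A) (pullback.snd b q) hb'
  obtain ⟨w, hw, -⟩ := Scheme.Pullback.exists_preimage_pullback (f := b) (g := q) p (closedPoint A)
    (Scheme.fromSpecStalk_closedPoint).symm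
  obtain ⟨x₁, x₂, hx₁, hx₂, hm⟩ := exists_regular_pair A hdim
  obtain ⟨a, a', ha0, ha'0, hspan, hmem⟩ : ∃ a a' : maximalIdeal A, (a : A) ≠ 0 ∧ (a' : A) ≠ 0 ∧
      maximalIdeal A ≤ Ideal.span {(a' : A), (a : A)} ∧ e w ∈ (chart (maximalIdeal A) a).opensRange := by
    rcases (chart_sup (maximalIdeal A) x₁ x₂ hm).ge (Set.mem_univ (e w)) with h | h
    · rw [SetLike.mem_coe, Scheme.Hom.image_top_eq_opensRange] at h
      exact ⟨x₂, x₁, hx₂, hx₁, hm, h⟩
    · rw [SetLike.mem_coe, Scheme.Hom.image_top_eq_opensRange] at h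
      exact ⟨x₁, x₂, hx₁, hx₂, hm.trans (by rw [Set.pair_comm]), h⟩
  obtain ⟨z, hz⟩ := hmem
  let C : Type u := BlowUp.affineAlgebra A (maximalIdeal A) (a : A)
  haveI : IsDomain (Localization.Away (a : A)) :=
    IsLocalization.isDomain_localization (powers_le_nonZeroDivisors_of_noZeroDivisors ha0)
  haveI : IsDomain C := inferInstanceAs (IsDomain (BlowUp.affineAlgebra A (maximalIdeal A) (a : A)))
  let e' : Spec (CommRingCat.of C) ⟶ pullback b q := chart (maximalIdeal A) a ≫ inv e
  let j : Spec (CommRingCat.of C) ⟶ X' := e' ≫ pullback.fst b q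
  have hinv : ∀ v, inv e (e v) = v := fun v => by
    rw [← Scheme.Hom.comp_apply, IsIso.hom_inv_id]; rfl
  have hjz : j z = p := by
    show (pullback.fst b q) (inv e (chart (maximalIdeal A) a z)) = p
    rw [hz, hinv]
    exact hw
  haveI : IsIso ((pullback.fst b q).stalkMap (e' z)) := S4366.result b (b p) (e' z)
  haveI : IsIso (j.stalkMap z) := by rw [Scheme.Hom.stalkMap_comp]; infer_instance
  -- the map from the chart algebra
  let ρ : CommRingCat.of C ⟶ X'.presheaf.stalk (j z) :=
    StructureSheaf.toStalk (CommRingCat.of C) z ≫ inv (j.stalkMap z)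
  have hj : Spec.map ρ ≫ j = X'.fromSpecStalk (j z) := by
    rw [← cancel_epi (Spec.map (j.stalkMap z)), Scheme.SpecMap_stalkMap_fromSpecStalk, ← Category.assoc,
      ← Spec.map_comp, Category.assoc, IsIso.inv_hom_id, Category.comp_id, Spec.fromSpecStalk_eq']
  have hjb : j ≫ b = Spec.map (CommRingCat.ofHom (algebraMap A C)) ≫ q := by
    show ((chart (maximalIdeal A) a ≫ inv e) ≫ pullback.fst b q) ≫ b = _
    rw [Category.assoc, pullback.condition, ← Category.assoc, Category.assoc (chart _ a), ← hfac,
      IsIso.inv_hom_id_assoc, chart_toBase]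
  letI : Algebra C ((Spec (CommRingCat.of C)).presheaf.stalk z) :=
    (StructureSheaf.toStalk (CommRingCat.of C) z).hom.toAlgebra
  haveI : IsLocalization.AtPrime ((Spec (CommRingCat.of C)).presheaf.stalk z) (z : PrimeSpectrum C).asIdeal :=
    StructureSheaf.IsLocalization.to_stalk (R := C) z
  -- transport to `p`
  let κ : X'.presheaf.stalk (j z) ≅ X'.presheaf.stalk p := X'.presheaf.stalkCongr (.of_eq hjz)
  let χ : CommRingCat.of C ⟶ X'.presheaf.stalk p := ρ ≫ κ.hom
  have hχ : Spec.map χ ≫ j = X'.fromSpecStalk p := by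
    rw [Spec.map_comp, Category.assoc, hj]
    exact Scheme.SpecMap_stalkSpecializes_fromSpecStalk (specializes_of_eq hjz.symm)
  let φ : X.presheaf.stalk (b p) →+* X'.presheaf.stalk p := (b.stalkMap p).hom
  have hφ : CommRingCat.ofHom (algebraMap A C) ≫ χ = b.stalkMap p := by
    refine Spec.map_injective ?_
    rw [← cancel_mono q, Spec.map_comp, Category.assoc, ← hjb, ← Category.assoc, hχ,
      Scheme.SpecMap_stalkMap_fromSpecStalk]
  letI : Algebra C (X'.presheaf.stalk p) := χ.hom.toAlgebra
  letI : Algebra A (X'.presheaf.stalk p) := φ.toAlgebra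
  haveI : IsScalarTower A C (X'.presheaf.stalk p) := IsScalarTower.of_algebraMap_eq fun r =>
    (ConcreteCategory.congr_hom hφ r).symm
  haveI : IsLocalization.AtPrime (X'.presheaf.stalk p) (z : PrimeSpectrum C).asIdeal := by
    refine IsLocalization.isLocalization_of_algEquiv _
      (AlgEquiv.ofRingEquiv (f := ((asIso (j.stalkMap z)).symm ≪≫ κ).commRingCatIsoToRingEquiv) fun r => ?_ :
        (Spec (CommRingCat.of C)).presheaf.stalk z ≃ₐ[C] X'.presheaf.stalk p)
    rfl
  have hne : (z : PrimeSpectrum C).asIdeal.primeCompl ≤ nonZeroDivisors C :=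
    Ideal.primeCompl_le_nonZeroDivisors _
  have hτ : frac (maximalIdeal A) a' a * algebraMap A C a = algebraMap A C a' := frac_mul _ a' a
  refine ⟨φ, ?_, inferInstanceAs (IsLocalHom (b.stalkMap p).hom), ?_, ?_, ?_, (a : A), (a' : A),
    χ.hom (frac (maximalIdeal A) a' a), ?_, ha0, ?_, fun w => ?_⟩
  · rw [TopCat.Presheaf.stalkSpecializes_refl]
    rfl
  · intro r r' h
    rw [show φ r = χ.hom (algebraMap A C r) from (ConcreteCategory.congr_hom hφ r).symm,
      show φ r' = χ.hom (algebraMap A C r') from (ConcreteCategory.congr_hom hφ r').symm] at h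
    have h1 : algebraMap A C r = algebraMap A C r' := IsLocalization.injective (X'.presheaf.stalk p) hne h
    exact IsLocalization.injective (Localization.Away (a : A)) (powers_le_nonZeroDivisors_of_noZeroDivisors ha0)
      (congrArg Subtype.val h1)
  · haveI := regular_localBlowUp A (chart (maximalIdeal A) a z)
    haveI : IsRegularLocalRing ((Spec (CommRingCat.of C)).presheaf.stalk z) :=
      IsRegularLocalRing.of_ringEquiv (asIso ((chart (maximalIdeal A) a).stalkMap z)).commRingCatIsoToRingEquiv
    exact IsRegularLocalRing.of_ringEquiv ((asIso (j.stalkMap z)).symm ≪≫ κ).commRingCatIsoToRingEquiv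
  · rw [IsLocalization.AtPrime.ringKrullDim_eq_height (z : PrimeSpectrum C).asIdeal (X'.presheaf.stalk p)]
    exact (Ideal.height_le_ringKrullDim_of_ne_top (z : PrimeSpectrum C).2.ne_top).trans
      (dim_le_two_of_monogenic hdim.le ha0 _ (fun c => adjoin_frac_eq a' a hspan c) hτ)
  · refine le_antisymm (hspan.trans (by rw [Set.pair_comm])) (Ideal.span_le.2 ?_)
    rintro _ (rfl | rfl)
    exacts [a.2, a'.2]
  · show φ (a' : A) = _
    rw [show φ (a' : A) = χ.hom (algebraMap A C a') from (ConcreteCategory.congr_hom hφ _).symm,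
      show φ (a : A) = χ.hom (algebraMap A C a) from (ConcreteCategory.congr_hom hφ _).symm, ← map_mul, hτ]
  · exact exists_eval_div _ (fun c => adjoin_frac_eq a' a hspan c) (z : PrimeSpectrum C).asIdeal w

end Groth.Agent.ResolveX
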