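import Groth.Agent.ResolveX.DropLength
import Groth.Agent.ResolveX.PointChart
import Groth.Agent.ResolveX.ContractSeq

/-!
# Principalisation of ideals with finite cosupport by point blow-ups
-/

set_option autoImplicit false
set_option linter.style.haveILetI false
set_option linter.unusedSectionVars false
set_option backward.isDefEq.respectTransparency false
set_option backward.isDefEq.respectTransparency.types false
set_option maxHeartbeats 1000000

universe u

open CategoryTheory CategoryTheory.Limits AlgebraicGeometry TopologicalSpace IsLocalRing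

attribute [local instance 2000] CategoryTheory.CategoryStruct.toQuiver

noncomputable section

namespace Groth.Agent.ResolveX

open Groth.Agent

/-- The ideal sheaf is generated by a nonzerodivisor at the point. -/
def CartierAt {X : Scheme.{u}} (J : X.IdealSheafData) (p : X) : Prop :=
  ∃ g ∈ nonZeroDivisors (X.presheaf.stalk p), Div21Lib.stI J p = Ideal.span {g}

/-- The ideal sheaf is, at the point, a nonzero element times an ideal of colength at most `ℓ`. -/
def Residual {X : Scheme.{u}} (J : X.IdealSheafData) (p : X) (ℓ : ℕ) : Prop :=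
  ∃ (g : X.presheaf.stalk p) (K : Ideal (X.presheaf.stalk p)), g ≠ 0 ∧ Div21Lib.stI J p = Ideal.span {g} * K ∧
    Module.length (X.presheaf.stalk p) (X.presheaf.stalk p ⧸ K) ≤ ℓ

/-- The ideal sheaf is invertible outside regular surface points with bounded residual colength. -/
def Good {X : Scheme.{u}} (J : X.IdealSheafData) (ℓ : ℕ) : Prop :=
  ∀ p : X, ¬ CartierAt J p → IsClosed ({p} : Set X) ∧ IsRegularLocalRing (X.presheaf.stalk p) ∧
    ringKrullDim (X.presheaf.stalk p) = 2 ∧ Residual J p ℓ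

/-- Cartier at a point means Cartier near the point. -/
theorem exists_affine_of_cartierAt {X : Scheme.{u}} [IsLocallyNoetherian X] {J : X.IdealSheafData} {p : X}
    (h : CartierAt J p) :
    ∃ U : X.affineOpens, p ∈ U.1 ∧ ∃ f : Γ(X, U.1), f ∈ nonZeroDivisors Γ(X, U.1) ∧ J.ideal U = Ideal.span {f} := by
  classical
  obtain ⟨V, hV, hxV, -⟩ := exists_isAffineOpen_mem_and_subset (x := p) (U := ⊤) trivial
  haveI : IsNoetherianRing Γ(X, V) := IsLocallyNoetherian.component_noetherian ⟨V, hV⟩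
  obtain ⟨g, hg0, hg⟩ := h
  rw [Div21Lib.stI_eq J ⟨V, hV⟩ hxV] at hg
  letI := TopCat.Presheaf.algebra_section_stalk X.presheaf ⟨p, hxV⟩
  let P := (hV.primeIdealOf ⟨p, hxV⟩).asIdeal
  haveI : IsLocalization.AtPrime (X.presheaf.stalk p) P := hV.isLocalization_stalk ⟨p, hxV⟩
  have hg' : (J.ideal ⟨V, hV⟩).map (algebraMap Γ(X, V) (X.presheaf.stalk p)) = Ideal.span {g} := hg
  have hgm : g ∈ (J.ideal ⟨V, hV⟩).map (algebraMap Γ(X, V) (X.presheaf.stalk p)) :=
    hg'.symm ▸ Ideal.mem_span_singleton_self g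
  obtain ⟨⟨⟨i, hi⟩, m⟩, him⟩ := (IsLocalization.mem_map_algebraMap_iff P.primeCompl _).1 hgm
  have hu := IsLocalization.map_units (X.presheaf.stalk p) m
  have hi0 : algebraMap Γ(X, V) (X.presheaf.stalk p) i ∈ nonZeroDivisors (X.presheaf.stalk p) := by
    rw [← him]; exact mul_mem hg0 hu.mem_nonZeroDivisors
  have hspan : Ideal.span {algebraMap Γ(X, V) (X.presheaf.stalk p) i} = Ideal.span {g} := by
    rw [← him, Ideal.span_singleton_mul_right_unit hu]
  -- clear denominators
  obtain ⟨s, hs⟩ := IsNoetherian.noetherian (J.ideal ⟨V, hV⟩)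
  obtain ⟨t, ht⟩ := IsNoetherian.noetherian (LinearMap.ker (LinearMap.mulRight Γ(X, V) i))
  have h1 : ∀ y ∈ J.ideal ⟨V, hV⟩, ∃ a ∉ P, a * y ∈ Ideal.span {i} := by
    intro y hy
    have hy' : algebraMap Γ(X, V) (X.presheaf.stalk p) y ∈ Ideal.span {algebraMap Γ(X, V) (X.presheaf.stalk p) i} := by
      rw [hspan, ← hg']; exact Ideal.mem_map_of_mem _ hy
    obtain ⟨c, hc⟩ := Ideal.mem_span_singleton'.1 hy'
    obtain ⟨⟨r, u⟩, hu⟩ := IsLocalization.surj P.primeCompl c
    have : algebraMap Γ(X, V) (X.presheaf.stalk p) (u.1 * y) = algebraMap Γ(X, V) (X.presheaf.stalk p) (r * i) := by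
      rw [map_mul, map_mul, ← hu, ← hc]; ring
    obtain ⟨w, hw⟩ := (IsLocalization.eq_iff_exists P.primeCompl _).1 this
    refine ⟨w.1 * u.1, (w * u).2, Ideal.mem_span_singleton'.2 ⟨w.1 * r, ?_⟩⟩
    linear_combination -hw
  have h2 : ∀ y : Γ(X, V), y * i = 0 → ∃ a ∉ P, a * y = 0 := by
    intro y hy
    have : algebraMap Γ(X, V) (X.presheaf.stalk p) y = 0 :=
      hi0.2 _ (by rw [← map_mul, hy, map_zero])
    obtain ⟨w, hw⟩ := (IsLocalization.map_eq_zero_iff P.primeCompl _ y).1 this
    exact ⟨w.1, w.2, hw⟩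
  choose a ha ha' using fun y : s => h1 y.1 (hs ▸ Submodule.subset_span y.2)
  choose c hc hc' using fun y : t => h2 y.1 (by
    have : y.1 ∈ LinearMap.ker (LinearMap.mulRight Γ(X, V) i) := ht ▸ Submodule.subset_span y.2
    simpa using this)
  let d := (∏ y, a y) * ∏ y, c y
  have hd : d ∉ P := fun h => by
    rcases (inferInstance : P.IsPrime).mem_or_mem h with h | h <;> obtain ⟨j, -, hj⟩ := (inferInstance : P.IsPrime).prod_mem_iff.1 h
    exacts [ha j hj, hc j hj]
  have hpd : p ∈ X.basicOpen d :=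
    (X.mem_basicOpen d p hxV).2 (IsLocalization.map_units (X.presheaf.stalk p) (⟨d, hd⟩ : P.primeCompl))
  haveI := hV.isLocalization_basicOpen d
  refine ⟨X.affineBasicOpen (U := ⟨V, hV⟩) d, hpd, ?_⟩
  show ∃ f : Γ(X, X.basicOpen d), f ∈ nonZeroDivisors Γ(X, X.basicOpen d) ∧ _ = Ideal.span {f}
  refine ⟨algebraMap Γ(X, V) Γ(X, X.basicOpen d) i, ?_, ?_⟩
  · have hu := IsLocalization.Away.algebraMap_isUnit (S := Γ(X, X.basicOpen d)) d
    refine mem_nonZeroDivisors_iff_right.2 fun z hz => ?_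
    obtain ⟨⟨r, w⟩, hrw⟩ := IsLocalization.surj (Submonoid.powers d) z
    have h3 : algebraMap Γ(X, V) Γ(X, X.basicOpen d) (r * i) = 0 := by
      rw [map_mul, ← hrw, mul_right_comm, hz, zero_mul]
    obtain ⟨v, hv⟩ := (IsLocalization.map_eq_zero_iff (Submonoid.powers d) _ _).1 h3
    have hmem : v.1 * r ∈ LinearMap.ker (LinearMap.mulRight Γ(X, V) i) := by
      show v.1 * r * i = 0
      rw [mul_assoc]; exact hv
    rw [← ht] at hmem
    have hkill : d * (v.1 * r) = 0 := by
      refine Submodule.span_induction (fun y hy => ?_) (mul_zero _) (fun _ _ _ _ h h' => by rw [mul_add, h, h', add_zero])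
        (fun e _ _ h => by rw [smul_eq_mul, mul_left_comm, h, mul_zero]) hmem
      obtain ⟨e, he⟩ := Finset.dvd_prod_of_mem c (Finset.mem_univ (⟨y, hy⟩ : t))
      show (∏ y, a y) * (∏ y, c y) * y = 0
      rw [he, show (∏ y, a y) * (c ⟨y, hy⟩ * e) * y = (∏ y, a y) * e * (c ⟨y, hy⟩ * y) by ring, hc' ⟨y, hy⟩, mul_zero]
    have h4 : algebraMap Γ(X, V) Γ(X, X.basicOpen d) r = 0 :=
      (IsLocalization.map_eq_zero_iff (Submonoid.powers d) _ _).2
        ⟨⟨d, Submonoid.mem_powers _⟩ * v, by rw [Submonoid.coe_mul, mul_assoc, hkill]⟩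
    exact (IsLocalization.map_units (Γ(X, X.basicOpen d)) w).mul_left_eq_zero.1 (hrw.trans h4)
  · refine (J.map_ideal_basicOpen ⟨V, hV⟩ d).symm.trans (le_antisymm ?_
      ((Ideal.span_singleton_le_iff_mem _).2 (Ideal.mem_map_of_mem _ hi)))
    show (J.ideal ⟨V, hV⟩).map (algebraMap Γ(X, V) Γ(X, X.basicOpen d)) ≤ _
    conv_lhs => rw [← hs]
    rw [Ideal.map_span, Ideal.span_le]
    rintro _ ⟨y, hy, rfl⟩
    have hu := IsLocalization.Away.algebraMap_isUnit (S := Γ(X, X.basicOpen d)) d
    refine (Ideal.unit_mul_mem_iff_mem _ hu).1 ?_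
    rw [← map_mul]
    obtain ⟨e, he⟩ := Ideal.mem_span_singleton'.1 (ha' ⟨y, hy⟩)
    obtain ⟨e', he'⟩ := Finset.dvd_prod_of_mem a (Finset.mem_univ (⟨y, hy⟩ : s))
    refine Ideal.mem_span_singleton'.2 ⟨algebraMap _ _ (e' * (∏ y, c y) * e), ?_⟩
    rw [← map_mul]
    congr 1
    show _ = (∏ y, a y) * (∏ y, c y) * y
    rw [he']
    linear_combination (e' * ∏ y, c y) * he

/-- Being Cartier near a point gives it at the point. -/
theorem cartierAt_of_affine {X : Scheme.{u}} {J : X.IdealSheafData} (U : X.affineOpens) {p : X} (hp : p ∈ U.1)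
    {f : Γ(X, U.1)} (hf : f ∈ nonZeroDivisors Γ(X, U.1)) (h : J.ideal U = Ideal.span {f}) : CartierAt J p := by
  letI := TopCat.Presheaf.algebra_section_stalk X.presheaf ⟨p, hp⟩
  let P := (U.2.primeIdealOf ⟨p, hp⟩).asIdeal
  haveI : IsLocalization.AtPrime (X.presheaf.stalk p) P := U.2.isLocalization_stalk ⟨p, hp⟩
  refine ⟨algebraMap Γ(X, U.1) (X.presheaf.stalk p) f,
    IsLocalization.map_nonZeroDivisors_le P.primeCompl (X.presheaf.stalk p) ⟨f, hf, rfl⟩, ?_⟩
  rw [Div21Lib.stI_eq J U hp, h, Ideal.map_span, Set.image_singleton]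
  rfl

/-- Everywhere Cartier is effective Cartier. -/
theorem isEffCartier_of_cartierAt {X : Scheme.{u}} [IsLocallyNoetherian X] {J : X.IdealSheafData}
    (h : ∀ p, CartierAt J p) : BlowUp.IsEffCartierIdeal J := fun p => by
  obtain ⟨U, hU, f, hf, he⟩ := exists_affine_of_cartierAt (h p)
  exact ⟨U, hU, f, hf, he⟩

/-- The non-Cartier locus is closed. -/
theorem isClosed_not_cartierAt {X : Scheme.{u}} [IsLocallyNoetherian X] (J : X.IdealSheafData) :
    IsClosed {p : X | ¬ CartierAt J p} := by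
  rw [← isOpen_compl_iff, Set.compl_setOf]
  simp only [not_not]
  refine isOpen_iff_forall_mem_open.2 fun p hp => ?_
  obtain ⟨U, hU, f, hf, he⟩ := exists_affine_of_cartierAt hp
  exact ⟨U.1, fun q hq => cartierAt_of_affine U hq hf he, U.1.2, hU⟩

/-- A closed set of closed points in a Noetherian scheme is finite. -/
theorem finite_of_closed {X : Scheme.{u}} [NoetherianSpace X] {S : Set X} (hS : IsClosed S)
    (h : ∀ s ∈ S, IsClosed ({s} : Set X)) : S.Finite := by
  obtain ⟨T, hTf, hTc, hTi, rfl⟩ := NoetherianSpace.exists_finite_set_isClosed_irreducible hS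
  refine hTf.sUnion fun C hC => ?_
  have hgen := (hTi C hC).isGenericPoint_genericPoint (hTc C hC)
  refine (Set.finite_singleton (hTi C hC).genericPoint).subset fun c hc => ?_
  exact (hgen.specializes hc).mem_closed (h _ ⟨C, hC, hgen.mem⟩) rfl

theorem finite_not_cartierAt {X : Scheme.{u}} [IsNoetherian X] {J : X.IdealSheafData} {ℓ : ℕ} (h : Good J ℓ) :
    {p : X | ¬ CartierAt J p}.Finite :=
  finite_of_closed (isClosed_not_cartierAt J) fun p hp => (h p hp).1

/-- A domain whose ideals are principal gives Cartier points. -/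
theorem cartierAt_of_dim_le_one {X : Scheme.{u}} {J : X.IdealSheafData} {p : X}
    [IsRegularLocalRing (X.presheaf.stalk p)] (hd : ringKrullDim (X.presheaf.stalk p) < 2)
    (h0 : Div21Lib.stI J p ≠ ⊥) : CartierAt J p := by
  haveI : IsDomain (X.presheaf.stalk p) := RegLoc6.isDomain_of_isRegularLocalRing _
  haveI : UniqueFactorizationMonoid (X.presheaf.stalk p) := (S2821.result _).2
  haveI : Ring.KrullDimLE 1 (X.presheaf.stalk p) := Ring.krullDimLE_iff.2 (by
    rcases h : ringKrullDim (X.presheaf.stalk p) with _ | n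
    · exact bot_le
    · rw [h] at hd
      exact WithBot.coe_le_coe.2 (Order.le_of_lt_add_one (show n < 1 + 1 from WithBot.coe_lt_coe.1 hd)))
  haveI : Ring.DimensionLEOne (X.presheaf.stalk p) := ⟨fun {P} hP0 hP =>
    Ideal.IsPrime.isMaximal_of_ne_bot hP hP0⟩
  haveI : IsDedekindDomain (X.presheaf.stalk p) := {}
  haveI : IsBezout (X.presheaf.stalk p) := inferInstance
  obtain ⟨g, hg⟩ := (IsBezout.isPrincipal_of_FG _ (IsNoetherian.noetherian (Div21Lib.stI J p))).principal
  refine ⟨g, mem_nonZeroDivisors_of_ne_zero fun h => h0 ?_, hg⟩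
  rw [hg, h]
  exact Submodule.span_zero_singleton _

/-- An ideal of finite colength contains a power of the maximal ideal. -/
theorem exists_pow_le_of_length {A : Type u} [CommRing A] [IsLocalRing A] [IsNoetherianRing A] (K : Ideal A)
    (hK : Module.length A (A ⧸ K) ≠ ⊤) : ∃ N, maximalIdeal A ^ N ≤ K := by
  haveI : IsArtinian A (A ⧸ K) :=
    (isFiniteLength_iff_isNoetherian_isArtinian.1 (Module.length_ne_top_iff.1 hK)).2
  obtain ⟨N, hN⟩ := IsArtinian.monotone_stabilizes (R := A) (M := A ⧸ K)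
    ⟨fun n => OrderDual.toDual (Submodule.map K.mkQ (maximalIdeal A ^ n : Ideal A)), fun n m hnm =>
      Submodule.map_mono (Ideal.pow_le_pow_right hnm)⟩
  refine ⟨N, Submodule.le_of_le_smul_of_le_jacobson_bot (I := maximalIdeal A) (IsNoetherian.noetherian _)
    (IsLocalRing.maximalIdeal_le_jacobson _) fun z hz => ?_⟩
  have h : K.mkQ z ∈ Submodule.map K.mkQ (maximalIdeal A ^ (N + 1) : Ideal A) :=
    (show Submodule.map K.mkQ (maximalIdeal A ^ N : Ideal A) = Submodule.map K.mkQ (maximalIdeal A ^ (N + 1) : Ideal A) from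
      hN (N + 1) (Nat.le_succ N)).le ⟨z, hz, rfl⟩
  obtain ⟨w, hw, hwz⟩ := h
  have h2 : z - w ∈ K := (Submodule.Quotient.eq K).1 hwz.symm
  have : z = (z - w) + w := by ring
  rw [this]
  refine Submodule.add_mem_sup h2 ?_
  rwa [smul_eq_mul, ← pow_succ']

section Step

variable {X X' : Scheme.{u}} (x : X) (hx : IsClosed ({x} : Set X)) {b : X' ⟶ X}
  (hb : BlowUp.IsBlowUp b (Scheme.IdealSheafData.vanishingIdeal ⟨{x}, hx⟩))

include hb in
/-- Away from the centre the blow-up is an isomorphism on stalks. -/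
theorem isIso_stalkMap_off {p : X'} (hp : b p ≠ x) : IsIso (b.stalkMap p) := by
  let U : X.Opens := off x hx
  haveI : IsIso (b ∣_ U) := BlowUpLib.isIso_restrict hb U fun q hq => by
    show q ∉ ((Scheme.IdealSheafData.vanishingIdeal ⟨{x}, hx⟩).support : Set X)
    rw [Scheme.IdealSheafData.coe_support_vanishingIdeal]
    exact hq
  exact ((MorphismProperty.isomorphisms CommRingCat.{u}).arrow_mk_iso_iff
    (morphismRestrictStalkMap b U ⟨p, hp⟩)).1 (inferInstance : IsIso _)

include hb in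
theorem eq_of_apply_eq_off {p p' : X'} (hp : b p ≠ x) (h : b p = b p') : p = p' := by
  let U : X.Opens := off x hx
  haveI : IsIso (b ∣_ U) := BlowUpLib.isIso_restrict hb U fun q hq => by
    show q ∉ ((Scheme.IdealSheafData.vanishingIdeal ⟨{x}, hx⟩).support : Set X)
    rw [Scheme.IdealSheafData.coe_support_vanishingIdeal]
    exact hq
  have h' := (b ∣_ U).homeomorph.injective (a₁ := (⟨p, hp⟩ : ↥(b ⁻¹ᵁ U))) (a₂ := ⟨p', show b p' ≠ x from h ▸ hp⟩)
    (Subtype.ext ((morphismRestrict_base_coe b U ⟨p, hp⟩).trans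
      (h.trans (morphismRestrict_base_coe b U ⟨p', show b p' ≠ x from h ▸ hp⟩).symm)))
  exact congrArg Subtype.val h'

include hb in
theorem cartierAt_off (J : X.IdealSheafData) {p : X'} (hp : b p ≠ x) (h : CartierAt J (b p)) :
    CartierAt (J.comap b) p := by
  haveI := isIso_stalkMap_off x hx hb hp
  obtain ⟨g, hg, he⟩ := h
  refine ⟨(b.stalkMap p).hom g, ?_, ?_⟩
  · have hbij := (ConcreteCategory.isIso_iff_bijective (b.stalkMap p)).1 inferInstance
    refine mem_nonZeroDivisors_iff_right.2 fun z hz => ?_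
    obtain ⟨w, rfl⟩ := hbij.2 z
    rw [← map_mul, ← map_zero (b.stalkMap p).hom] at hz
    rw [hg.2 w (hbij.1 hz), map_zero]
  · rw [Div21Lib.stI_comap, he, Ideal.map_span, Set.image_singleton]

include hb in
theorem residual_off (J : X.IdealSheafData) {ℓ : ℕ} {p : X'} (hp : b p ≠ x) (h : Residual J (b p) ℓ) :
    Residual (J.comap b) p ℓ := by
  haveI := isIso_stalkMap_off x hx hb hp
  obtain ⟨g, K, hg, he, hl⟩ := h
  let φ := (b.stalkMap p).hom
  have hbij : Function.Bijective φ := (ConcreteCategory.isIso_iff_bijective (b.stalkMap p)).1 inferInstance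
  refine ⟨φ g, K.map φ, fun h => hg (hbij.1 (h.trans (map_zero _).symm)), ?_, le_trans ?_ hl⟩
  · rw [Div21Lib.stI_comap, he, Ideal.map_mul, Ideal.map_span, Set.image_singleton]
  · letI := φ.toAlgebra
    have h1 := Submodule.length_le_length_restrictScalars (X.presheaf.stalk (b p))
      (⊤ : Submodule (X'.presheaf.stalk p) (X'.presheaf.stalk p ⧸ K.map φ))
    rw [Module.length_top, Submodule.restrictScalars_top, Module.length_top] at h1
    refine h1.trans ?_
    let π : X.presheaf.stalk (b p) →ₗ[X.presheaf.stalk (b p)] X'.presheaf.stalk p ⧸ K.map φ :=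
      ((K.map φ).mkQ.restrictScalars (X.presheaf.stalk (b p))).comp (Algebra.linearMap (X.presheaf.stalk (b p)) (X'.presheaf.stalk p))
    refine Module.length_le_of_surjective (g := Submodule.liftQ K π fun z hz =>
      (Submodule.Quotient.mk_eq_zero _).2 (Ideal.mem_map_of_mem φ hz)) fun z => ?_
    obtain ⟨w, rfl⟩ := Submodule.Quotient.mk_surjective _ z
    obtain ⟨v, rfl⟩ := hbij.2 w
    exact ⟨Submodule.Quotient.mk v, rfl⟩

include hb in
/-- Over the centre a bad point is a closed regular surface point with smaller residual colength. -/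
theorem bad_over_centre [IsLocallyNoetherian X] [IsRegularLocalRing (X.presheaf.stalk x)]
    (hdim : ringKrullDim (X.presheaf.stalk x) = 2) (J : X.IdealSheafData) {ℓ : ℕ}
    (hres : Residual J x (ℓ + 1)) (hnot : ¬ Residual J x ℓ) {p : X'} (hp : b p = x)
    (hbad : ¬ CartierAt (J.comap b) p) :
    IsClosed ({p} : Set X') ∧ IsRegularLocalRing (X'.presheaf.stalk p) ∧
      ringKrullDim (X'.presheaf.stalk p) = 2 ∧ Residual (J.comap b) p ℓ := by
  obtain ⟨φ, hφ, hloc, hinj, hreg, hle, s, t, T, hm, hs, hts, hgen⟩ := exists_point_chart x hx hdim hb hp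
  subst hp
  haveI := hreg
  haveI : IsDomain (X'.presheaf.stalk p) := RegLoc6.isDomain_of_isRegularLocalRing _
  haveI : IsDomain (X.presheaf.stalk (b p)) := RegLoc6.isDomain_of_isRegularLocalRing _
  have hφ' : φ = (b.stalkMap p).hom := by rw [hφ, TopCat.Presheaf.stalkSpecializes_refl]; rfl
  obtain ⟨g, K, hg, he, hl⟩ := hres
  have hKne : K ≠ ⊤ := fun h => hnot ⟨g, K, hg, he, by
    haveI : Subsingleton (X.presheaf.stalk (b p) ⧸ K) := Submodule.Quotient.subsingleton_iff.2 h
    rw [Module.length_eq_zero]; exact zero_le⟩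
  have hfin : Module.length (X.presheaf.stalk (b p)) (X.presheaf.stalk (b p) ⧸ K) ≠ ⊤ :=
    ne_top_of_le_ne_top (ENat.natCast_ne_top _) hl
  obtain ⟨N, hN⟩ := exists_pow_le_of_length K hfin
  letI := φ.toAlgebra
  haveI := hloc
  have hsm : s ∈ maximalIdeal (X.presheaf.stalk (b p)) := hm ▸ Ideal.subset_span (by simp)
  have hsB : φ s ∈ maximalIdeal (X'.presheaf.stalk p) :=
    (mem_maximalIdeal _).2 fun hu => ((mem_maximalIdeal _).1 hsm) ((isUnit_map_iff φ s).1 hu)
  obtain ⟨g', I', hg', hI', hlt⟩ := exists_residual hm hs hinj hsB T hts hgen hN hKne hfin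
  have hst : Div21Lib.stI (J.comap b) p = Ideal.span {φ g * g'} * I' := by
    rw [Div21Lib.stI_comap, he, Ideal.map_mul, Ideal.map_span, Set.image_singleton, ← hφ',
      show K.map φ = Ideal.span {g'} * I' from hI', ← mul_assoc, Ideal.span_singleton_mul_span_singleton]
  have hne0 : φ g * g' ≠ 0 := mul_ne_zero (fun h => hg (hinj (h.trans (map_zero _).symm))) hg'
  have hI0 : I' ≠ ⊥ := fun h => by
    have h1 : K.map φ = ⊥ := by rw [show K.map φ = Ideal.span {g'} * I' from hI', h, Ideal.mul_bot]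
    have h2 : φ (s ^ N) ∈ (⊥ : Ideal (X'.presheaf.stalk p)) :=
      h1 ▸ Ideal.mem_map_of_mem φ (hN (Ideal.pow_mem_pow hsm N))
    exact pow_ne_zero N hs (hinj ((Ideal.mem_bot.1 h2).trans (map_zero _).symm))
  have hst0 : Div21Lib.stI (J.comap b) p ≠ ⊥ := fun h => by
    rw [hst, Ideal.mul_eq_bot] at h
    rcases h with h | h
    exacts [hne0 (Ideal.span_singleton_eq_bot.1 h), hI0 h]
  have hdim2 : ringKrullDim (X'.presheaf.stalk p) = 2 :=
    le_antisymm hle (not_lt.1 fun h => hbad (cartierAt_of_dim_le_one h hst0))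
  refine ⟨closure_subset_iff_isClosed.1 fun w hw => ?_, hreg, hdim2,
    φ g * g', I', hne0, hst, Order.le_of_lt_add_one (hlt.trans_le hl)⟩
  by_contra hwp
  have hsp : p ⤳ w := specializes_iff_mem_closure.2 hw
  have hlt' : w < p := ⟨hsp, fun h : w ⤳ p => hwp (h.antisymm hsp).eq⟩
  have hbw : b w = b p := (hsp.map b.continuous).mem_closed hx rfl
  obtain ⟨-, -, -, -, -, hle', -⟩ := exists_point_chart (b p) hx hdim hb hbw
  have h6 := Order.coheight_add_one_le hlt'
  rw [ringKrullDim_stalk_eq_coheight] at hdim2 hle'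
  have h8 : (2 : ℕ∞) + 1 ≤ 2 :=
    (add_le_add (WithBot.coe_le_coe.1 hdim2.ge) le_rfl).trans (h6.trans (WithBot.coe_le_coe.1 hle'))
  exact absurd h8 (by norm_num)

end Step

/-- Principalisation by point blow-ups. -/
theorem exists_principalize : ∀ (ℓ : ℕ) (X : Scheme.{u}) [IsNoetherian X] (J : X.IdealSheafData), Good J ℓ →
    ∃ (X' : Scheme.{u}) (g : X' ⟶ X), Models.IsContractionSeq g ∧
      (∀ V : X.Opens, (∀ q ∈ V, CartierAt J q) → IsIso (g ∣_ V)) ∧ BlowUp.IsEffCartierIdeal (J.comap g) := by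
  intro ℓ
  induction ℓ with
  | zero =>
    intro X _ J hJ
    have hall : ∀ p, CartierAt J p := fun p => by
      by_contra hp
      obtain ⟨-, hreg, -, g, K, hg, he, hl⟩ := hJ p hp
      haveI := hreg
      haveI : IsDomain (X.presheaf.stalk p) := RegLoc6.isDomain_of_isRegularLocalRing _
      have hK : K = ⊤ := by
        haveI : Subsingleton (X.presheaf.stalk p ⧸ K) := Module.length_eq_zero_iff.1 (nonpos_iff_eq_zero.1 hl)
        exact Submodule.Quotient.subsingleton_iff.1 this
      exact hp ⟨g, mem_nonZeroDivisors_of_ne_zero hg, by rw [he, hK, Ideal.mul_top]⟩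
    refine ⟨X, (Iso.refl X).hom, Models.IsContractionSeq.iso (Iso.refl X), fun V _ => inferInstance, ?_⟩
    rw [Iso.refl_hom, Scheme.IdealSheafData.comap_id]
    exact isEffCartier_of_cartierAt hall
  | succ ℓ ih =>
    suffices main : ∀ (n : ℕ) (X : Scheme.{u}) [IsNoetherian X] (J : X.IdealSheafData), Good J (ℓ + 1) →
        {p : X | ¬ CartierAt J p ∧ ¬ Residual J p ℓ}.ncard = n →
        ∃ (X' : Scheme.{u}) (g : X' ⟶ X), Models.IsContractionSeq g ∧
          (∀ V : X.Opens, (∀ q ∈ V, CartierAt J q) → IsIso (g ∣_ V)) ∧ BlowUp.IsEffCartierIdeal (J.comap g) from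
      fun X _ J hJ => main _ X J hJ rfl
    intro n
    induction n using Nat.strong_induction_on with
    | _ n ihn =>
    intro X _ J hJ hn
    rcases Set.eq_empty_or_nonempty {p : X | ¬ CartierAt J p ∧ ¬ Residual J p ℓ} with hemp | ⟨x, hxbad, hxres⟩
    · refine ih X J fun p hp => ?_
      obtain ⟨h1, h2, h3, -⟩ := hJ p hp
      refine ⟨h1, h2, h3, not_not.1 fun h => ?_⟩
      exact (hemp.le ⟨hp, h⟩ : p ∈ (∅ : Set X)).elim
    obtain ⟨hx, hreg, hdim, hres⟩ := hJ x hxbad
    haveI := hreg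
    obtain ⟨Z, b, hb⟩ := BlowUpLib.exists_blowUp (C := Scheme.IdealSheafData.vanishingIdeal (⟨{x}, hx⟩ : Closeds X))
    haveI := isProper_point x hx hb
    haveI : IsNoetherian Z :=
      { toIsLocallyNoetherian := LocallyOfFiniteType.isLocallyNoetherian b
        toCompactSpace := QuasiCompact.compactSpace_of_compactSpace b }
    have hgood : Good (J.comap b) (ℓ + 1) := fun p hp => by
      by_cases hpx : b p = x
      · obtain ⟨h1, h2, h3, g, K, hg, he, hl⟩ := bad_over_centre x hx hb hdim J hres hxres hpx hp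
        exact ⟨h1, h2, h3, g, K, hg, he, hl.trans (by norm_cast; omega)⟩
      · have hbad : ¬ CartierAt J (b p) := fun h => hp (cartierAt_off x hx hb J hpx h)
        obtain ⟨h1, h2, h3, h4⟩ := hJ _ hbad
        haveI := isIso_stalkMap_off x hx hb hpx
        haveI := h2
        refine ⟨?_, IsRegularLocalRing.of_ringEquiv (asIso (b.stalkMap p)).commRingCatIsoToRingEquiv,
          (ringKrullDim_eq_of_ringEquiv (asIso (b.stalkMap p)).commRingCatIsoToRingEquiv).symm.trans h3,
          residual_off x hx hb J hpx h4⟩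
        have h : b ⁻¹' {b p} = {p} := Set.eq_singleton_iff_unique_mem.2 ⟨rfl, fun q hq =>
          (eq_of_apply_eq_off x hx hb hpx (Eq.symm hq)).symm⟩
        exact h ▸ h1.preimage b.continuous
    let N := {p : X | ¬ CartierAt J p ∧ ¬ Residual J p ℓ}
    let N' := {p : Z | ¬ CartierAt (J.comap b) p ∧ ¬ Residual (J.comap b) p ℓ}
    have hNf : N.Finite := (finite_not_cartierAt hJ).subset fun p hp => hp.1
    have hmaps : ∀ p ∈ N', b p ∈ N ∧ b p ≠ x := fun p ⟨hp, hp'⟩ => by
      by_cases hpx : b p = x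
      · exact absurd (bad_over_centre x hx hb hdim J hres hxres hpx hp).2.2.2 hp'
      · exact ⟨⟨fun h => hp (cartierAt_off x hx hb J hpx h), fun h => hp' (residual_off x hx hb J hpx h)⟩, hpx⟩
    have hlt : N'.ncard < n := by
      rw [← hn]
      refine lt_of_le_of_lt (Set.ncard_le_ncard_of_injOn (t := {q | q ∈ N ∧ q ≠ x}) b
        (fun p hp => (hmaps p hp : b p ∈ N ∧ b p ≠ x))
        (fun p hp q _ h => eq_of_apply_eq_off x hx hb (hmaps p hp).2 h) (hNf.subset fun q hq => hq.1)) ?_
      refine Set.ncard_lt_ncard ⟨fun q hq => hq.1, fun h => (h (⟨hxbad, hxres⟩ : x ∈ N)).2 rfl⟩ hNf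
    obtain ⟨X', g, hg, hgiso, hgC⟩ := ihn _ hlt Z (J.comap b) hgood rfl
    refine ⟨X', g ≫ b, contractionSeq_comp hg (contractionSeq_point x hx hdim hb), fun V hV => ?_, ?_⟩
    · have hxV : x ∉ V := fun h => hxbad (hV x h)
      haveI : IsIso (b ∣_ V) := BlowUpLib.isIso_restrict hb V fun q hq => by
        show q ∉ ((Scheme.IdealSheafData.vanishingIdeal ⟨{x}, hx⟩).support : Set X)
        rw [Scheme.IdealSheafData.coe_support_vanishingIdeal]
        exact fun h => hxV ((Set.mem_singleton_iff.1 h) ▸ hq)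
      haveI := hgiso (b ⁻¹ᵁ V) fun q (hq : b q ∈ V) =>
        cartierAt_off x hx hb J (fun h : b q = x => hxV (h ▸ hq)) (hV _ hq)
      rw [morphismRestrict_comp]
      infer_instance
    · rw [Scheme.IdealSheafData.comap_comp]
      exact hgC

end Groth.Agent.ResolveX
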