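import Groth.Agent.ResolveX.GenusZero
import Groth.Agent.ResolveX.Principalize
import Groth.Agent.ArInt.Form
import Groth.Agent.Big.Comap
import Groth.Agent.Big.Connected
import Groth.Agent.Div21Lib.StalkIdeal
import Groth.Agent.S7640
import Groth.Agent.S7307
import Groth.Agent.S7308

/-!
# Intersection numbers after contracting an exceptional curve
-/

set_option autoImplicit false
set_option linter.style.haveILetI false
set_option linter.unusedSectionVars false
set_option backward.isDefEq.respectTransparency false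
set_option backward.isDefEq.respectTransparency.types false
set_option maxHeartbeats 1000000

universe u

open CategoryTheory CategoryTheory.Limits AlgebraicGeometry TopologicalSpace IsLocalRing

attribute [local instance 2000] CategoryTheory.CategoryStruct.toQuiver

noncomputable section

namespace Groth.Agent.ResolveX

open Groth.Agent Groth.Agent.H23.PicMul

variable {R : Type u} [CommRing R] [IsDomain R] [IsDiscreteValuationRing R]

/-- A contraction of a surface over the base is a surface. -/
theorem isSurf_contraction {W : Over (Spec (CommRingCat.of R))} [ArInt.IsSurf W] [Flat W.hom]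
    (E : ArSurf.VertComp R W) (hE : Models.IsExcCurve E.ι) {Z : Scheme.{u}} (b : W.left ⟶ Z)
    (hb : Models.IsContractionOf E.ι b) (q : Z ⟶ Spec (CommRingCat.of R)) (hq : b ≫ q = W.hom) :
    ArInt.IsSurf (Over.mk q) ∧ Flat q := by
  haveI := E.isClosedImmersion
  haveI : IsLocallyNoetherian W.left := LocallyOfFiniteType.isLocallyNoetherian W.hom
  haveI : IsNoetherian W.left := { toCompactSpace := QuasiCompact.compactSpace_of_compactSpace W.hom }
  obtain ⟨Y₁, b₁, y₁, hy₁, hY₁, hbp, hd₁, hEy, -, -, hbl⟩ :=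
    exists_contraction W (isArithSurface_of_isSurf W) E hE
  haveI : ArInt.IsSurf (Over.mk Y₁.hom) := ArInt.isSurf_of_isArithSurface hY₁
  haveI : IsProper Y₁.hom := ArInt.IsSurf.isProper (X := Over.mk Y₁.hom)
  haveI : Flat Y₁.hom := hY₁.2.2.2.1
  haveI : IsLocallyNoetherian Y₁.left := LocallyOfFiniteType.isLocallyNoetherian Y₁.hom
  haveI : IsNoetherian Y₁.left := { toCompactSpace := QuasiCompact.compactSpace_of_compactSpace Y₁.hom }
  have hb₁ : Models.IsContractionOf E.ι b₁.left := ⟨inferInstance, hbp, y₁, hy₁, hEy, hY₁.1 y₁, hd₁, hbl⟩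
  obtain ⟨e, he, -⟩ := S7308.result E.ι hE b hb b₁.left hb₁
  obtain ⟨_, _, huniq⟩ := S7307.result E.ι hE b hb W.hom (closedPoint R) (by
    refine Set.eq_singleton_iff_unique_mem.2 ⟨⟨genericPoint E.curve.left, ArInt.mem_specialFibre E _⟩, ?_⟩
    rintro _ ⟨c, rfl⟩
    exact ArInt.mem_specialFibre E c)
  have heq : e.hom ≫ Y₁.hom = q :=
    (huniq _ (by show b ≫ e.hom ≫ Y₁.hom = _; rw [reassoc_of% he, Over.w b₁])).trans (huniq q hq).symm
  rw [← heq]
  exact isSurf_of_seq (Models.IsContractionSeq.iso e) Y₁.hom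

section Setup

variable {W Z : Over (Spec (CommRingCat.of R))} [ArInt.IsSurf W] [Flat W.hom] [ArInt.IsSurf Z] [Flat Z.hom]
  (b : W ⟶ Z) (E : ArSurf.VertComp R W) (y : Z.left) (hy : IsClosed ({y} : Set Z.left))
  (hfib : Set.range E.ι = b.left ⁻¹' {y})
  [IsIso (b.left ∣_ (⟨{y}ᶜ, hy.isOpen_compl⟩ : Z.left.Opens))]

include hy in
theorem isIso_stalk_off {w : W.left} (hw : b.left w ≠ y) : IsIso (b.left.stalkMap w) :=
  ((MorphismProperty.isomorphisms CommRingCat.{u}).arrow_mk_iso_iff
    (morphismRestrictStalkMap b.left (⟨{y}ᶜ, hy.isOpen_compl⟩ : Z.left.Opens) ⟨w, hw⟩)).1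
    (inferInstance : IsIso _)

include hy in
theorem eq_off {w w' : W.left} (hw : b.left w ≠ y) (h : b.left w = b.left w') : w = w' := by
  let U : Z.left.Opens := ⟨{y}ᶜ, hy.isOpen_compl⟩
  exact congrArg Subtype.val ((b.left ∣_ U).homeomorph.injective (a₁ := (⟨w, hw⟩ : ↥(b.left ⁻¹ᵁ U)))
    (a₂ := ⟨w', show b.left w' ≠ y from h ▸ hw⟩) (Subtype.ext ((morphismRestrict_base_coe b.left U ⟨w, hw⟩).trans
      (h.trans (morphismRestrict_base_coe b.left U ⟨w', show b.left w' ≠ y from h ▸ hw⟩).symm))))

include hfib in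
theorem gen_off (G : ArSurf.VertComp R W) (hne : Set.range G.ι.base ≠ Set.range E.ι.base) :
    b.left (Models.genPtOf R W G) ≠ y := fun h => by
  have h1 := ArInt.gen_notMem G E hne
  rw [ArInt.support_ker] at h1
  exact h1 (hfib.ge h)

include hfib hy in
theorem exists_image_comp [IsProper b.left] (G : ArSurf.VertComp R W) (hne : Set.range G.ι.base ≠ Set.range E.ι.base) :
    ∃ G' : ArSurf.VertComp R Z, Set.range G'.ι.base = b.left '' Set.range G.ι.base := by
  haveI := G.isClosedImmersion
  haveI := G.isIntegral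
  obtain ⟨a, ha⟩ : ∃ a : G.curve.left, a ≠ genericPoint G.curve.left := by
    by_contra h
    push Not at h
    haveI : Subsingleton G.curve.left := ⟨fun a b => (h a).trans (h b).symm⟩
    have h0 : topologicalKrullDim G.curve.left ≤ 0 := topologicalKrullDim_zero_of_discreteTopology _
    rw [G.dim_eq] at h0
    exact absurd h0 (by norm_num)
  let η := b.left (G.ι (genericPoint G.curve.left))
  have hηs : η ∈ Models.specialFibreSet R Z := by
    show Z.hom (b.left _) = _
    rw [← Scheme.Hom.comp_apply, Over.w b]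
    exact ArInt.mem_specialFibre G _
  have hsp : η ⤳ b.left (G.ι a) :=
    (((genericPoint_spec _).specializes (Set.mem_univ a)).map G.ι.continuous).map b.left.continuous
  obtain ⟨G', hG'⟩ := ArInt.exists_vertComp_closure ArInt.IsSurf.dim_eq hηs
    (ArInt.lt_of_specializes_ne hsp fun h =>
      ha (G.ι.isClosedEmbedding.injective (eq_off b y hy (gen_off b E y hfib G hne) h).symm))
  refine ⟨G', hG'.trans ?_⟩
  rw [← ArInt.closure_gen G, ← b.left.isClosedMap.closure_image_eq_of_continuous b.left.continuous,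
    Set.image_singleton]

theorem gen_image [IsProper b.left] (G : ArSurf.VertComp R W) (G' : ArSurf.VertComp R Z)
    (h : Set.range G'.ι.base = b.left '' Set.range G.ι.base) :
    Models.genPtOf R Z G' = b.left (Models.genPtOf R W G) := by
  haveI := G.isClosedImmersion
  haveI := G.isIntegral
  haveI := G'.isClosedImmersion
  haveI := G'.isIntegral
  refine IsGenericPoint.eq (S := Set.range G'.ι.base) (ArInt.closure_gen G') ?_
  show closure {b.left (G.ι (genericPoint G.curve.left))} = _
  rw [h, ← ArInt.closure_gen G, ← b.left.isClosedMap.closure_image_eq_of_continuous b.left.continuous,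
    Set.image_singleton]

include hy hfib in
/-- Images of different components are different. -/
theorem range_eq_of_image_eq [IsProper b.left] (G H : ArSurf.VertComp R W) (hne : Set.range G.ι.base ≠ Set.range E.ι.base)
    (G' : ArSurf.VertComp R Z) (hG : Set.range G'.ι.base = b.left '' Set.range G.ι.base)
    (hH : Set.range G'.ι.base = b.left '' Set.range H.ι.base) : Set.range G.ι.base = Set.range H.ι.base := by
  show Set.range G.ι = Set.range H.ι
  rw [← ArInt.closure_gen G, ← ArInt.closure_gen H,
    show G.ι (genericPoint G.curve.left) = H.ι (genericPoint H.curve.left) from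
      eq_off b y hy (gen_off b E y hfib G hne) ((gen_image b G G' hG).symm.trans (gen_image b H G' hH))]

include hy hfib in
/-- The stalk ideal at a component of the inverse image of an image. -/
theorem stI_comap_gen [IsProper b.left] (G : ArSurf.VertComp R W) (hne : Set.range G.ι.base ≠ Set.range E.ι.base)
    (G' : ArSurf.VertComp R Z) (hG : Set.range G'.ι.base = b.left '' Set.range G.ι.base) :
    Div21Lib.stI (G'.ι.ker.comap b.left) (Models.genPtOf R W G) =
      maximalIdeal (W.left.presheaf.stalk (Models.genPtOf R W G)) := by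
  haveI := isIso_stalk_off b y hy (gen_off b E y hfib G hne)
  have h := ArInt.stI_ker_gen G'
  rw [gen_image b G G' hG] at h
  rw [Div21Lib.stI_comap, h]
  haveI := isLocalHom_of_isIso (b.left.stalkMap (Models.genPtOf R W G))
  refine IsLocalRing.eq_maximalIdeal ?_
  have hbij := ConcreteCategory.bijective_of_isIso (b.left.stalkMap (Models.genPtOf R W G))
  exact (Ideal.map_eq_top_or_isMaximal_of_surjective _ hbij.2 inferInstance).resolve_left fun ht => by
    have h2 := congrArg (Ideal.comap (b.left.stalkMap (Models.genPtOf R W G)).hom) ht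
    rw [Ideal.comap_map_of_bijective _ hbij, Ideal.comap_top] at h2
    exact (maximalIdeal.isMaximal _).ne_top h2

include hy hfib in
/-- Intersection numbers of a pullback. -/
theorem inter_pullback [IsProper b.left] (G : ArSurf.VertComp R W) (hne : Set.range G.ι.base ≠ Set.range E.ι.base)
    (G' : ArSurf.VertComp R Z) (hG : Set.range G'.ι.base = b.left '' Set.range G.ι.base)
    {L : Z.left.Modules} (hL : PicF.IsInvertible L) :
    ArSurf.inter R W ((Scheme.Modules.pullback b.left).obj L) G = ArSurf.inter R Z L G' := by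
  haveI := G.isClosedImmersion
  haveI := G.isIntegral
  haveI := G'.isClosedImmersion
  haveI := G'.isIntegral
  let g := G.ι ≫ b.left
  haveI : IsProper g := inferInstanceAs (IsProper (G.ι ≫ b.left))
  haveI : IsReduced g.ker.subscheme := ArInt.isReduced_image g
  have hle : G'.ι.ker ≤ g.ker := by
    rw [← CartierExt.radical_eq_of_isReduced g.ker, ← CartierExt.radical_eq_of_isReduced G'.ι.ker,
      ← Scheme.IdealSheafData.vanishingIdeal_support, ← Scheme.IdealSheafData.vanishingIdeal_support]
    refine Scheme.IdealSheafData.vanishingIdeal_antimono ?_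
    show ((g.ker.support : Set Z.left)) ⊆ (G'.ι.ker.support : Set Z.left)
    rw [Scheme.Hom.support_ker, ArInt.support_ker]
    refine closure_minimal ?_ G'.ι.isClosedEmbedding.isClosed_range
    rintro _ ⟨c, rfl⟩
    exact hG.ge ⟨_, ⟨c, rfl⟩, rfl⟩
  let φ := IsClosedImmersion.lift G'.ι g hle
  have hφ : φ ≫ G'.ι = g := IsClosedImmersion.lift_fac _ _ _
  haveI : IsClosedImmersion (Spec.map (CommRingCat.ofHom (IsLocalRing.residue R))) :=
    IsClosedImmersion.spec_of_surjective _ IsLocalRing.residue_surjective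
  have hφw : φ ≫ G'.curve.hom = G.curve.hom := by
    rw [← cancel_mono (Spec.map (CommRingCat.ofHom (IsLocalRing.residue R))), Category.assoc, ← G'.w,
      reassoc_of% hφ, ← G.w]
    simp only [g, Category.assoc, Over.w b]
  have hgen : φ (genericPoint G.curve.left) = genericPoint G'.curve.left :=
    G'.ι.isClosedEmbedding.injective (((congr($hφ (genericPoint G.curve.left))).trans
      (gen_image b G G' hG).symm))
  have hφs : Function.Surjective (φ.stalkMap (genericPoint G.curve.left)) := by
    haveI := isIso_stalk_off b y hy (w := G.ι (genericPoint G.curve.left)) (gen_off b E y hfib G hne)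
    have h1 : Function.Surjective (g.stalkMap (genericPoint G.curve.left)) := by
      rw [Scheme.Hom.stalkMap_comp]
      exact (G.ι.stalkMap_surjective _).comp
        (ConcreteCategory.bijective_of_isIso (b.left.stalkMap (G.ι (genericPoint G.curve.left)))).2
    have hcongr : ∀ {f f' : G.curve.left ⟶ Z.left}, f = f' → ∀ x, Function.Surjective (f.stalkMap x) →
        Function.Surjective (f'.stalkMap x) := fun h => by subst h; exact fun _ hx => hx
    replace h1 := hcongr hφ.symm _ h1
    rw [Scheme.Hom.stalkMap_comp] at h1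
    exact Function.Surjective.of_comp h1
  have hdeg : φ.residueDegree (genericPoint G.curve.left) = 1 := by
    have hr : Function.Surjective (φ.residueFieldMap (genericPoint G.curve.left)) := fun t => by
      obtain ⟨u, rfl⟩ := G.curve.left.residue_surjective _ t
      obtain ⟨v, rfl⟩ := hφs u
      exact ⟨G'.curve.left.residue _ v,
        ConcreteCategory.congr_hom (Scheme.residue_residueFieldMap φ (genericPoint G.curve.left)) v⟩
    letI := (φ.residueFieldMap (genericPoint G.curve.left)).hom.toAlgebra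
    show Module.finrank _ _ = 1
    exact ((LinearEquiv.ofBijective (Algebra.linearMap _ _)
      ⟨(φ.residueFieldMap (genericPoint G.curve.left)).hom.injective, hr⟩).finrank_eq).symm.trans
        (Module.finrank_self _)
  haveI := ArInt.isProper_curve_over G
  haveI := ArInt.isProper_curve_over G'
  have hL' := PicClLib.isInvertible_pullback G'.ι hL
  rw [ArInt.inter_eq_deg G (PicClLib.isInvertible_pullback b.left hL), ArInt.inter_eq_deg G' hL]
  have h7 := S7640.result (IsLocalRing.ResidueField R) G.curve.left G'.curve.left G.dim_eq G'.dim_eq φ hφw hgen 1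
    ((Scheme.Modules.pullback G'.ι).obj L) (InvEnd.isFinLocFreeOfRank_one hL')
  rw [hdeg, Nat.cast_one, one_mul] at h7
  rw [← h7]
  obtain ⟨e⟩ : Nonempty ((Scheme.Modules.pullback G.ι).obj ((Scheme.Modules.pullback b.left).obj L) ≅
      (Scheme.Modules.pullback φ).obj ((Scheme.Modules.pullback G'.ι).obj L)) :=
    cl_eq_iff.1 (by
      show PicF.pullCl G.ι (PicF.pullCl b.left (PicF.cl L)) = PicF.pullCl φ (PicF.pullCl G'.ι (PicF.cl L))
      rw [PicClLib.pullCl_comp, PicClLib.pullCl_comp, hφ])
  exact CurveRR.deg_congr _ e 1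

end Setup

theorem comap_prod {X Y : Scheme.{u}} (f : X ⟶ Y) {ι : Type*} (s : Finset ι) (I : ι → Y.IdealSheafData) :
    (∏ i ∈ s, I i).comap f = ∏ i ∈ s, (I i).comap f := by
  classical
  induction s using Finset.induction_on with
  | empty =>
    rw [Finset.prod_empty, Finset.prod_empty, Scheme.IdealSheafData.one_eq_top,
      Scheme.IdealSheafData.one_eq_top, Scheme.IdealSheafData.comap_top]
  | insert a t ha ih => rw [Finset.prod_insert ha, Finset.prod_insert ha, FComplLib.comap_mul, ih]

/-- The fibre components and intersection numbers of a contraction. -/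
theorem contraction_inter {C X X' : Scheme.{u}} {f : C ⟶ Spec (CommRingCat.of (FractionRing R))}
    {p : X ⟶ Spec (CommRingCat.of R)} {p' : X' ⟶ Spec (CommRingCat.of R)}
    (hC : Curve.IsSmoothProperCurve (FractionRing R) C f) (hH0 : IsIso f.appTop)
    (hX : Models.IsRegularProperModel R X p C f) (g : C ⟶ X)
    (hg : IsPullback g f p (Spec.map (CommRingCat.ofHom (algebraMap R (FractionRing R)))))
    {n : ℕ} (Γ : Fin (n + 1) → ArSurf.VertComp R (Over.mk p)) (hΓ : Models.IsComponentList R (Over.mk p) Γ)
    (L : Fin (n + 1) → X.Modules) (hL : ∀ i, ClSub.IsInverseOf (L i) (ClSub.idealMod (Γ i).ι.ker))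
    (hexc : Models.IsExcCurve (Γ (Fin.last n)).ι)
    (b : X ⟶ X') (hb : Models.IsContractionOf (Γ (Fin.last n)).ι b) (hcomm : b ≫ p' = p) :
    Models.IsRegularProperModel R X' p' C f ∧
      Models.fibreComponents R (Over.mk p') =
        Set.range (fun i : Fin n => b.base '' Set.range ((Γ i.castSucc).ι.base : (Γ i.castSucc).curve.left → X)) ∧
      ∀ (Γ' : Fin n → ArSurf.VertComp R (Over.mk p')),
        (∀ i, Set.range ((Γ' i).ι.base : (Γ' i).curve.left → X') =
          b.base '' Set.range ((Γ i.castSucc).ι.base : (Γ i.castSucc).curve.left → X)) →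
        (∀ i, Models.mult R (Over.mk p') (Γ' i) = Models.mult R (Over.mk p) (Γ i.castSucc)) ∧
        ∀ (L' : Fin n → X'.Modules), (∀ j, ClSub.IsInverseOf (L' j) (ClSub.idealMod (Γ' j).ι.ker)) →
          ∀ i j : Fin n,
            ArSurf.inter R (Over.mk p') (L' j) (Γ' i) * ArSurf.inter R (Over.mk p) (L (Fin.last n)) (Γ (Fin.last n)) =
              ArSurf.inter R (Over.mk p) (L j.castSucc) (Γ i.castSucc) * ArSurf.inter R (Over.mk p) (L (Fin.last n)) (Γ (Fin.last n)) -
                ArSurf.inter R (Over.mk p) (L (Fin.last n)) (Γ i.castSucc) * ArSurf.inter R (Over.mk p) (L (Fin.last n)) (Γ j.castSucc) := by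
  classical
  obtain ⟨hWs, hWf, -⟩ := model_surface hC hH0 hX
  haveI := hWs
  haveI : Flat (Over.mk p).hom := hWf
  let e := Γ (Fin.last n)
  haveI := e.isClosedImmersion
  haveI := e.isIntegral
  haveI : IsProper p := hWs.isProper
  haveI : IsLocallyNoetherian X := LocallyOfFiniteType.isLocallyNoetherian p
  haveI : IsNoetherian X := { toCompactSpace := QuasiCompact.compactSpace_of_compactSpace p }
  obtain ⟨hZs, hZf⟩ := isSurf_contraction (W := Over.mk p) e hexc b hb p' hcomm
  haveI := hZs
  haveI : Flat (Over.mk p').hom := hZf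
  haveI : IsProper p' := hZs.isProper
  obtain ⟨hnoe, hbp, y, hy, hry, hreg, hdy, hbl⟩ := hb
  haveI := hnoe; haveI := hbp; haveI := hreg
  haveI : IsIntegral X' := hZs.isIntegral
  haveI : IsIntegral X := hWs.isIntegral
  let b' : Over.mk p ⟶ Over.mk p' := Over.homMk b hcomm
  haveI : IsProper b'.left := hbp
  have hfib : Set.range e.ι = b ⁻¹' {y} := range_eq_fibre e.ι y hy hdy hbl hexc hry
  haveI hiso : IsIso (b'.left ∣_ (⟨{y}ᶜ, hy.isOpen_compl⟩ : X'.Opens)) := BlowUpLib.isIso_restrict hbl _ fun z hz => by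
    show z ∉ ((Scheme.IdealSheafData.vanishingIdeal ⟨{y}, hy⟩).support : Set X')
    rw [Scheme.IdealSheafData.coe_support_vanishingIdeal]; exact hz
  have hg' : IsPullback (g ≫ b) f p' (Spec.map (CommRingCat.ofHom (algebraMap R (FractionRing R)))) :=
    isPullback_descend b (by rw [hcomm]; exact hg) y hy hiso (hom_closed_point p' hy)
  have hmodel := isModel_of_isSurf (p := p') hZf hg'
  have hne : ∀ i : Fin n, Set.range (Γ i.castSucc).ι.base ≠ Set.range e.ι.base := fun i h =>
    (Fin.castSucc_ne_last i) (hΓ.1 h)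
  choose Δ hΔ using fun i : Fin n => exists_image_comp b' e y hy hfib (Γ i.castSucc) (hne i)
  obtain ⟨-, -, m₀, S, hS⟩ := model_surface hC hH0 hmodel
  have hlift : ∀ z ∈ Models.specialFibreSet R (Over.mk p'), z ≠ y →
      ∃ i : Fin n, z ∈ Set.range (Δ i).ι.base := fun z hz hzy => by
    obtain ⟨w, rfl⟩ := surjective_point y hy hdy hbl z
    have hw : w ∈ Models.specialFibreSet R (Over.mk p) := by
      show p w = _
      rw [← hcomm, Scheme.Hom.comp_apply]
      exact hz
    obtain ⟨l, hl⟩ := Set.mem_iUnion.1 (ArInt.cover _ Γ hΓ hw)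
    obtain ⟨i, rfl⟩ | rfl := Fin.eq_castSucc_or_eq_last l
    · exact ⟨i, (hΔ i).ge ⟨w, hl, rfl⟩⟩
    · exact absurd (hfib.subset hl) hzy
  have hcomp : Models.fibreComponents R (Over.mk p') =
      Set.range (fun i : Fin n => b.base '' Set.range ((Γ i.castSucc).ι.base : (Γ i.castSucc).curve.left → X)) := by
    rw [← hS.2]
    refine Set.Subset.antisymm ?_ ?_
    · rintro _ ⟨k, rfl⟩
      haveI := (S k).isClosedImmersion
      haveI := (S k).isIntegral
      obtain ⟨i, hi⟩ := hlift _ (ArInt.mem_specialFibre (S k) (genericPoint (S k).curve.left)) fun h => by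
        have h1 := ArInt.closure_gen (S k)
        rw [h, hy.closure_eq] at h1
        haveI : Subsingleton (S k).curve.left := ⟨fun a c => (S k).ι.isClosedEmbedding.injective
          ((Set.mem_singleton_iff.1 (h1.ge ⟨a, rfl⟩)).trans (Set.mem_singleton_iff.1 (h1.ge ⟨c, rfl⟩)).symm)⟩
        have h0 : topologicalKrullDim (S k).curve.left ≤ 0 := topologicalKrullDim_zero_of_discreteTopology _
        rw [(S k).dim_eq] at h0
        exact absurd h0 (by norm_num)
      obtain ⟨l, hl⟩ := exists_component_eq S hS (Δ i)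
      have hsub : Set.range (S k).ι.base ⊆ Set.range (S l).ι.base := by
        show Set.range (S k).ι ⊆ _
        rw [← ArInt.closure_gen (S k)]
        exact closure_minimal (Set.singleton_subset_iff.2 (hl ▸ hi)) (S l).ι.isClosedEmbedding.isClosed_range
      have hk : Maximal (fun T : Set X' => IsIrreducible T ∧ T ⊆ Models.specialFibreSet R (Over.mk p'))
          (Set.range (S k).ι.base) := hS.2.subset ⟨k, rfl⟩
      have hl' : Maximal (fun T : Set X' => IsIrreducible T ∧ T ⊆ Models.specialFibreSet R (Over.mk p'))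
          (Set.range (S l).ι.base) := hS.2.subset ⟨l, rfl⟩
      exact ⟨i, (hΔ i).symm.trans (hl.trans (hk.eq_of_subset hl'.1 hsub).symm)⟩
    · rintro _ ⟨i, rfl⟩
      obtain ⟨l, hl⟩ := exists_component_eq S hS (Δ i)
      exact ⟨l, hl.symm.trans (hΔ i)⟩
  refine ⟨hmodel, hcomp, fun Γ' hΓ' => ?_⟩
  have hinj' : Function.Injective fun i => Set.range (Γ' i).ι.base := fun i j h =>
    Fin.castSucc_injective n (hΓ.1 (range_eq_of_image_eq b' e y hy hfib (Γ i.castSucc) (Γ j.castSucc) (hne i) (Γ' i)
      (hΓ' i) ((show Set.range (Γ' i).ι.base = _ from h).trans (hΓ' j))))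
  have hcov' : Models.specialFibreSet R (Over.mk p') ⊆ ⋃ i, Set.range (Γ' i).ι.base := fun z hz => by
    obtain ⟨k, hk⟩ := Set.mem_iUnion.1 (ArInt.cover _ S hS hz)
    obtain ⟨i, hi⟩ := hcomp.subset (hS.2.subset ⟨k, rfl⟩)
    exact Set.mem_iUnion.2 ⟨i, (hΓ' i).ge (hi.ge hk)⟩
  let K : Fin (n + 1) → X.IdealSheafData := fun l => (Γ l).ι.ker
  let D : Fin n → X.IdealSheafData := fun j => (Γ' j).ι.ker.comap b
  have hD : ∀ j, BlowUp.IsEffCartierIdeal (D j) := fun j =>
    Big.isEffCartier_comap b (ArInt.isEffCartier_ker (Γ' j)) fun h => by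
      rw [ArInt.support_ker] at h
      obtain ⟨c, hc⟩ := h
      have h1 := ArInt.mem_specialFibre (Γ' j) c
      rw [hc] at h1
      refine ArInt.gen_ne_closedPoint (X := Over.mk p) ?_
      exact (congr($hcomm (genericPoint X))).symm.trans h1
  have hDsupp : ∀ (j : Fin n), ((D j).support : Set X) ⊆ Models.specialFibreSet R (Over.mk p) := fun j w hw => by
    rw [Scheme.IdealSheafData.support_comap] at hw
    obtain ⟨c, hc⟩ : b w ∈ Set.range (Γ' j).ι := (ArInt.support_ker (Γ' j)).subset hw
    have h1 := ArInt.mem_specialFibre (Γ' j) c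
    rw [hc] at h1
    show p w = _
    rw [← hcomm, Scheme.Hom.comp_apply]
    exact h1
  have hdec : ∀ j, ∃ a : ℕ, D j = K j.castSucc * K (Fin.last n) ^ a := fun j => by
    obtain ⟨a, ha⟩ := CartierExt.exists_prod_eq K (fun l => ArInt.isEffCartier_ker (Γ l))
      (fun l => ArInt.isIntegral_ker_subscheme (Γ l)) (D j) (hD j) (fun w hw => by
        obtain ⟨l, hl⟩ := Set.mem_iUnion.1 (ArInt.cover _ Γ hΓ (hDsupp j hw))
        exact Set.mem_iUnion.2 ⟨l, by rw [ArInt.support_ker]; exact hl⟩)
    have hst : ∀ l : Fin (n + 1), Div21Lib.stI (D j) (Models.genPtOf R (Over.mk p) (Γ l)) =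
        maximalIdeal _ ^ a l := fun l => by
      have h0 : ∀ k ∈ Finset.univ, k ≠ l →
          Div21Lib.stI (K k ^ a k) (Models.genPtOf R (Over.mk p) (Γ l)) = 1 := fun k _ hk => by
        have h : Div21Lib.stI (K k) (Models.genPtOf R (Over.mk p) (Γ l)) = ⊤ :=
          (ArInt.stI_eq_top_iff _ _).2 (ArInt.gen_notMem (Γ l) (Γ k) fun h => hk (hΓ.1 h.symm))
        rw [ArInt.stI_pow, h, ← Ideal.one_eq_top, one_pow]
      rw [ha, ArInt.stI_prod, Finset.prod_eq_single l h0 (by simp), ArInt.stI_pow]
      exact congrArg (fun I => I ^ a l) (ArInt.stI_ker_gen (Γ l))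
    have hexp : ∀ (l : Fin (n + 1)) (k : ℕ), Div21Lib.stI (D j) (Models.genPtOf R (Over.mk p) (Γ l)) =
        maximalIdeal _ ^ k → a l = k := fun l k hk => by
      let O := X.presheaf.stalk (Models.genPtOf R (Over.mk p) (Γ l))
      haveI : IsRegularLocalRing O := hWs.regular (Models.genPtOf R (Over.mk p) (Γ l))
      haveI := RegLoc6.isDomain_of_isRegularLocalRing O
      have hdim : ringKrullDim O = 1 := ArInt.dim_gen (Γ l)
      haveI := DimFormula.isPrincipalIdealRing_of_regular_dim_le_one hdim.le
      haveI : IsDiscreteValuationRing O :=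
        { not_a_field' := fun h => by
            have h0 := ringKrullDim_eq_zero_of_isField (IsLocalRing.isField_iff_maximalIdeal_eq.2 h)
            rw [hdim] at h0
            exact absurd h0 one_ne_zero }
      have h : Module.length O (O ⧸ maximalIdeal O ^ a l) = Module.length O (O ⧸ maximalIdeal O ^ k) := by
        rw [show maximalIdeal O ^ a l = maximalIdeal O ^ k from (hst l).symm.trans hk]
      rw [IsDiscreteValuationRing.length_quotient_pow_maximalIdeal,
        IsDiscreteValuationRing.length_quotient_pow_maximalIdeal] at h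
      exact_mod_cast h
    have ha1 : a j.castSucc = 1 := hexp _ 1 (by
      rw [pow_one]
      exact stI_comap_gen b' e y hy hfib (Γ j.castSucc) (hne j) (Γ' j) (hΓ' j))
    have ha0 : ∀ i : Fin n, i ≠ j → a i.castSucc = 0 := fun i hij => hexp _ 0 (by
      rw [pow_zero, Ideal.one_eq_top]
      refine (ArInt.stI_eq_top_iff _ _).2 fun h => ?_
      rw [← SetLike.mem_coe, Scheme.IdealSheafData.support_comap] at h
      have h3 : b'.left (Models.genPtOf R (Over.mk p) (Γ i.castSucc)) ∈
          ((Γ' j).ι.ker.support : Set (Over.mk p').left) := h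
      rw [← gen_image b' (Γ i.castSucc) (Γ' i) (hΓ' i)] at h3
      exact ArInt.gen_notMem (Γ' i) (Γ' j) (fun h4 => hij (hinj' h4)) h3)
    refine ⟨a (Fin.last n), ?_⟩
    rw [ha, Fin.prod_univ_castSucc, Finset.prod_eq_single j (fun i _ hij => by rw [ha0 i hij, pow_zero]) (by simp),
      ha1, pow_one]
  choose a ha using hdec
  constructor
  · intro i
    have hfibX : ArInt.fibreIdeal (Over.mk p) =
        (∏ l, K l ^ (Fin.snoc (fun j => Models.mult R (Over.mk p') (Γ' j))
          (∑ j, a j * Models.mult R (Over.mk p') (Γ' j)) : Fin (n + 1) → ℕ) l) * (⊤ : X.IdealSheafData) := by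
      rw [Scheme.IdealSheafData.mul_top, Fin.prod_univ_castSucc]
      simp only [Fin.snoc_castSucc, Fin.snoc_last]
      rw [← Finset.prod_pow_eq_pow_sum, ← Finset.prod_mul_distrib]
      have hf := ArInt.fibreIdeal_eq_prod Γ' hinj' (fun j => ArInt.dim_gen (Γ' j)) hcov'
      have hw : ArInt.fibreIdeal (Over.mk p) = (ArInt.fibreIdeal (Over.mk p')).comap b := by
        rw [ArInt.fibreIdeal, ArInt.fibreIdeal, ← Scheme.IdealSheafData.comap_comp]
        exact congrArg _ hcomm.symm
      rw [hw, hf, comap_prod]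
      refine Finset.prod_congr rfl fun j _ => ?_
      rw [FComplLib.comap_pow]
      show D j ^ _ = _
      rw [ha j, mul_pow, pow_mul]
    have h := (ArInt.mult_eq Γ (fun l => by rw [Scheme.IdealSheafData.support_top]; exact Set.notMem_empty _)
      hfibX hΓ.1 i.castSucc).1
    rw [Fin.snoc_castSucc] at h
    exact h.symm
  · intro L' hL' i j
    have hI' : ∀ j, PicF.IsInvertible (ClSub.idealMod (Γ' j).ι.ker) := fun j =>
      Big.isInvertible_ideal (ArInt.isEffCartier_ker (Γ' j))
    have hI : ∀ l, PicF.IsInvertible (ClSub.idealMod (K l)) := fun l =>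
      Big.isInvertible_ideal (ArInt.isEffCartier_ker (Γ l))
    have hL'j := ArInt.isInvertible_of_inverse (hI' j) (hL' j)
    have hinv : ClSub.IsInverseOf ((Scheme.Modules.pullback b).obj (L' j)) (ClSub.idealMod (D j)) := by
      have h1 : PicF.pullCl b (PicF.cl (L' j)) * PicF.pullCl b (PicF.cl (ClSub.idealMod (Γ' j).ι.ker)) = 1 := by
        rw [← H23.PicMul.pullCl_mul, Big.cl_mul_eq_one (hL' j), H23.PicMul.pullCl_one]
      rw [show PicF.pullCl b (PicF.cl (ClSub.idealMod (Γ' j).ι.ker)) = PicF.cl (ClSub.idealMod (D j)) from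
        Big.cl_idealMod_comap (I := (Γ' j).ι.ker) (f := b) (hI := ArInt.isEffCartier_ker (Γ' j)) (hJ := hD j)] at h1
      exact cl_eq_iff.1 (by rw [cl_tensor, ← H23.PicMul.one_def]; exact h1)
    have hpow := fun G => ArInt.φ_pow G (ArInt.isEffCartier_ker e) (a j)
    have hcalc : ∀ G : ArSurf.VertComp R (Over.mk p),
        ArSurf.inter R (Over.mk p) ((Scheme.Modules.pullback b).obj (L' j)) G =
          ArSurf.inter R (Over.mk p) (L j.castSucc) G + (a j : ℤ) * ArSurf.inter R (Over.mk p) (L (Fin.last n)) G :=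
      fun G => by
        have hnum : ArInt.φ G (D j) = ArInt.φ G (K j.castSucc) + (a j : ℤ) * ArInt.φ G (K (Fin.last n)) := by
          rw [ha j, ArInt.φ_mul G (ArInt.isEffCartier_ker _) (hpow G).1, (hpow G).2]
        have e0 := ArInt.inter_inverse (X := Over.mk p) G (Big.isInvertible_ideal (hD j)) hinv
        have e1 := ArInt.inter_inverse (X := Over.mk p) G (hI j.castSucc) (hL j.castSucc)
        have e2 := ArInt.inter_inverse (X := Over.mk p) G (hI (Fin.last n)) (hL (Fin.last n))
        rw [e0, e1, e2]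
        change - ArInt.φ G (D j) = _
        rw [hnum]
        ring
    have hE0 : ArSurf.inter R (Over.mk p) ((Scheme.Modules.pullback b).obj (L' j)) e = 0 := by
      obtain ⟨τ⟩ := triv_exceptional y hy hdy hbl hL'j e.ι fun z => hfib.subset ⟨z, rfl⟩
      rw [ArInt.inter_eq_deg (X := Over.mk p) e (PicClLib.isInvertible_pullback b hL'j)]
      obtain ⟨τ'⟩ : Nonempty ((Scheme.Modules.pullback e.ι).obj ((Scheme.Modules.pullback b).obj (L' j)) ≅
          Coh.structureModule e.curve.left) := cl_eq_iff.1 (by
        show PicF.pullCl e.ι (PicF.pullCl b (PicF.cl (L' j))) = _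
        rw [PicClLib.pullCl_comp]
        exact cl_eq_iff.2 ⟨τ⟩)
      rw [CurveRR.deg_congr _ τ' 1, CurveDeg.deg_structureModule]
    have hij : ArSurf.inter R (Over.mk p') (L' j) (Γ' i) =
        ArSurf.inter R (Over.mk p) (L j.castSucc) (Γ i.castSucc) +
          (a j : ℤ) * ArSurf.inter R (Over.mk p) (L (Fin.last n)) (Γ i.castSucc) :=
      (inter_pullback b' e y hy hfib (Γ i.castSucc) (hne i) (Γ' i) (hΓ' i) hL'j).symm.trans (hcalc _)
    have h0 := (hcalc e).symm.trans hE0
    have hsymm := ArInt.inter_symm' Γ L hL hΓ.1 (Fin.last n) j.castSucc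
    change ArSurf.inter R (Over.mk p) (L j.castSucc) e = _ at hsymm
    rw [hsymm] at h0
    rw [hij]
    linear_combination ArSurf.inter R (Over.mk p) (L (Fin.last n)) (Γ i.castSucc) * h0

end Groth.Agent.ResolveX
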