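import Groth.Agent.ResolveX.DedekindFinite

/-!
# Existence of relatively minimal models

A surface without exceptional curves is relatively minimal; successive contractions stop, as they all happen
over finitely many closed points and each removes a vertical curve.
-/

set_option autoImplicit false
set_option linter.style.haveILetI false
set_option linter.unusedSectionVars false
set_option backward.isDefEq.respectTransparency false
set_option backward.isDefEq.respectTransparency.types false
set_option maxHeartbeats 1000000

universe u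

open CategoryTheory CategoryTheory.Limits AlgebraicGeometry TopologicalSpace IsLocalRing

attribute [local instance 2000] CategoryTheory.CategoryStruct.toQuiver

noncomputable section

namespace Groth.Agent.ResolveX.Ded

open Groth.Agent

variable {R : Type u} [CommRing R] [IsDedekindDomain R]

/-- Birational morphisms of surfaces are sequences of contractions. -/
theorem isContractionSeq_of_generic {C : Scheme.{u}} {π : C ⟶ Spec (CommRingCat.of (FractionRing R))}
    {W Y : Over (Spec (CommRingCat.of R))} (hW : IsDedSurf W) (hY : IsDedSurf Y) (gW : C ⟶ W.left)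
    (hgW : IsPullback gW π W.hom (Neron.genPt R)) (g₂ : C ⟶ Y.left) (hg₂ : IsPullback g₂ π Y.hom (Neron.genPt R))
    (f : W ⟶ Y) (hf : gW ≫ f.left = g₂) : Models.IsContractionSeq f.left := by
  haveI := hW.isIntegral
  haveI := hY.isIntegral
  haveI : IsProper W.hom := hW.isProper
  haveI : IsProper Y.hom := hY.isProper
  haveI : Flat W.hom := hW.flat
  haveI : Flat Y.hom := hY.flat
  haveI : IsNoetherian W.left := isNoetherian_of_isProper
  haveI : IsNoetherian Y.left := isNoetherian_of_isProper
  haveI : IsProper (f.left ≫ Y.hom) := (Over.w f).symm ▸ inferInstance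
  haveI : Flat (f.left ≫ Y.hom) := (Over.w f).symm ▸ inferInstance
  haveI : IsProper f.left := IsProper.of_comp f.left Y.hom
  haveI : LocallyOfFinitePresentation f.left :=
    AlgStLib.locallyOfFinitePresentation_of_isLocallyNoetherian _ inferInstance
  haveI : LocallyOfFinitePresentation (f.left ≫ Y.hom) :=
    AlgStLib.locallyOfFinitePresentation_of_isLocallyNoetherian _ inferInstance
  have hsq : IsPullback gW (𝟙 C) f.left g₂ :=
    IsPullback.of_bot (by rw [Category.id_comp, Over.w f]; exact hgW) (by rw [Category.id_comp, hf]) hg₂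
  let o : Spec (CommRingCat.of R) := Neron.genPt R (closedPoint (FractionRing R))
  let φ := Scheme.descResidueField (Scheme.stalkClosedPointTo (Neron.genPt R))
  have hj : Spec.map φ ≫ (Spec (CommRingCat.of R)).fromSpecResidueField o = Neron.genPt R :=
    Scheme.descResidueField_stalkClosedPointTo_fromSpecResidueField (FractionRing R) _ (Neron.genPt R)
  haveI : Flat (Spec.map φ) := by
    rw [HasRingHomProperty.Spec_iff (P := @Flat)]
    letI := φ.hom.toAlgebra
    exact (RingHom.flat_algebraMap_iff (R := (Spec (CommRingCat.of R)).residueField o)).2 inferInstance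
  haveI := PurIso.surjective_of_field (K := (Spec (CommRingCat.of R)).residueField o) (Spec.map φ)
  have hover : PurIso.IsoOver f.left Y.hom ((Spec (CommRingCat.of R)).fromSpecResidueField o) := by
    rw [← PurIso.isoOver_comp_iff (Spec.map φ), hj, PurIso.isoOver_iff_of_isPullback hg₂,
      show pullback.snd f.left g₂ = hsq.isoPullback.inv ≫ 𝟙 C from (hsq.isoPullback_inv_snd).symm]
    infer_instance
  obtain ⟨O, hoO, hiso⟩ := S6712.exists_isIso_restrict' (f := f.left) (h := Y.hom) o hover
  refine isContractionSeq (X := W.left) hW.regular hW.dim_le _ f.left (Y.hom ⁻¹ᵁ O)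
    ⟨genericPoint Y.left, ?_⟩ hiso hY.regular rfl
  show Y.hom (genericPoint Y.left) ∈ O
  rw [hom_genericPoint Y]
  convert hoO using 1
  exact (PrimeSpectrum.ext (asIdeal_genPt _)).symm

/-- A model with the same generic fibre as a surface is a surface, the morphism being surjective. -/
theorem isDedSurf_target {X Y : Over (Spec (CommRingCat.of R))} (hX : IsDedSurf X) [IsProper Y.hom] [Flat Y.hom]
    (hY : ∀ y : Y.left, IsRegularLocalRing (Y.left.presheaf.stalk y)) (g : X ⟶ Y)
    [IsIso ((Neron.genericFibre R).map g)] : IsDedSurf Y := by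
  haveI := hX.isIntegral
  haveI : IsProper X.hom := hX.isProper
  haveI : Flat X.hom := hX.flat
  haveI : IsLocallyNoetherian Y.left := LocallyOfFiniteType.isLocallyNoetherian Y.hom
  haveI : ∀ y : Y.left, _root_.IsReduced (Y.left.presheaf.stalk y) := fun y => by
    haveI := (isNormalScheme_of_regular hY y).1
    infer_instance
  haveI : IsReduced Y.left := isReduced_of_isReduced_stalk _
  have hdense : ∀ y : Y.left, g.left (genericPoint X.left) ⤳ y := fun y => by
    obtain ⟨y', hy', hgen⟩ := Flat.generalizingMap Y.hom (show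
      (Neron.genPt R (closedPoint (FractionRing R)) : Spec (CommRingCat.of R)) ⤳ Y.hom y from
        (PrimeSpectrum.le_iff_specializes _ _).1 (by
          show (Neron.genPt R (closedPoint (FractionRing R)) : PrimeSpectrum R).asIdeal ≤ _
          rw [asIdeal_genPt]; exact bot_le))
    obtain ⟨c, rfl⟩ : y' ∈ Set.range (pullback.fst Y.hom (Neron.genPt R)) := by
      rw [Scheme.Pullback.range_fst]; exact ⟨closedPoint (FractionRing R), hgen.symm⟩
    obtain ⟨d, rfl⟩ := ((Neron.genericFibre R).map g).left.homeomorph.surjective c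
    refine Specializes.trans ?_ hy'
    show g.left (genericPoint X.left) ⤳ (((Neron.genericFibre R).map g).left ≫ pullback.fst Y.hom (Neron.genPt R)) d
    rw [show ((Neron.genericFibre R).map g).left ≫ pullback.fst Y.hom (Neron.genPt R) =
      pullback.fst X.hom (Neron.genPt R) ≫ g.left from pullback.lift_fst _ _ _, Scheme.Hom.comp_apply]
    exact ((genericPoint_spec X.left).specializes (Set.mem_univ _)).map g.left.continuous
  have hu : closure {g.left (genericPoint X.left)} = Set.univ :=
    Set.eq_univ_of_forall fun y => (hdense y).mem_closure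
  haveI : IrreducibleSpace Y.left := (irreducibleSpace_def _).2 (by
    show IsIrreducible (Set.univ : Set Y.left)
    rw [← hu]
    exact isIrreducible_singleton.closure)
  haveI : IsIntegral Y.left := isIntegral_of_irreducibleSpace_of_isReduced _
  haveI : IsProper (g.left ≫ Y.hom) := (Over.w g).symm ▸ inferInstance
  haveI : IsProper g.left := IsProper.of_comp g.left Y.hom
  have hsurj : Function.Surjective g.left := fun y =>
    (hdense y).mem_closed g.left.isClosedMap.isClosed_range ⟨_, rfl⟩
  exact ⟨hY, inferInstance, inferInstance, inferInstance,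
    (krullDim_le_of_surjective g.left hsurj g.left.isClosedMap).trans hX.dim_le⟩

/-- A surface without exceptional curves is relatively minimal. -/
theorem relMin_of_no_exc {X : Over (Spec (CommRingCat.of R))} (hX : ArSurf.IsArithSurface R X)
    (h : ¬ IsField R → ∀ (E : Scheme.{u}) (ι : E ⟶ X.left), IsClosedImmersion ι → ¬ Models.IsExcCurve ι) :
    Neron.IsRelMinimalRegularModel R X := by
  refine ⟨hX.1, hX.2.2.2.2, hX.2.2.2.1, fun Y hY hYp hYf g hg => ?_⟩
  haveI := hYf
  haveI : IsProper Y.hom := by
    obtain ⟨m, j, hj, hjw⟩ := hYp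
    haveI := hj
    haveI := AmpleX.isProper_toBase' m (Spec (CommRingCat.of R))
    rw [← hjw]; infer_instance
  haveI := hg
  suffices IsIso g.left by
    haveI : IsIso ((Over.forget _).map g) := this
    exact isIso_of_reflects_iso g (Over.forget _)
  have hfst : ((Neron.genericFibre R).map g).left ≫ pullback.fst Y.hom (Neron.genPt R) =
      pullback.fst X.hom (Neron.genPt R) ≫ g.left := pullback.lift_fst _ _ _
  by_cases hR : IsField R
  · have hb : Function.Bijective (algebraMap R (FractionRing R)) := by
      refine ⟨IsFractionRing.injective R (FractionRing R), fun x => ?_⟩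
      letI := hR.toField
      obtain ⟨⟨a, b⟩, rfl⟩ := IsLocalization.mk'_surjective (nonZeroDivisors R) x
      refine ⟨a * (b : R)⁻¹, ?_⟩
      rw [eq_comm, IsLocalization.mk'_eq_iff_eq_mul, ← map_mul, mul_assoc,
        inv_mul_cancel₀ (nonZeroDivisors.coe_ne_zero b), mul_one]
    haveI : IsIso (CommRingCat.ofHom (algebraMap R (FractionRing R))) :=
      (ConcreteCategory.isIso_iff_bijective _).2 hb
    haveI : IsIso (Neron.genPt R) := inferInstanceAs (IsIso (Spec.map _))
    haveI : IsIso (pullback.fst X.hom (Neron.genPt R) ≫ g.left) := hfst ▸ inferInstance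
    exact IsIso.of_isIso_comp_left (pullback.fst X.hom (Neron.genPt R)) g.left
  haveI : IsProper X.hom := isProper_of_isArithSurface hX
  have hX' := isDedSurf_of_isArithSurface hX
  have hY' := isDedSurf_target hX' hY g
  let π := pullback.snd X.hom (Neron.genPt R)
  let e : pullback X.hom (Neron.genPt R) ≅ pullback Y.hom (Neron.genPt R) :=
    asIso ((Neron.genericFibre R).map g).left
  have hg₂ : IsPullback (pullback.fst X.hom (Neron.genPt R) ≫ g.left) π Y.hom (Neron.genPt R) :=
    (IsPullback.of_hasPullback Y.hom (Neron.genPt R)).of_iso e.symm (Iso.refl _) (Iso.refl _) (Iso.refl _)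
      (by rw [Iso.symm_hom, Iso.refl_hom, Category.comp_id, Iso.eq_inv_comp]; exact hfst) (by
        rw [Iso.refl_hom, Category.comp_id, Iso.symm_hom, Iso.eq_inv_comp]
        exact pullback.lift_snd _ _ _) (by simp) (by simp)
  have hseq := isContractionSeq_of_generic hX' hY' _ (IsPullback.of_hasPullback X.hom (Neron.genPt R)) _ hg₂ g rfl
  generalize g.left = f at hseq ⊢
  cases hseq with
  | iso e => infer_instance
  | step ι b r hι hE hb hr => exact absurd hE (h hR _ ι hι)

/-- Points over `B` whose closure is more than one point. -/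
def curvePts (B : Set (Spec (CommRingCat.of R))) (Y : Over (Spec (CommRingCat.of R))) : Set Y.left :=
  {η | Y.hom η ∈ B ∧ ¬ IsClosed ({η} : Set Y.left)}

theorem finite_curvePts {B : Set (Spec (CommRingCat.of R))} (hB : B.Finite)
    (hB0 : ∀ s ∈ B, (s : PrimeSpectrum R).asIdeal ≠ ⊥) {Y : Over (Spec (CommRingCat.of R))} (hY : IsDedSurf Y) :
    (curvePts B Y).Finite := by
  haveI := hY.isIntegral
  haveI : IsProper Y.hom := hY.isProper
  haveI : Flat Y.hom := hY.flat
  haveI : IsNoetherian Y.left := isNoetherian_of_isProper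
  have hk : Order.krullDim Y.left ≤ 2 :=
    (Order.krullDim_eq_of_orderIso (irreducibleSetEquivPoints (α := Y.left))).symm.trans_le hY.dim_le
  refine (hB.biUnion fun s _ => ?_).subset (s := ⋃ s ∈ B, {η | Y.hom η = s ∧ η ∈ curvePts B Y})
    fun η hη => Set.mem_biUnion hη.1 ⟨rfl, hη⟩
  let F : Set Y.left := Y.hom ⁻¹' {s}
  refine (((NoetherianSpace.finite_irreducibleComponents (α := F)).image fun Z => closure (Subtype.val '' Z)).preimage
    (f := fun η : Y.left => closure ({η} : Set Y.left)) fun a _ b _ h => ?_).subset ?_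
  · exact ((specializes_iff_closure_subset.2 h.ge).antisymm (specializes_iff_closure_subset.2 h.le)).eq
  rintro η ⟨hηs, hηB, hncl⟩
  let η' : F := ⟨η, hηs⟩
  obtain ⟨w, hw, hne⟩ : ∃ w, w ∈ closure ({η} : Set Y.left) ∧ w ≠ η := by
    by_contra hcon
    push Not at hcon
    exact hncl (closure_subset_iff_isClosed.1 fun w hw => hcon w hw)
  have h1 : w < η := ArInt.lt_of_specializes_ne (specializes_iff_mem_closure.2 hw) hne.symm
  refine ⟨closure {η'}, ⟨isIrreducible_singleton.closure, fun Z hZ hle θ hθ => ?_⟩, ?_⟩
  · have hZi : IsIrreducible (closure (Subtype.val '' Z) : Set Y.left) :=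
      (IsIrreducible.image hZ Subtype.val continuous_subtype_val.continuousOn).closure
    obtain ⟨t, ht⟩ := QuasiSober.sober hZi isClosed_closure
    have htη : t ⤳ η := ht.specializes (subset_closure ⟨η', hle (subset_closure rfl), rfl⟩)
    have htθ : t ⤳ θ.1 := ht.specializes (subset_closure ⟨θ, hθ, rfl⟩)
    suffices t = η by
      subst this
      exact specializes_iff_mem_closure.1 ((subtype_specializes_iff _ _).2 htθ)
    by_contra hte
    have h2 : η < t := ArInt.lt_of_specializes_ne htη hte
    have h3 : t < genericPoint Y.left :=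
      ArInt.lt_of_specializes_ne ((genericPoint_spec Y.left).specializes (Set.mem_univ t)) fun h => by
        have h4 : (Y.hom t : PrimeSpectrum R).asIdeal ≤ (Y.hom η : PrimeSpectrum R).asIdeal :=
          (PrimeSpectrum.le_iff_specializes _ _).2 (htη.map Y.hom.continuous)
        have h5 : Y.hom t ⤳ s := (show Y.hom η = s from hηs) ▸ htη.map Y.hom.continuous
        have h6 : t ∈ closure (Subtype.val '' Z) := ht.mem
        have h7 : closure (Subtype.val '' Z) ⊆ Y.hom ⁻¹' closure {s} :=
          closure_minimal (by rintro _ ⟨v, -, rfl⟩; exact subset_closure v.2)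
            (isClosed_closure.preimage Y.hom.continuous)
        have h8 : s ⤳ Y.hom t := specializes_iff_mem_closure.2 (h7 h6)
        refine hB0 s (hηs ▸ hηB) ?_
        rw [← (h5.antisymm h8).eq, ← h]
        exact congrArg PrimeSpectrum.asIdeal (hom_genericPoint Y)
    have := (Order.LTSeries.length_le_krullDim
      (RelSeries.cons (RelSeries.cons ((RelSeries.singleton _ (genericPoint Y.left)).cons t h3) η h2) w h1)).trans hk
    exact absurd this (by simp only [RelSeries.cons_length, RelSeries.singleton_length]; norm_num)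
  · show closure (Subtype.val '' closure {η'}) = closure ({η} : Set Y.left)
    refine subset_antisymm (closure_minimal ?_ isClosed_closure) (closure_mono ?_)
    · rintro _ ⟨v, hv, rfl⟩
      exact ((subtype_specializes_iff η' v).1 (specializes_iff_mem_closure.2 hv)).mem_closure
    · exact Set.singleton_subset_iff.2 ⟨η', subset_closure rfl, rfl⟩

/-- Every arithmetic surface has a morphism to a relatively minimal one. -/
theorem exists_relMin {X : Over (Spec (CommRingCat.of R))} (hX : ArSurf.IsArithSurface R X) :
    ∃ (Y : Over (Spec (CommRingCat.of R))) (f : X ⟶ Y), ArSurf.IsArithSurface R Y ∧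
      Neron.IsRelMinimalRegularModel R Y ∧ IsIso ((Neron.genericFibre R).map f) := by
  classical
  by_cases hR : IsField R
  · exact ⟨X, 𝟙 X, hX, relMin_of_no_exc hX fun h => absurd hR h, inferInstance⟩
  obtain ⟨B, hB, hB0, hm⟩ := exists_finite_meetOver (isDedSurf_of_isArithSurface hX)
  suffices ∀ (n : ℕ) (Y : Over (Spec (CommRingCat.of R))) (f : X ⟶ Y), ArSurf.IsArithSurface R Y →
      IsIso ((Neron.genericFibre R).map f) → (∀ s ∉ B, MeetOver Y.hom s) → (curvePts B Y).ncard = n →
      ∃ (Z : Over (Spec (CommRingCat.of R))) (h : X ⟶ Z), ArSurf.IsArithSurface R Z ∧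
        Neron.IsRelMinimalRegularModel R Z ∧ IsIso ((Neron.genericFibre R).map h) from
    this _ X (𝟙 X) hX inferInstance hm rfl
  intro n
  induction n using Nat.strong_induction_on with
  | _ n ih =>
    intro Y f hY hf hYm hn
    by_cases hex : ∃ (E : Scheme.{u}) (ι : E ⟶ Y.left), IsClosedImmersion ι ∧ Models.IsExcCurve ι
    swap
    · push Not at hex
      exact ⟨Y, f, hY, relMin_of_no_exc hY fun _ => hex, hf⟩
    obtain ⟨E, ι, hι, hE⟩ := hex
    haveI := hι
    have hY' := isDedSurf_of_isArithSurface hY
    haveI := hY.2.1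
    obtain ⟨Z, g, y, hy, hZ, hgp, hgs, hgy, hgU, hgK, -⟩ := exists_contraction_point hR Y hY ι hE
    haveI := hgp; haveI := hgU; haveI := hgs; haveI := hgK; haveI := hf; haveI := isIntegral_exc hE
    let U : Z.left.Opens := ⟨{y}ᶜ, hy.isOpen_compl⟩
    have hwg : ∀ p, Z.hom (g.left p) = Y.hom p := fun p => by
      rw [← Scheme.Hom.comp_apply, Over.w g]
    have hEs : ∀ e, Y.hom (ι e) = Z.hom y := fun e => by
      rw [← hwg]; exact congrArg _ (hgy.ge ⟨e, rfl⟩)
    have hyB : Z.hom y ∈ B := by
      by_contra h
      refine not_meetOver_of_exc hR Y hY' ι hE (genericPoint E) ?_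
      rw [hEs]
      exact hYm _ h
    -- the fibres off `B` do not change
    have hZm : ∀ s ∉ B, MeetOver Z.hom s := by
      intro s hs a b x ha hb hx hax hbx
      have hU : ∀ {z}, Z.hom z = s → z ∈ U := fun {z} hz h => hs (hz ▸ (show z = y from h) ▸ hyB)
      let Φ := (g.left ∣_ U).homeomorph
      have hval : ∀ u : U, g.left (Φ.symm u).1 = u.1 := fun u =>
        (morphismRestrict_base_coe g.left U (Φ.symm u)).symm.trans (congrArg Subtype.val (Φ.apply_symm_apply u))
      let a' : Y.left := (Φ.symm ⟨a, hU ha⟩).1
      let b' : Y.left := (Φ.symm ⟨b, hU hb⟩).1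
      let x' : Y.left := (Φ.symm ⟨x, hU hx⟩).1
      have hs' : ∀ {z : Z.left} (hz : Z.hom z = s), Y.hom (Φ.symm ⟨z, hU hz⟩).1 = s := fun hz => by
        rw [← hwg, hval]; exact hz
      have hsp : ∀ {z : Z.left} (hz : Z.hom z = s), z ⤳ x → (Φ.symm ⟨z, hU hz⟩).1 ⤳ x' := fun hz h =>
        (((subtype_specializes_iff (⟨_, hU hz⟩ : U) ⟨x, hU hx⟩).2 h).map Φ.symm.continuous).map continuous_subtype_val
      obtain ⟨c, hc, hca, hcb⟩ := hYm s hs a' b' x' (hs' ha) (hs' hb) (hs' hx) (hsp ha hax) (hsp hb hbx)
      refine ⟨g.left c, (hwg c).trans hc, ?_, ?_⟩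
      · simpa only [a', hval] using hca.map g.left.continuous
      · simpa only [b', hval] using hcb.map g.left.continuous
    -- one curve less
    have hfin := finite_curvePts hB hB0 hY'
    let e₀ := ι (genericPoint E)
    have he₀ : e₀ ∈ curvePts B Y := by
      refine ⟨(hEs _).symm ▸ hyB, fun hcl => ?_⟩
      obtain ⟨a, ha⟩ := exists_ne_gen_exc hE
      exact ha (ι.isClosedEmbedding.injective
        ((((genericPoint_spec E).specializes (Set.mem_univ a)).map ι.continuous).mem_closed hcl rfl))
    have hsub : curvePts B Z ⊆ g.left '' (curvePts B Y \ {e₀}) := by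
      rintro z ⟨hzB, hz⟩
      obtain ⟨p, rfl⟩ := g.left.surjective z
      refine ⟨p, ⟨⟨hwg p ▸ hzB, fun hcl => hz ?_⟩, fun hp => hz ?_⟩, rfl⟩
      · have := g.left.isClosedMap _ hcl
        rwa [Set.image_singleton] at this
      · rw [show g.left p = y by rw [show p = e₀ from hp]; exact hgy.ge ⟨_, rfl⟩]
        exact hy
    have hlt : (curvePts B Z).ncard < n := by
      rw [← hn]
      calc (curvePts B Z).ncard ≤ (g.left '' (curvePts B Y \ {e₀})).ncard :=
            Set.ncard_le_ncard hsub ((hfin.subset Set.sdiff_subset).image _)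
        _ ≤ (curvePts B Y \ {e₀}).ncard := Set.ncard_image_le (hfin.subset Set.sdiff_subset)
        _ < (curvePts B Y).ncard := Set.ncard_sdiff_singleton_lt_of_mem he₀ hfin
    refine ih _ hlt Z (f ≫ g) hZ ?_ hZm rfl
    rw [Functor.map_comp]
    infer_instance

end Groth.Agent.ResolveX.Ded
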