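import Groth.Agent.ResolveX.CplRegular
import Groth.Agent.ResolveX.DedekindExist
import Groth.Agent.CILib.Basic
import Groth.Agent.WeilSmooth.Main

/-!
# Exceptional curves and completion of the base

Completing a discrete valuation ring does not change the closed fibre of a surface, hence neither its exceptional
curves.
-/

set_option autoImplicit false
set_option linter.style.haveILetI false
set_option linter.unusedSectionVars false
set_option backward.isDefEq.respectTransparency false
set_option backward.isDefEq.respectTransparency.types false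
set_option maxHeartbeats 1000000

universe u

open CategoryTheory CategoryTheory.Limits AlgebraicGeometry TopologicalSpace IsLocalRing

attribute [local instance 2000] CategoryTheory.CategoryStruct.toQuiver

noncomputable section

namespace Groth.Agent.ResolveX

open Groth.Agent Groth.Agent.H23.PicMul

theorem dim_eq_of_levelwise {R S : Type u} [CommRing R] [CommRing S] [IsLocalRing R] [IsLocalRing S]
    [IsNoetherianRing R] [IsNoetherianRing S] (θ : R →+* S) [IsLocalHom θ] (h : Levelwise θ) :
    ringKrullDim S = ringKrullDim R := by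
  letI := θ.toAlgebra
  have hle : ∀ n, maximalIdeal R ^ n ≤ (maximalIdeal S ^ n).comap (Algebra.ofId R S) := fun n => by
    rw [← Ideal.map_le_iff_le_comap, Ideal.map_pow]
    exact Ideal.pow_right_mono (IsLocalRing.map_maximalIdeal_le θ) n
  have hbij : ∀ n, Function.Bijective (Ideal.quotientMapₐ (maximalIdeal S ^ n) (Algebra.ofId R S) (hle n)) := fun n => by
    refine ⟨(injective_iff_map_eq_zero _).2 fun y hy => ?_, fun y => ?_⟩
    · obtain ⟨a, rfl⟩ := Ideal.Quotient.mk_surjective y
      exact Ideal.Quotient.eq_zero_iff_mem.2 ((h n).2 a (Ideal.Quotient.eq_zero_iff_mem.1 hy))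
    · obtain ⟨b, rfl⟩ := Ideal.Quotient.mk_surjective y
      obtain ⟨a, ha⟩ := (h n).1 b
      exact ⟨Ideal.Quotient.mk _ a, (Ideal.Quotient.eq.2 ha).symm⟩
  obtain ⟨e⟩ := Algebraize7.nonempty_completion_algEquiv (maximalIdeal R) (maximalIdeal S) (Algebra.ofId R S) hle hbij
  rw [← CILib.ringKrullDim_adicCompletion S, ← CILib.ringKrullDim_adicCompletion R]
  exact (ringKrullDim_eq_of_ringEquiv e.toRingEquiv).symm

variable {R R' : Type u} [CommRing R] [IsDomain R] [IsDiscreteValuationRing R] [CommRing R'] [IsDomain R']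
  [IsDiscreteValuationRing R'] [Algebra R R']

/-- The base change along `Spec R' ⟶ Spec R`. -/
abbrev bcX (X : Over (Spec (CommRingCat.of R))) : Over (Spec (CommRingCat.of R')) :=
  (Over.pullback (Spec.map (CommRingCat.ofHom (algebraMap R R')))).obj X

variable (X : Over (Spec (CommRingCat.of R))) (e : R' ≃ₐ[R] AdicCompletion (maximalIdeal R) R)

include e in
theorem map_maximalIdeal_of_cpl : (maximalIdeal R).map (algebraMap R R') = maximalIdeal R' := by
  have h1 : (algebraMap R R') = e.symm.toRingEquiv.toRingHom.comp (algebraMap R _) :=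
    RingHom.ext fun r => (e.symm.commutes r).symm
  rw [h1, ← Ideal.map_map, ← AdicCompletion.maximalIdeal_eq_map]
  exact IsLocalRing.eq_maximalIdeal (Ideal.map_isMaximal_of_equiv e.symm.toRingEquiv)

include e in
theorem residue_surjective_of_cpl :
    Function.Surjective ((residue R').comp (algebraMap R R')) := by
  intro x
  obtain ⟨y, rfl⟩ := residue_surjective x
  obtain ⟨r, hr⟩ := (AdicCompletion.residueField_map_bijective R).2 (residue _ (e y))
  obtain ⟨r, rfl⟩ := residue_surjective r
  rw [ResidueField.map_residue] at hr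
  refine ⟨r, (Ideal.Quotient.mk_eq_mk_iff_sub_mem _ _).2 ?_⟩
  have h := (Ideal.Quotient.mk_eq_mk_iff_sub_mem _ _).1 hr
  rw [IsLocalRing.mem_maximalIdeal, mem_nonunits_iff] at h ⊢
  intro hu
  refine h ?_
  have := hu.map e.toRingEquiv.toRingHom
  simpa using this

/-- The closed fibre does not change. -/
theorem exists_fibre_iso (hm : (maximalIdeal R).map (algebraMap R R') = maximalIdeal R')
    (hs : Function.Surjective ((residue R').comp (algebraMap R R'))) :
    ∃ j : pullback X.hom (Spec.map (CommRingCat.ofHom (residue R))) ⟶ (bcX (R' := R') X).left,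
      IsPullback j (𝟙 _) (pullback.fst X.hom (Spec.map (CommRingCat.ofHom (algebraMap R R'))))
        (pullback.fst X.hom (Spec.map (CommRingCat.ofHom (residue R)))) := by
  let jk := Spec.map (CommRingCat.ofHom (residue R))
  let jk' := Spec.map (CommRingCat.ofHom (residue R'))
  let s := Spec.map (CommRingCat.ofHom (algebraMap R R'))
  let q : CommRingCat.of (ResidueField R) ⟶ CommRingCat.of (ResidueField R') :=
    CommRingCat.ofHom (Ideal.quotientMap (maximalIdeal R') (algebraMap R R')
      (Ideal.map_le_iff_le_comap.1 hm.le))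
  have hq : IsPushout (CommRingCat.ofHom (residue R)) (CommRingCat.ofHom (algebraMap R R')) q
      (CommRingCat.ofHom (residue R')) := by
    let ε : (R' ⧸ (maximalIdeal R).map (algebraMap R R')) ≃+* ResidueField R' := Ideal.quotEquivOfEq hm
    exact (WeilSmooth.isPushout_quotient (algebraMap R R') (maximalIdeal R)).of_iso (Iso.refl _) (Iso.refl _)
      (Iso.refl _) ε.toCommRingCatIso (by ext x; rfl) (by ext x; rfl) (by ext x; rfl) (by ext x; rfl)
  have hsq : IsPullback (Spec.map q) jk' jk s := isPullback_SpecMap_of_isPushout _ _ _ _ hq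
  haveI : IsIso q := (ConcreteCategory.isIso_iff_bijective _).2 ⟨q.hom.injective, fun x => by
    obtain ⟨r, hr⟩ := hs x
    exact ⟨residue R r, hr⟩⟩
  let j : pullback X.hom jk ⟶ (bcX (R' := R') X).left :=
    pullback.lift (pullback.fst X.hom jk) (pullback.snd X.hom jk ≫ inv (Spec.map q) ≫ jk') (by
      rw [pullback.condition, Category.assoc, Category.assoc, ← hsq.w, IsIso.inv_hom_id_assoc])
  have hκ : IsPullback (inv (Spec.map q) ≫ jk') (𝟙 _) s jk :=
    hsq.flip.of_iso (asIso (Spec.map q)) (Iso.refl _) (Iso.refl _) (Iso.refl _) (by simp) (by simp) (by simp) (by simp)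
  have h0 : IsPullback (pullback.snd X.hom jk) (𝟙 (pullback X.hom jk)) (𝟙 _) (pullback.snd X.hom jk) :=
    IsPullback.of_vert_isIso ⟨by simp⟩
  have houter : IsPullback (j ≫ pullback.snd X.hom s) (𝟙 _) s (pullback.fst X.hom jk ≫ X.hom) := by
    rw [pullback.condition, show j ≫ pullback.snd X.hom s = pullback.snd X.hom jk ≫ inv (Spec.map q) ≫ jk' from
      pullback.lift_snd _ _ _]
    exact h0.paste_horiz hκ
  exact ⟨j, IsPullback.of_right houter ((pullback.lift_fst _ _ _).trans (Category.id_comp _).symm)
    (IsPullback.of_hasPullback X.hom s).flip⟩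

/-- A closed immersion into the closed fibre, read in the base change. -/
theorem exists_lift_fibre (hm : (maximalIdeal R).map (algebraMap R R') = maximalIdeal R')
    (hs : Function.Surjective ((residue R').comp (algebraMap R R')))
    {E : Scheme.{u}} (ι₀ : E ⟶ pullback X.hom (Spec.map (CommRingCat.ofHom (residue R)))) [IsClosedImmersion ι₀] :
    ∃ ι' : E ⟶ (bcX (R' := R') X).left, IsClosedImmersion ι' ∧
      ι' ≫ pullback.fst X.hom (Spec.map (CommRingCat.ofHom (algebraMap R R'))) =
        ι₀ ≫ pullback.fst X.hom (Spec.map (CommRingCat.ofHom (residue R))) ∧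
      ι'.ker = (ι₀ ≫ pullback.fst X.hom (Spec.map (CommRingCat.ofHom (residue R)))).ker.comap
        (pullback.fst X.hom (Spec.map (CommRingCat.ofHom (algebraMap R R')))) := by
  haveI : IsClosedImmersion (Spec.map (CommRingCat.ofHom (residue R))) :=
    IsClosedImmersion.spec_of_surjective _ residue_surjective
  obtain ⟨j, hj⟩ := exists_fibre_iso X hm hs
  have h0 : IsPullback ι₀ (𝟙 E) (𝟙 _) ι₀ := IsPullback.of_vert_isIso ⟨by simp⟩
  have h : IsPullback (ι₀ ≫ j) (𝟙 E) (pullback.fst X.hom (Spec.map (CommRingCat.ofHom (algebraMap R R'))))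
      (ι₀ ≫ pullback.fst X.hom (Spec.map (CommRingCat.ofHom (residue R)))) := h0.paste_horiz hj
  refine ⟨ι₀ ≫ j, MorphismProperty.of_isPullback h.flip inferInstance, by rw [h.w, Category.id_comp], ?_⟩
  rw [← h.isoPullback_hom_fst, Scheme.Hom.ker_comp_of_isIso, Scheme.IdealSheafData.ker_fst_of_isClosedImmersion]

/-- A line in the closed fibre of a surface is an effective Cartier divisor. -/
theorem isEffCartier_of_line {Y : Over (Spec (CommRingCat.of R))} [ArInt.IsSurf Y] [Flat Y.hom] {E : Scheme.{u}}
    (ι : E ⟶ Y.left) [IsClosedImmersion ι] {k : Type u} [Field k] (ε : CohB1.ProjSpace 1 k ≅ E)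
    (hF : ∀ p, Y.hom (ι p) = closedPoint R) : BlowUp.IsEffCartierIdeal ι.ker := by
  haveI : IsIntegral (CohB1.ProjSpace 1 k) := H23.PnChart.isIntegral_projSpace 1 _
  haveI : Nonempty E := ⟨ε.hom (Classical.arbitrary _)⟩
  haveI : IsIntegral E := isIntegral_of_isOpenImmersion ε.inv
  let η := ι (genericPoint E)
  have hcl : closure ({η} : Set Y.left) = Set.range ι := by
    rw [← Set.image_singleton, ι.isClosedEmbedding.closure_image_eq, genericPoint_closure, Set.image_univ]
  obtain ⟨a, ha⟩ : ∃ a : E, a ≠ genericPoint E := by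
    by_contra hcon
    push Not at hcon
    haveI : Subsingleton E := ⟨fun a b => (hcon a).trans (hcon b).symm⟩
    have h1 : topologicalKrullDim E = 1 :=
      (IsHomeomorph.topologicalKrullDim_eq _ ε.inv.homeomorph.isHomeomorph).trans (ArInt.dim_line _)
    have h2 : topologicalKrullDim E ≤ 0 := topologicalKrullDim_zero_of_discreteTopology _
    rw [h1] at h2
    exact absurd h2 (by norm_num)
  obtain ⟨E', hE'⟩ := ArInt.exists_vertComp_closure ArInt.IsSurf.dim_eq (hF _ : η ∈ Models.specialFibreSet R Y)
    (ArInt.lt_of_specializes_ne (((genericPoint_spec E).specializes (Set.mem_univ a)).map ι.continuous)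
      fun h => ha (ι.isClosedEmbedding.injective h).symm)
  haveI := E'.isClosedImmersion
  haveI := E'.isIntegral
  have hr : Set.range E'.ι = Set.range ι := hE'.trans hcl
  have hker : ι.ker = E'.ι.ker := by
    rw [CanonDual.ker_eq_vanishingIdeal ι (S := ⟨_, E'.ι.isClosedEmbedding.isClosed_range⟩) hr.symm,
      CanonDual.ker_eq_vanishingIdeal E'.ι (S := ⟨_, E'.ι.isClosedEmbedding.isClosed_range⟩) rfl]
  rw [hker]
  exact ArInt.isEffCartier_ker E'

theorem over_of_closed {T : Over (Spec (CommRingCat.of R))} [IsProper T.hom] {y : T.left}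
    (hy : IsClosed ({y} : Set T.left)) : T.hom y = closedPoint R := by
  have hc := T.hom.isClosedMap _ hy
  rw [Set.image_singleton] at hc
  exact PrimeSpectrum.ext (IsLocalRing.eq_maximalIdeal ((PrimeSpectrum.isClosed_singleton_iff_isMaximal _).1 hc))

include e in
/-- The completion of a surface is a surface. -/
theorem isArithSurface_cpl (hX : ArSurf.IsArithSurface R X) [IsIntegral (bcX (R' := R') X).left] :
    ArSurf.IsArithSurface R' (bcX (R' := R') X) := by
  haveI := ArInt.isSurf_of_isArithSurface hX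
  haveI := hX.2.2.2.1
  haveI : IsNoetherianRing (Curv2.cpl R) := FormalFib6.isNoetherianRing_adicCompletion R _
  let σ : Spec (CommRingCat.of (Curv2.cpl R)) ≅ Spec (CommRingCat.of R') :=
    asIso (Spec.map e.toRingEquiv.toCommRingCatIso.hom)
  have hσ : σ.hom ≫ Spec.map (CommRingCat.ofHom (algebraMap R R')) =
      Spec.map (CommRingCat.ofHom (algebraMap R (Curv2.cpl R))) := by
    show Spec.map _ ≫ Spec.map _ = _
    rw [← Spec.map_comp]
    congr 1
    exact CommRingCat.hom_ext (RingHom.ext e.commutes)
  haveI : IsProper (bcX (R' := R') X).hom :=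
    inferInstanceAs (IsProper (pullback.snd X.hom (Spec.map (CommRingCat.ofHom (algebraMap R R')))))
  haveI : Flat (bcX (R' := R') X).hom :=
    inferInstanceAs (Flat (pullback.snd X.hom (Spec.map (CommRingCat.ofHom (algebraMap R R')))))
  let θ : Curv2.bcCpl R X.hom ≅ (bcX (R' := R') X).left :=
    asIso (pullback.map X.hom (Spec.map (CommRingCat.ofHom (algebraMap R (Curv2.cpl R)))) X.hom
      (Spec.map (CommRingCat.ofHom (algebraMap R R'))) (𝟙 _) σ.hom (𝟙 _) (by simp) (by simp [hσ]))
  have hreg : ∀ z : (bcX (R' := R') X).left, IsRegularLocalRing ((bcX (R' := R') X).left.presheaf.stalk z) := by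
    intro z
    obtain ⟨z', rfl⟩ : z ∈ Set.range θ.hom := θ.hom.surjective z
    haveI := (isRegular_iff R X.hom).1 hX.1 z'
    exact IsRegularLocalRing.of_ringEquiv (asIso (θ.hom.stalkMap z')).commRingCatIsoToRingEquiv.symm
  haveI : IsLocallyNoetherian X.left := LocallyOfFiniteType.isLocallyNoetherian X.hom
  haveI : CompactSpace X.left := QuasiCompact.compactSpace_of_compactSpace X.hom
  haveI : IsNoetherian X.left := {}
  haveI : IsLocallyNoetherian (Curv2.bcCpl R X.hom) :=
    LocallyOfFiniteType.isLocallyNoetherian (Curv2.bcCplSnd R X.hom)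
  haveI : CompactSpace (Curv2.bcCpl R X.hom) := QuasiCompact.compactSpace_of_compactSpace (Curv2.bcCplSnd R X.hom)
  have hclosed : ∀ y : Curv2.bcCpl R X.hom, IsClosed ({y} : Set (Curv2.bcCpl R X.hom)) →
      ringKrullDim ((Curv2.bcCpl R X.hom).presheaf.stalk y) = 2 := by
    intro y hy
    have hy' : (Curv2.bcCplSnd R X.hom) y = closedPoint (Curv2.cpl R) := by
      haveI : IsProper (Over.mk (Curv2.bcCplSnd R X.hom)).hom :=
        inferInstanceAs (IsProper (pullback.snd X.hom (Spec.map (CommRingCat.ofHom (algebraMap R (Curv2.cpl R))))))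
      have hc := (Curv2.bcCplSnd R X.hom).isClosedMap _ hy
      rw [Set.image_singleton] at hc
      exact PrimeSpectrum.ext (IsLocalRing.eq_maximalIdeal ((PrimeSpectrum.isClosed_singleton_iff_isMaximal _).1 hc))
    have hov := over_closedPoint R X.hom y hy'
    have hl := levelwise_bcCpl R (IsNoetherian.noetherian _) X.hom y hov
    rw [dim_eq_of_levelwise ((Curv2.bcCplFst R X.hom).stalkMap y).hom hl]
    refine dim_stalk_closedPoint ?_ hov
    -- the image of a closed point of the closed fibre is closed
    refine closure_subset_iff_isClosed.1 fun x hx => ?_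
    obtain ⟨y', hy'1, hy'2⟩ := Scheme.Pullback.exists_preimage_pullback (f := X.hom)
      (g := Spec.map (CommRingCat.ofHom (algebraMap R (Curv2.cpl R)))) x (closedPoint (Curv2.cpl R)) (by
        rw [(show X.hom x = closedPoint R from ((IsLocalRing.isClosed_singleton_closedPoint R).preimage
          X.hom.continuous).closure_subset_iff.2 (Set.singleton_subset_iff.2 hov) hx)]
        exact (PrimeSpectrum.ext (IsLocalRing.maximalIdeal_comap (algebraMap R (Curv2.cpl R)))).symm)
    subst hy'1
    obtain ⟨j, hj⟩ := exists_fibre_iso (R' := R') X (map_maximalIdeal_of_cpl e) (residue_surjective_of_cpl e)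
    -- both points come from the closed fibre
    haveI : IsClosedImmersion (Spec.map (CommRingCat.ofHom (residue R))) :=
      IsClosedImmersion.spec_of_surjective _ residue_surjective
    let fk := pullback.fst X.hom (Spec.map (CommRingCat.ofHom (residue R)))
    have hrk : ∀ w : Curv2.bcCpl R X.hom, X.hom (Curv2.bcCplFst R X.hom w) = closedPoint R →
        ∃ v, j v = θ.hom w ∧ fk v = Curv2.bcCplFst R X.hom w := fun w hw => by
      have hfst : pullback.fst X.hom (Spec.map (CommRingCat.ofHom (algebraMap R R'))) (θ.hom w) =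
          Curv2.bcCplFst R X.hom w := by
        have h1 : θ.hom ≫ pullback.fst X.hom (Spec.map (CommRingCat.ofHom (algebraMap R R'))) =
            Curv2.bcCplFst R X.hom := (pullback.lift_fst _ _ _).trans (Category.comp_id _)
        exact (Scheme.Hom.comp_apply θ.hom _ w).symm.trans (congrArg (fun φ => φ w) h1)
      obtain ⟨v, hv⟩ : Curv2.bcCplFst R X.hom w ∈ Set.range fk := by
        rw [Scheme.Pullback.range_fst]
        exact ⟨closedPoint _, (IsLocalRing.comap_closedPoint (residue R)).trans hw.symm⟩
      obtain ⟨v', hv', -⟩ := Scheme.Pullback.exists_preimage_pullback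
        (f := pullback.fst X.hom (Spec.map (CommRingCat.ofHom (algebraMap R R')))) (g := fk) (θ.hom w) v (hfst.trans hv.symm)
      refine ⟨hj.isoPullback.inv v', ?_, ?_⟩
      · rw [← Scheme.Hom.comp_apply, hj.isoPullback_inv_fst]; exact hv'
      · have h2 : hj.isoPullback.inv ≫ fk = pullback.fst _ fk ≫
            pullback.fst X.hom (Spec.map (CommRingCat.ofHom (algebraMap R R'))) := by
          rw [← hj.isoPullback_inv_fst, Category.assoc, hj.w, Category.id_comp]
        rw [← Scheme.Hom.comp_apply, h2, Scheme.Hom.comp_apply, hv', hfst]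
    obtain ⟨v, hv1, hv2⟩ := hrk y hov
    obtain ⟨v', hv'1, hv'2⟩ := hrk y' (by
      rw [← Scheme.Hom.comp_apply, show Curv2.bcCplFst R X.hom ≫ X.hom = Curv2.bcCplSnd R X.hom ≫ _ from pullback.condition,
        Scheme.Hom.comp_apply]
      exact (congrArg _ hy'2).trans (PrimeSpectrum.ext (IsLocalRing.maximalIdeal_comap (algebraMap R (Curv2.cpl R)))))
    have hsp : v ⤳ v' := by
      refine (pullback.fst X.hom (Spec.map (CommRingCat.ofHom (residue R)))).isEmbedding.isInducing.specializes_iff.1 ?_
      show fk v ⤳ fk v'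
      rw [hv2, hv'2]; exact specializes_iff_mem_closure.2 hx
    have h3 : θ.hom y ⤳ θ.hom y' := hv1 ▸ hv'1 ▸ hsp.map j.continuous
    have h4 : y' = y := ((θ.hom.isEmbedding.isInducing.specializes_iff.1 h3).mem_closed hy rfl)
    rw [h4]
    rfl
  have hd : topologicalKrullDim (bcX (R' := R') X).left = 2 := by
    rw [show topologicalKrullDim (bcX (R' := R') X).left = topologicalKrullDim (Curv2.bcCpl R X.hom) from
      (IsHomeomorph.topologicalKrullDim_eq _ θ.hom.homeomorph.isHomeomorph).symm,
      show topologicalKrullDim (Curv2.bcCpl R X.hom) = Order.krullDim (Curv2.bcCpl R X.hom) from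
      Order.krullDim_eq_of_orderIso (irreducibleSetEquivPoints (α := (Curv2.bcCpl R X.hom)))]
    haveI : Nonempty (Curv2.bcCpl R X.hom) := ⟨θ.inv (Classical.arbitrary _)⟩
    refine le_antisymm ?_ ?_
    · rw [Order.krullDim_eq_iSup_coheight]
      refine iSup_le fun p => ?_
      obtain ⟨q, hq, hqc⟩ := SchTop.exists_isClosed_specializes p
      refine le_trans ?_ (hclosed q hqc).le
      rw [ringKrullDim_stalk_eq_coheight]
      exact WithBot.coe_le_coe.2 (Order.coheight_anti (show q ≤ p from hq))
    · obtain ⟨q, -, hqc⟩ := SchTop.exists_isClosed_specializes (Classical.arbitrary (Curv2.bcCpl R X.hom))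
      rw [← hclosed q hqc, ringKrullDim_stalk_eq_coheight]
      exact Order.coheight_le_krullDim q
  haveI : ArInt.IsSurf (bcX (R' := R') X) := ⟨‹_›, ‹_›, hreg, hd⟩
  exact ⟨hreg, ‹_›, hd, ‹_›, isProjectiveOver_of_isSurf (bcX (R' := R') X)⟩

include e in
/-- Relative minimality is unchanged by completion. -/
theorem relMin_iff_cpl (hX : ArSurf.IsArithSurface R X) [IsIntegral (bcX (R' := R') X).left] :
    Neron.IsRelMinimalRegularModel R X ↔ Neron.IsRelMinimalRegularModel R' (bcX (R' := R') X) := by
  have hX' := isArithSurface_cpl X e hX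
  haveI := ArInt.isSurf_of_isArithSurface hX
  haveI := ArInt.isSurf_of_isArithSurface hX'
  haveI := hX.2.2.2.1
  haveI := hX'.2.2.2.1
  have hm := map_maximalIdeal_of_cpl e
  have hs := residue_surjective_of_cpl e
  let p := pullback.fst X.hom (Spec.map (CommRingCat.ofHom (algebraMap R R')))
  let jk := Spec.map (CommRingCat.ofHom (residue R))
  haveI : IsClosedImmersion jk := IsClosedImmersion.spec_of_surjective _ residue_surjective
  have hclR : closedPoint R ∈ Set.range jk := ⟨closedPoint _, IsLocalRing.comap_closedPoint (residue R)⟩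
  have hRf : ¬ IsField R := IsDiscreteValuationRing.not_isField R
  have hR'f : ¬ IsField R' := IsDiscreteValuationRing.not_isField R'
  haveI : IsProper X.hom := Ded.isProper_of_isArithSurface hX
  haveI : IsProper (bcX (R' := R') X).hom := Ded.isProper_of_isArithSurface hX'
  -- exceptional curves lie over the closed point
  have hpt : ∀ {T : Type u} [CommRing T] [IsDomain T] [IsDiscreteValuationRing T] {W : Over (Spec (CommRingCat.of T))}
      [IsProper W.hom] {E : Scheme.{u}} (ι : E ⟶ W.left) [IsClosedImmersion ι], Models.IsExcCurve ι →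
      ∀ a, W.hom (ι a) = closedPoint T := by
    intro T _ _ _ W _ E ι _ hE a
    obtain ⟨P, hP, hP0, hs⟩ := Ded.exists_point_exc (IsDiscreteValuationRing.not_isField T) ι hE
    exact (hs a).trans (PrimeSpectrum.ext (IsLocalRing.eq_maximalIdeal (hP.isMaximal hP0)))
  constructor
  · refine fun h => Ded.relMin_of_no_exc hX' fun _ E ι' hι' hE => ?_
    haveI := hι'
    have hF := hpt ι' hE
    haveI := Ded.isIntegral_exc hE
    obtain ⟨j, hj⟩ := exists_fibre_iso (R' := R') X hm hs
    haveI : IsClosedImmersion j := MorphismProperty.of_isPullback hj.flip inferInstance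
    have hsub : Set.range ι' ⊆ Set.range j := by
      rw [← hj.isoPullback_hom_fst, Scheme.Hom.comp_base, TopCat.coe_comp, Set.range_comp,
        Set.range_eq_univ.2 hj.isoPullback.hom.surjective, Set.image_univ, Scheme.Pullback.range_fst]
      rintro _ ⟨a, rfl⟩
      show p (ι' a) ∈ Set.range (pullback.fst X.hom jk)
      rw [Scheme.Pullback.range_fst]
      refine Set.mem_preimage.2 ?_
      rw [← Scheme.Hom.comp_apply p, show p ≫ X.hom = (bcX (R' := R') X).hom ≫ _ from pullback.condition,
        Scheme.Hom.comp_apply]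
      erw [hF]
      rw [show (Spec.map (CommRingCat.ofHom (algebraMap R R'))) (closedPoint R') = closedPoint R from
        PrimeSpectrum.ext ((IsLocalRing.eq_maximalIdeal (inferInstance : (maximalIdeal R).IsMaximal)).symm.trans
          (Ideal.IsMaximal.eq_of_le inferInstance (Ideal.comap_ne_top _ (maximalIdeal.isMaximal R').ne_top)
            (Ideal.map_le_iff_le_comap.1 hm.le))).symm]
      exact hclR
    let ι₀ := IsClosedImmersion.lift j ι' (by
      rw [CanonDual.ker_eq_vanishingIdeal ι' (S := ⟨_, ι'.isClosedEmbedding.isClosed_range⟩) rfl]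
      exact (Scheme.IdealSheafData.le_support_iff_le_vanishingIdeal (Z := ⟨_, ι'.isClosedEmbedding.isClosed_range⟩)).1
        (hsub.trans j.range_subset_ker_support))
    have hι₀ : ι₀ ≫ j = ι' := IsClosedImmersion.lift_fac _ _ _
    haveI : IsClosedImmersion ι₀ := by
      haveI : IsClosedImmersion (ι₀ ≫ j) := hι₀.symm ▸ ‹IsClosedImmersion ι'›
      exact IsClosedImmersion.of_comp ι₀ j
    let ι := ι₀ ≫ pullback.fst X.hom jk
    haveI : IsClosedImmersion ι := inferInstance
    have hιp : ι' ≫ p = ι := by rw [← hι₀, Category.assoc, hj.w, Category.id_comp]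
    have h0 : IsPullback ι₀ (𝟙 E) (𝟙 _) ι₀ := IsPullback.of_vert_isIso ⟨by simp⟩
    have hpb : IsPullback ι' (𝟙 E) p ι := by
      rw [← hι₀]
      exact h0.paste_horiz hj
    have hker : ι.ker.comap p = ι'.ker := by
      conv_rhs => rw [← hpb.isoPullback_hom_fst, Scheme.Hom.ker_comp_of_isIso, Scheme.IdealSheafData.ker_fst_of_isClosedImmersion]
    obtain ⟨hI', k, _, ε, ⟨τ⟩⟩ := hE
    have hI : BlowUp.IsEffCartierIdeal ι.ker := isEffCartier_of_line ι ε fun a => by
      obtain ⟨c, hc⟩ : X.hom (ι a) ∈ Set.range jk :=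
        (Scheme.Pullback.range_fst X.hom jk).le ⟨ι₀ a, (Scheme.Hom.comp_apply ι₀ _ a).symm⟩
      rw [← hc]
      rw [Subsingleton.elim c (closedPoint (ResidueField R))]
      exact IsLocalRing.comap_closedPoint (residue R)
    refine Ded.no_exc_of_relMin hRf hX h ι ⟨hI, k, inferInstance, ε, ?_⟩
    obtain ⟨i⟩ : Nonempty ((Scheme.Modules.pullback (ε.hom ≫ ι)).obj (ClSub.idealMod ι.ker) ≅
        (Scheme.Modules.pullback (ε.hom ≫ ι')).obj (ClSub.idealMod ι'.ker)) := cl_eq_iff.1 (by
      show PicF.pullCl _ (PicF.cl (ClSub.idealMod ι.ker)) = PicF.pullCl _ (PicF.cl (ClSub.idealMod ι'.ker))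
      rw [show ε.hom ≫ ι = (ε.hom ≫ ι') ≫ p by rw [Category.assoc, hιp], ← PicClLib.pullCl_comp (ε.hom ≫ ι') p]
      refine congrArg (PicF.pullCl (ε.hom ≫ ι')) ?_
      show PicF.cl ((Scheme.Modules.pullback p).obj (ClSub.idealMod ι.ker)) = _
      rw [Big.cl_idealMod_comap p ι.ker hI (hker ▸ hI'), hker])
    exact ⟨i ≪≫ τ⟩
  · refine fun h => Ded.relMin_of_no_exc hX fun _ E ι hι hE => ?_
    haveI := hι
    have hF := hpt ι hE
    haveI := Ded.isIntegral_exc hE
    let ι₀ := IsClosedImmersion.lift (pullback.fst X.hom jk) ι (by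
      rw [CanonDual.ker_eq_vanishingIdeal ι (S := ⟨_, ι.isClosedEmbedding.isClosed_range⟩) rfl]
      refine (Scheme.IdealSheafData.le_support_iff_le_vanishingIdeal (Z := ⟨_, ι.isClosedEmbedding.isClosed_range⟩)).1
        (Set.Subset.trans ?_ (pullback.fst X.hom jk).range_subset_ker_support)
      rintro _ ⟨a, rfl⟩
      rw [Scheme.Pullback.range_fst, Set.mem_preimage, hF]
      exact hclR)
    have hι₀ : ι₀ ≫ pullback.fst X.hom jk = ι := IsClosedImmersion.lift_fac _ _ _
    haveI : IsClosedImmersion ι₀ := by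
      haveI : IsClosedImmersion (ι₀ ≫ pullback.fst X.hom jk) := hι₀.symm ▸ ‹IsClosedImmersion ι›
      exact IsClosedImmersion.of_comp ι₀ (pullback.fst X.hom jk)
    obtain ⟨ι', hcl, hιp, hker⟩ := exists_lift_fibre X hm hs ι₀
    haveI := hcl
    rw [hι₀] at hker hιp
    obtain ⟨hI, k, _, ε, ⟨τ⟩⟩ := hE
    have hI' : BlowUp.IsEffCartierIdeal (ι.ker.comap p) := by
      haveI : Flat (Spec.map (CommRingCat.ofHom (algebraMap R R'))) := (HasRingHomProperty.Spec_iff (P := @Flat)).2 (by
        haveI : Module.Flat R R' := Module.Flat.of_linearEquiv e.toLinearEquiv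
        exact RingHom.flat_algebraMap_iff.2 inferInstance)
      exact BlowUpLib.isEffCartier_comap_flat p hI
    refine Ded.no_exc_of_relMin hR'f hX' h ι' ⟨hker ▸ hI', k, inferInstance, ε, ?_⟩
    obtain ⟨i⟩ : Nonempty ((Scheme.Modules.pullback (ε.hom ≫ ι')).obj (ClSub.idealMod ι'.ker) ≅
        (Scheme.Modules.pullback (ε.hom ≫ ι)).obj (ClSub.idealMod ι.ker)) := cl_eq_iff.1 (by
      show PicF.pullCl _ (PicF.cl (ClSub.idealMod ι'.ker)) = PicF.pullCl _ (PicF.cl (ClSub.idealMod ι.ker))
      rw [show ε.hom ≫ ι = (ε.hom ≫ ι') ≫ p by rw [Category.assoc, hιp], ← PicClLib.pullCl_comp (ε.hom ≫ ι') p]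
      refine congrArg (PicF.pullCl (ε.hom ≫ ι')) ?_
      show _ = PicF.cl ((Scheme.Modules.pullback p).obj (ClSub.idealMod ι.ker))
      rw [Big.cl_idealMod_comap p ι.ker hI hI', hker])
    exact ⟨i ≪≫ τ⟩

end Groth.Agent.ResolveX
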