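import Groth.Agent.ResolveX.CplStalk
import Groth.Agent.BlowExc.Regular
import Groth.Agent.SchTop.Closed
import Groth.Agent.FormalFib6.Cplt
import Groth.Agent.S0548

/-!
# Regularity is detected after completing the base
-/

set_option linter.style.haveILetI false
set_option backward.isDefEq.respectTransparency false
set_option backward.isDefEq.respectTransparency.types false

universe u

open CategoryTheory CategoryTheory.Limits AlgebraicGeometry IsLocalRing

namespace Groth.Agent.ResolveX

theorem regular_iff_of_levelwise {R S : Type u} [CommRing R] [CommRing S] [IsLocalRing R] [IsLocalRing S]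
    [IsNoetherianRing R] [IsNoetherianRing S] (θ : R →+* S) [IsLocalHom θ] (h : Levelwise θ) :
    IsRegularLocalRing S ↔ IsRegularLocalRing R := by
  letI := θ.toAlgebra
  have hle : ∀ n, maximalIdeal R ^ n ≤ (maximalIdeal S ^ n).comap (Algebra.ofId R S) := fun n => by
    rw [← Ideal.map_le_iff_le_comap, Ideal.map_pow]
    exact Ideal.pow_right_mono (IsLocalRing.map_maximalIdeal_le θ) n
  have hbij : ∀ n, Function.Bijective (Ideal.quotientMapₐ (maximalIdeal S ^ n) (Algebra.ofId R S) (hle n)) := fun n => by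
    refine ⟨(injective_iff_map_eq_zero _).2 fun y hy => ?_, fun y => ?_⟩
    · obtain ⟨a, rfl⟩ := Ideal.Quotient.mk_surjective y
      exact Ideal.Quotient.eq_zero_iff_mem.2 ((h n).2 a (Ideal.Quotient.eq_zero_iff_mem.1 hy))
    · obtain ⟨b, rfl⟩ := Ideal.Quotient.mk_surjective y
      obtain ⟨a, ha⟩ := (h n).1 b
      exact ⟨Ideal.Quotient.mk _ a, (Ideal.Quotient.eq.2 ha).symm⟩
  obtain ⟨e⟩ := Algebraize7.nonempty_completion_algEquiv (maximalIdeal R) (maximalIdeal S) (Algebra.ofId R S) hle hbij
  rw [S0548.result S, S0548.result R]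
  exact ⟨fun _ => IsRegularLocalRing.of_ringEquiv e.symm.toRingEquiv, fun _ => IsRegularLocalRing.of_ringEquiv e.toRingEquiv⟩

variable (A : Type u) [CommRing A] [IsLocalRing A] [IsNoetherianRing A] {X : Scheme.{u}}
  (f : X ⟶ Spec (CommRingCat.of A))

theorem over_closedPoint (y : Curv2.bcCpl A f)
    (hy : (Curv2.bcCplSnd A f) y = IsLocalRing.closedPoint (Curv2.cpl A)) :
    f ((Curv2.bcCplFst A f) y) = IsLocalRing.closedPoint A := by
  rw [← Scheme.Hom.comp_apply, show Curv2.bcCplFst A f ≫ f = Curv2.bcCplSnd A f ≫ _ from pullback.condition,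
    Scheme.Hom.comp_apply, hy]
  exact PrimeSpectrum.ext (IsLocalRing.maximalIdeal_comap (algebraMap A (Curv2.cpl A)))

theorem isRegular_stalk_iff [LocallyOfFiniteType f] (y : Curv2.bcCpl A f)
    (hy : (Curv2.bcCplSnd A f) y = IsLocalRing.closedPoint (Curv2.cpl A)) :
    IsRegularLocalRing ((Curv2.bcCpl A f).presheaf.stalk y) ↔
      IsRegularLocalRing (X.presheaf.stalk ((Curv2.bcCplFst A f) y)) := by
  haveI : IsNoetherianRing (Curv2.cpl A) := FormalFib6.isNoetherianRing_adicCompletion A _
  haveI : IsLocallyNoetherian X := LocallyOfFiniteType.isLocallyNoetherian f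
  haveI : IsLocallyNoetherian (Curv2.bcCpl A f) :=
    LocallyOfFiniteType.isLocallyNoetherian (Curv2.bcCplSnd A f)
  exact regular_iff_of_levelwise ((Curv2.bcCplFst A f).stalkMap y).hom
    (levelwise_bcCpl A (IsNoetherian.noetherian _) f y (over_closedPoint A f y hy))

theorem isRegular_iff [IsProper f] :
    (∀ x : X, IsRegularLocalRing (X.presheaf.stalk x)) ↔
      ∀ y : Curv2.bcCpl A f, IsRegularLocalRing ((Curv2.bcCpl A f).presheaf.stalk y) := by
  haveI : IsNoetherianRing (Curv2.cpl A) := FormalFib6.isNoetherianRing_adicCompletion A _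
  haveI : IsLocallyNoetherian X := LocallyOfFiniteType.isLocallyNoetherian f
  haveI : IsLocallyNoetherian (Curv2.bcCpl A f) :=
    LocallyOfFiniteType.isLocallyNoetherian (Curv2.bcCplSnd A f)
  constructor
  · intro h y
    obtain ⟨y', hsp, hy'⟩ := SchTop.exists_isClosed_specializes y
    have hc := (Curv2.bcCplSnd A f).isClosedMap _ hy'
    rw [Set.image_singleton] at hc
    have hy'' : (Curv2.bcCplSnd A f) y' = IsLocalRing.closedPoint (Curv2.cpl A) :=
      PrimeSpectrum.ext (IsLocalRing.eq_maximalIdeal ((PrimeSpectrum.isClosed_singleton_iff_isMaximal _).1 hc))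
    haveI := (isRegular_stalk_iff A f y' hy'').2 (h _)
    exact BlowExc.regular_of_specializes hsp
  · intro h x
    obtain ⟨x', hsp, hx'⟩ := SchTop.exists_isClosed_specializes x
    have hc := f.isClosedMap _ hx'
    rw [Set.image_singleton] at hc
    have hfx : f x' = IsLocalRing.closedPoint A :=
      PrimeSpectrum.ext (IsLocalRing.eq_maximalIdeal ((PrimeSpectrum.isClosed_singleton_iff_isMaximal _).1 hc))
    have hcl : (Spec.map (CommRingCat.ofHom (algebraMap A (Curv2.cpl A)))) (IsLocalRing.closedPoint (Curv2.cpl A)) =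
        IsLocalRing.closedPoint A :=
      PrimeSpectrum.ext (IsLocalRing.maximalIdeal_comap (algebraMap A (Curv2.cpl A)))
    obtain ⟨y, hy1, hy2⟩ := Scheme.Pullback.exists_preimage_pullback (f := f)
      (g := Spec.map (CommRingCat.ofHom (algebraMap A (Curv2.cpl A)))) x' (IsLocalRing.closedPoint (Curv2.cpl A))
      (hfx.trans hcl.symm)
    haveI : IsRegularLocalRing (X.presheaf.stalk x') := by
      have := (isRegular_stalk_iff A f y hy2).1 (h y)
      rwa [show (Curv2.bcCplFst A f) y = x' from hy1] at this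
    exact BlowExc.regular_of_specializes hsp

end Groth.Agent.ResolveX
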