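import Groth.Agent.Algebraize7.CompletionEquiv
import Groth.Prelude.Def_Curv2
import Mathlib.AlgebraicGeometry.PullbackCarrier
import Mathlib.RingTheory.AdicCompletion.LocalRing

/-!
# Local rings after base change to the completion of the base
-/

set_option linter.style.haveILetI false
set_option backward.isDefEq.respectTransparency false
set_option backward.isDefEq.respectTransparency.types false

universe u

open CategoryTheory CategoryTheory.Limits AlgebraicGeometry IsLocalRing
open scoped TensorProduct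

namespace Groth.Agent.ResolveX

/-- A local map inducing bijections modulo all powers of the maximal ideals. -/
def Levelwise {R S : Type u} [CommRing R] [CommRing S] [IsLocalRing R] [IsLocalRing S] (θ : R →+* S) : Prop :=
  ∀ n : ℕ, (∀ s, ∃ r, s - θ r ∈ maximalIdeal S ^ n) ∧
    ∀ r, θ r ∈ maximalIdeal S ^ n → r ∈ maximalIdeal R ^ n

theorem mem_pow_of_equiv {R R' : Type u} [CommRing R] [CommRing R'] [IsLocalRing R] [IsLocalRing R']
    (e : R ≃+* R') (n : ℕ) (x : R) : e x ∈ maximalIdeal R' ^ n ↔ x ∈ maximalIdeal R ^ n := by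
  have h : (maximalIdeal R).map (e : R →+* R') = maximalIdeal R' :=
    eq_maximalIdeal (Ideal.map_isMaximal_of_equiv e)
  rw [← h, ← Ideal.map_pow]
  refine ⟨fun hx => ?_, fun hx => Ideal.mem_map_of_mem _ hx⟩
  obtain ⟨y, hy, he⟩ := (Ideal.mem_map_iff_of_surjective _ e.surjective).1 hx
  rwa [← e.injective he]

theorem Levelwise.of_equiv {R S R' S' : Type u} [CommRing R] [CommRing S] [CommRing R'] [CommRing S']
    [IsLocalRing R] [IsLocalRing S] [IsLocalRing R'] [IsLocalRing S']
    {θ : R →+* S} {θ' : R' →+* S'} (h : Levelwise θ) (e : R ≃+* R') (d : S ≃+* S')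
    (hc : ∀ r, θ' (e r) = d (θ r)) : Levelwise θ' := fun n => by
  refine ⟨fun s => ?_, fun r hr => ?_⟩
  · obtain ⟨s, rfl⟩ := d.surjective s
    obtain ⟨r, hr⟩ := (h n).1 s
    exact ⟨e r, by rw [hc, ← map_sub, mem_pow_of_equiv]; exact hr⟩
  · obtain ⟨r, rfl⟩ := e.surjective r
    rw [hc, mem_pow_of_equiv] at hr
    exact (mem_pow_of_equiv e n r).2 ((h n).2 r hr)

section Alg

variable {R S : Type u} [CommRing R] [CommRing S]

/-- Localization preserves bijectivity modulo powers. -/
theorem levelwise_localRingHom (φ : R →+* S) (p : Ideal R) [p.IsPrime] (q : Ideal S) [q.IsPrime]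
    (hpq : p = q.comap φ) (J : Ideal R) (hJ : J ≤ p)
    (hs : ∀ n (s : S), ∃ r, s - φ r ∈ (J ^ n).map φ)
    (hi : ∀ n (r : R), φ r ∈ (J ^ n).map φ → r ∈ J ^ n) :
    Levelwise (Localization.localRingHom p q φ hpq) := by
  have hq : q = p.map φ := by
    refine le_antisymm (fun s hsq => ?_) (Ideal.map_le_iff_le_comap.2 hpq.le)
    obtain ⟨r, hr⟩ := hs 1 s
    rw [pow_one] at hr
    have hr' : s - φ r ∈ p.map φ := Ideal.map_mono hJ hr
    have hrp : r ∈ p := hpq ▸ (by
      have := sub_mem hsq ((Ideal.map_le_iff_le_comap.2 hpq.le) hr')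
      rwa [sub_sub_cancel] at this : φ r ∈ q)
    have := add_mem hr' (Ideal.mem_map_of_mem φ hrp)
    rwa [sub_add_cancel] at this
  intro n
  have hJn : (J ^ n).map φ ≤ (p ^ n).map φ := Ideal.map_mono (Ideal.pow_right_mono hJ n)
  have hm : maximalIdeal (Localization.AtPrime q) ^ n =
      ((p ^ n).map φ).map (algebraMap S (Localization.AtPrime q)) := by
    rw [← Localization.AtPrime.map_eq_maximalIdeal, ← Ideal.map_pow]
    congr 1
    rw [hq, Ideal.map_pow]
  refine ⟨fun z => ?_, fun z hz => ?_⟩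
  · obtain ⟨s, t, rfl⟩ := IsLocalization.exists_mk'_eq q.primeCompl z
    obtain ⟨r, hr⟩ := hs n s
    obtain ⟨v, hv⟩ := hs n t.1
    rcases Nat.eq_zero_or_pos n with rfl | hn
    · exact ⟨0, by rw [pow_zero, Ideal.one_eq_top]; trivial⟩
    have hvp : v ∉ p := fun hvp => t.2 (by
      have h1 : (p ^ n).map φ ≤ q := hq ▸ Ideal.map_mono (Ideal.pow_le_self hn.ne')
      have := add_mem (h1 (hJn hv)) (show φ v ∈ q from hpq.le hvp)
      rwa [sub_add_cancel] at this)
    refine ⟨IsLocalization.mk' _ r (⟨v, hvp⟩ : p.primeCompl), ?_⟩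
    rw [Localization.localRingHom_mk', hm]
    let w : q.primeCompl := ⟨φ v, fun h => hvp (hpq ▸ h)⟩
    have hu := IsLocalization.map_units (Localization.AtPrime q) (t * w)
    rw [← Ideal.mul_unit_mem_iff_mem _ hu]
    have e : (IsLocalization.mk' (Localization.AtPrime q) s t - IsLocalization.mk' _ (φ r) w) *
        algebraMap S (Localization.AtPrime q) ((t * w : q.primeCompl) : S) =
        algebraMap S _ (s * φ v - φ r * t.1) := by
      rw [sub_mul, Submonoid.coe_mul, map_mul, map_sub, map_mul, map_mul, ← mul_assoc,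
        IsLocalization.mk'_spec, mul_left_comm (IsLocalization.mk' _ (φ r) w), IsLocalization.mk'_spec]
      ring
    refine e ▸ Ideal.mem_map_of_mem _ ?_
    have : s * φ v - φ r * t.1 = (s - φ r) * φ v - φ r * (t.1 - φ v) := by ring
    rw [this]
    exact sub_mem (Ideal.mul_mem_right _ _ (hJn hr)) (Ideal.mul_mem_left _ _ (hJn hv))
  · obtain ⟨r, u, rfl⟩ := IsLocalization.exists_mk'_eq p.primeCompl z
    rw [Localization.localRingHom_mk', hm, IsLocalization.mk'_mem_map_algebraMap_iff] at hz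
    obtain ⟨t, ht, htr⟩ := hz
    rw [← Localization.AtPrime.map_eq_maximalIdeal, ← Ideal.map_pow, IsLocalization.mk'_mem_map_algebraMap_iff]
    rcases Nat.eq_zero_or_pos n with rfl | hn
    · exact ⟨1, one_mem _, by simp⟩
    obtain ⟨v, hv⟩ := hs n t
    have hvp : v ∉ p := fun hvp => ht (by
      have h1 : (p ^ n).map φ ≤ q := hq ▸ Ideal.map_mono (Ideal.pow_le_self hn.ne')
      have := add_mem (h1 (hJn hv)) (show φ v ∈ q from hpq.le hvp)
      rwa [sub_add_cancel] at this)
    refine ⟨v, hvp, ?_⟩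
    have h5 : φ (v * r) ∈ (p ^ n).map φ := by
      have := sub_mem htr (Ideal.mul_mem_right (φ r) _ (hJn hv))
      rw [← sub_mul, sub_sub_cancel, ← map_mul] at this
      exact this
    have key : ∀ x ∈ (p ^ n).map φ, ∃ a ∈ p ^ n, x - φ a ∈ (J ^ n).map φ := by
      intro x hx
      induction hx using Submodule.span_induction with
      | mem x hx => obtain ⟨a, ha, rfl⟩ := hx; exact ⟨a, ha, by rw [sub_self]; exact zero_mem _⟩
      | zero => exact ⟨0, zero_mem _, by rw [map_zero, sub_zero]; exact zero_mem _⟩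
      | add x y _ _ hx hy =>
        obtain ⟨a, ha, hx⟩ := hx; obtain ⟨b, hb, hy⟩ := hy
        refine ⟨a + b, add_mem ha hb, ?_⟩
        rw [map_add, add_sub_add_comm]
        exact add_mem hx hy
      | smul c x _ hx =>
        obtain ⟨a, ha, hx⟩ := hx
        obtain ⟨c', hc⟩ := hs n c
        refine ⟨c' * a, Ideal.mul_mem_left _ _ ha, ?_⟩
        rw [smul_eq_mul, map_mul, show c * x - φ c' * φ a = (c - φ c') * x + φ c' * (x - φ a) by ring]
        exact add_mem (Ideal.mul_mem_right _ _ hc) (Ideal.mul_mem_left _ _ hx)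
    obtain ⟨a, ha, h6⟩ := key _ h5
    rw [← map_sub] at h6
    have := add_mem (Ideal.pow_right_mono hJ n (hi n _ h6)) ha
    rwa [sub_add_cancel] at this

variable (A : Type u) [CommRing A] [IsLocalRing A] [Algebra A R]

/-- A tensor product with the completion agrees modulo powers. -/
theorem tensor_cpl_levels (hfg : (maximalIdeal A).FG) :
    (∀ n (s : R ⊗[A] Curv2.cpl A), ∃ r : R, s - r ⊗ₜ 1 ∈
      (((maximalIdeal A).map (algebraMap A R)) ^ n).map (Algebra.TensorProduct.includeLeftRingHom : R →+* R ⊗[A] Curv2.cpl A)) ∧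
    ∀ n (r : R), r ⊗ₜ[A] (1 : Curv2.cpl A) ∈
      (((maximalIdeal A).map (algebraMap A R)) ^ n).map (Algebra.TensorProduct.includeLeftRingHom : R →+* R ⊗[A] Curv2.cpl A) →
        r ∈ ((maximalIdeal A).map (algebraMap A R)) ^ n := by
  set ι := (Algebra.TensorProduct.includeLeftRingHom : R →+* R ⊗[A] Curv2.cpl A) with hι
  refine ⟨fun n s => ?_, fun n r hr => ?_⟩
  · induction s using TensorProduct.induction_on with
    | zero => exact ⟨0, by rw [TensorProduct.zero_tmul, sub_zero]; exact zero_mem _⟩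
    | add x y hx hy =>
      obtain ⟨a, ha⟩ := hx; obtain ⟨b, hb⟩ := hy
      refine ⟨a + b, ?_⟩
      rw [TensorProduct.add_tmul, add_sub_add_comm]
      exact add_mem ha hb
    | tmul r a =>
      obtain ⟨c, hc⟩ := Ideal.Quotient.mk_surjective (AdicCompletion.evalₐ (maximalIdeal A) n a)
      have hmem : a - algebraMap A _ c ∈ (maximalIdeal A ^ n).map (algebraMap A (Curv2.cpl A)) := by
        have h0 : AdicCompletion.evalₐ (maximalIdeal A) n (a - algebraMap A _ c) = 0 := by
          rw [map_sub, AlgHom.commutes, ← hc]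
          exact sub_self _
        have h1 : (a - algebraMap A _ c) ∈ (AdicCompletion.eval (maximalIdeal A) A n).ker := by
          rw [LinearMap.mem_ker]
          obtain ⟨b, hb⟩ := AdicCompletion.mk_surjective (maximalIdeal A) A (a - algebraMap A _ c)
          rw [← hb, AdicCompletion.evalₐ_mk, Ideal.Quotient.eq_zero_iff_mem] at h0
          rw [← hb]
          show (Submodule.mkQ _ (b.1 n)) = 0
          rw [Submodule.mkQ_apply, Submodule.Quotient.mk_eq_zero, smul_eq_mul, Ideal.mul_top]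
          exact h0
        rw [← AdicCompletion.pow_smul_top_eq_ker_eval hfg, Ideal.smul_top_eq_map] at h1
        exact h1
      refine ⟨r * algebraMap A R c, ?_⟩
      have hle : (maximalIdeal A ^ n).map (algebraMap A (R ⊗[A] Curv2.cpl A)) ≤
          (((maximalIdeal A).map (algebraMap A R)) ^ n).map ι := by
        rw [← Ideal.map_pow, Ideal.map_map]
        exact le_of_eq (congrArg (fun g => Ideal.map g (maximalIdeal A ^ n)) (RingHom.ext fun x => rfl))
      refine hle ?_
      have hin : (1 : R) ⊗ₜ[A] (a - algebraMap A (Curv2.cpl A) c) ∈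
          (maximalIdeal A ^ n).map (algebraMap A (R ⊗[A] Curv2.cpl A)) := by
        have := Ideal.mem_map_of_mem (Algebra.TensorProduct.includeRight : Curv2.cpl A →ₐ[A] R ⊗[A] Curv2.cpl A).toRingHom hmem
        rw [Ideal.map_map, AlgHom.toRingHom_eq_coe, AlgHom.comp_algebraMap] at this
        exact this
      have := Ideal.mul_mem_left _ (r ⊗ₜ[A] (1 : Curv2.cpl A)) hin
      rw [Algebra.TensorProduct.tmul_mul_tmul, mul_one, one_mul, TensorProduct.tmul_sub,
        Algebra.algebraMap_eq_smul_one, ← TensorProduct.smul_tmul, Algebra.smul_def,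
        Algebra.commutes] at this
      exact this
  · let J := ((maximalIdeal A).map (algebraMap A R)) ^ n
    let g : Curv2.cpl A →ₐ[A] R ⧸ J :=
      (Ideal.Quotient.liftₐ (maximalIdeal A ^ n) (Algebra.ofId A (R ⧸ J)) fun x hx => by
        show algebraMap A (R ⧸ J) x = 0
        rw [IsScalarTower.algebraMap_apply A R (R ⧸ J)]
        exact Ideal.Quotient.eq_zero_iff_mem.2 ((Ideal.map_pow (algebraMap A R) _ n).le (Ideal.mem_map_of_mem _ hx))).comp
        (AdicCompletion.evalₐ (maximalIdeal A) n)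
    let ρ : R ⊗[A] Curv2.cpl A →ₐ[A] R ⧸ J :=
      Algebra.TensorProduct.lift (Ideal.Quotient.mkₐ A J) g fun _ _ => mul_comm _ _
    have h1 : ρ.toRingHom.comp ι = Ideal.Quotient.mk J := RingHom.ext fun x => by
      show ρ (x ⊗ₜ 1) = _
      rw [Algebra.TensorProduct.lift_tmul, map_one, mul_one]
      rfl
    have := Ideal.mem_map_of_mem ρ.toRingHom hr
    rw [Ideal.map_map, h1, Ideal.map_quotient_self, Ideal.mem_bot] at this
    rw [← Ideal.Quotient.eq_zero_iff_mem, ← RingHom.congr_fun h1 r]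
    exact this

end Alg

/-- Transport along isomorphisms in the category of rings. -/
theorem Levelwise.of_iso {R S R' S' : CommRingCat.{u}} [IsLocalRing R] [IsLocalRing S] [IsLocalRing R'] [IsLocalRing S']
    {θ : R ⟶ S} {θ' : R' ⟶ S'} (h : Levelwise θ.hom) (e : R ≅ R') (d : S ≅ S') (w : e.hom ≫ θ' = θ ≫ d.hom) :
    Levelwise θ'.hom :=
  h.of_equiv e.commRingCatIsoToRingEquiv d.commRingCatIsoToRingEquiv fun r => ConcreteCategory.congr_hom w r

theorem levelwise_stalkMap_Spec {R S : CommRingCat.{u}} (φ : R ⟶ S) (z : PrimeSpectrum S)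
    (hL : Levelwise (Localization.localRingHom (z.comap φ.hom).asIdeal z.asIdeal φ.hom rfl)) :
    Levelwise ((Spec.map φ).stalkMap z).hom := by
  have w := Scheme.localRingHom_comp_stalkIso φ z
  exact Levelwise.of_iso (θ := CommRingCat.ofHom (Localization.localRingHom (z.comap φ.hom).asIdeal z.asIdeal φ.hom rfl))
    (θ' := (Spec.map φ).stalkMap z) hL (Spec.stalkIso R (z.comap φ.hom)).symm (Spec.stalkIso S z).symm
    ((Iso.inv_comp_eq _).2 (by rw [← w]; simp))

set_option maxHeartbeats 800000 in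
/-- Local rings at points over the closed point are unchanged modulo powers by completing the base. -/
theorem levelwise_bcCpl (A : Type u) [CommRing A] [IsLocalRing A] (hfg : (maximalIdeal A).FG)
    {X : Scheme.{u}} (f : X ⟶ Spec (CommRingCat.of A)) (q : Curv2.bcCpl A f)
    (hq : f ((Curv2.bcCplFst A f) q) = IsLocalRing.closedPoint A) :
    Levelwise ((Curv2.bcCplFst A f).stalkMap q).hom := by
  obtain ⟨_, ⟨U, hU, rfl⟩, hxU, -⟩ := X.isBasis_affineOpens.exists_subset_of_mem_open
    (Set.mem_univ ((Curv2.bcCplFst A f) q)) isOpen_univ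
  obtain ⟨α, hα⟩ := Spec.map_surjective (hU.fromSpec ≫ f)
  letI : Algebra A Γ(X, U) := α.hom.toAlgebra
  let g := Spec.map (CommRingCat.ofHom (algebraMap A (Curv2.cpl A)))
  let j₀ : pullback (Spec.map (CommRingCat.ofHom (algebraMap A Γ(X, U)))) g ⟶ Curv2.bcCpl A f :=
    pullback.map _ _ _ _ hU.fromSpec (𝟙 _) (𝟙 _) (by rw [Category.comp_id]; exact hα) (by rw [Category.comp_id, Category.id_comp])
  let j := (pullbackSpecIso A Γ(X, U) (Curv2.cpl A)).inv ≫ j₀
  obtain ⟨z, rfl⟩ : ∃ z, j z = q := by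
    have : q ∈ Set.range j₀ := by
      rw [show Set.range j₀ = _ from Scheme.Pullback.range_map ..]
      refine ⟨?_, ?_⟩
      · exact (IsAffineOpen.range_fromSpec hU).ge hxU
      · exact ⟨_, rfl⟩
    obtain ⟨w, hw⟩ := this
    exact ⟨(pullbackSpecIso A Γ(X, U) (Curv2.cpl A)).hom w, by
      rw [← Scheme.Hom.comp_apply, Iso.hom_inv_id_assoc]; exact hw⟩
  let φ : Γ(X, U) →+* Γ(X, U) ⊗[A] Curv2.cpl A := Algebra.TensorProduct.includeLeftRingHom
  let φ' : CommRingCat.of Γ(X, U) ⟶ CommRingCat.of (Γ(X, U) ⊗[A] Curv2.cpl A) := CommRingCat.ofHom φ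
  haveI : IsOpenImmersion hU.fromSpec := IsAffineOpen.isOpenImmersion_fromSpec hU
  haveI : IsOpenImmersion j₀ := by
    dsimp only [j₀]; infer_instance
  have hj : j ≫ Curv2.bcCplFst A f = Spec.map φ' ≫ hU.fromSpec := by
    show ((pullbackSpecIso A Γ(X, U) (Curv2.cpl A)).inv ≫ j₀) ≫ pullback.fst _ _ = _
    rw [Category.assoc, pullback.lift_fst, pullbackSpecIso_inv_fst_assoc]
  obtain ⟨hs, hi⟩ := tensor_cpl_levels (R := Γ(X, U)) A hfg
  have hzm : (maximalIdeal A).map (algebraMap A Γ(X, U)) ≤ z.asIdeal.comap φ := by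
    have h1 : (Spec.map φ' ≫ hU.fromSpec) ≫ f = Spec.map (α ≫ φ') := by
      rw [Category.assoc, ← hα, ← Spec.map_comp]
    have h2 : Spec.map (α ≫ φ') z = IsLocalRing.closedPoint A := by
      rw [← h1, ← hj]
      exact hq
    rw [Ideal.map_le_iff_le_comap, Ideal.comap_comap]
    exact (congrArg PrimeSpectrum.asIdeal h2).ge
  have hL := levelwise_localRingHom φ (z.asIdeal.comap φ) z.asIdeal rfl _ hzm hs hi
  have hS : Levelwise ((Spec.map φ').stalkMap z).hom := levelwise_stalkMap_Spec φ' z hL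
  have hS' : Levelwise ((Spec.map φ' ≫ hU.fromSpec).stalkMap z).hom := by
    refine Levelwise.of_iso (θ := (Spec.map φ').stalkMap z) hS
      (asIso (hU.fromSpec.stalkMap (Spec.map φ' z))).symm (Iso.refl _) ?_
    rw [Scheme.Hom.stalkMap_comp]
    simp
  have e := Scheme.Hom.stalkMap_congr_hom _ _ hj z
  refine Levelwise.of_iso (θ := (Spec.map φ' ≫ hU.fromSpec).stalkMap z) hS'
    (X.presheaf.stalkCongr (.of_eq congr($(hj.symm) z))) (asIso (j.stalkMap z)).symm ?_
  rw [← cancel_mono (j.stalkMap z)]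
  simp only [Category.assoc, Iso.symm_hom, asIso_inv, IsIso.inv_hom_id, Category.comp_id]
  rw [← Scheme.Hom.stalkMap_comp, e]
  simp

end Groth.Agent.ResolveX
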