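import Groth.Agent.ResolveX.DominateSeq
import Groth.Agent.ArInt.Contract

/-!
# Rational maps from regular surfaces to proper schemes extend after point blow-ups
-/

set_option autoImplicit false
set_option linter.style.haveILetI false
set_option linter.unusedSectionVars false
set_option backward.isDefEq.respectTransparency false
set_option backward.isDefEq.respectTransparency.types false
set_option maxHeartbeats 1000000

universe u

open CategoryTheory CategoryTheory.Limits AlgebraicGeometry TopologicalSpace IsLocalRing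

attribute [local instance 2000] CategoryTheory.CategoryStruct.toQuiver

noncomputable section

namespace Groth.Agent.ResolveX

open Groth.Agent

/-- A rational map to a proper scheme becomes a morphism after blowing up points. -/
theorem exists_extend {S X Z : Scheme.{u}} [IsIntegral X] [IsNoetherian X]
    (hX : ∀ x : X, IsRegularLocalRing (X.presheaf.stalk x)) (hd : topologicalKrullDim X ≤ 2)
    (p : X ⟶ S) (q : Z ⟶ S) [IsProper q] (U : X.Opens) (hU : (U : Set X).Nonempty)
    (φ : (U : Scheme.{u}) ⟶ Z) (hφ : φ ≫ q = U.ι ≫ p) :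
    ∃ (X' : Scheme.{u}) (g : X' ⟶ X) (h : X' ⟶ Z), Models.IsContractionSeq g ∧ h ≫ q = g ≫ p ∧
      (g ⁻¹ᵁ U).ι ≫ h = (g ∣_ U) ≫ φ := by
  let P := pullback p q
  let γ : (U : Scheme.{u}) ⟶ P := pullback.lift U.ι φ hφ.symm
  haveI : IsProper (pullback.fst p q) := MorphismProperty.pullback_fst p q ‹_›
  haveI : QuasiCompact γ := by
    haveI : QuasiCompact (γ ≫ pullback.fst p q) := by rw [pullback.lift_fst]; infer_instance
    exact QuasiCompact.of_comp γ (pullback.fst p q)
  haveI : Nonempty (U : Scheme.{u}) := let ⟨u, hu⟩ := hU; ⟨⟨u, hu⟩⟩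
  haveI : IsIntegral (U : Scheme.{u}) := isIntegral_of_isOpenImmersion U.ι
  let Y := γ.image
  haveI : IsReduced Y := ArInt.isReduced_image γ
  haveI : IrreducibleSpace Y := by
    have hd := γ.toImage.denseRange
    have h1 : IsPreirreducible (Set.range γ.toImage) := by
      rw [← Set.image_univ]
      exact (IrreducibleSpace.isIrreducible_univ (U : Scheme.{u})).isPreirreducible.image _ γ.toImage.continuous.continuousOn
    have h2 : IsPreirreducible (Set.univ : Set Y) := hd.closure_range ▸ h1.closure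
    exact { toPreirreducibleSpace := ⟨h2⟩, toNonempty := ⟨γ.toImage (Classical.arbitrary _)⟩ }
  haveI : IsIntegral Y := isIntegral_of_irreducibleSpace_of_isReduced Y
  let π : Y ⟶ X := γ.imageι ≫ pullback.fst p q
  haveI : IsProper π := inferInstanceAs (IsProper (γ.imageι ≫ pullback.fst p q))
  have hγπ : γ.toImage ≫ π = U.ι := by
    show γ.toImage ≫ γ.imageι ≫ pullback.fst p q = U.ι
    rw [Scheme.Hom.toImage_imageι_assoc, pullback.lift_fst]
  have hrange : Set.range γ.toImage ⊆ ((π ⁻¹ᵁ U : Y.Opens) : Set Y) := by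
    rintro _ ⟨u, rfl⟩
    show (γ.toImage ≫ π) u ∈ U
    rw [hγπ]
    exact u.2
  let k : (U : Scheme.{u}) ⟶ (π ⁻¹ᵁ U : Y.Opens) :=
    IsOpenImmersion.lift (π ⁻¹ᵁ U).ι γ.toImage (by rwa [Scheme.Opens.range_ι])
  have hk : k ≫ (π ⁻¹ᵁ U).ι = γ.toImage := IsOpenImmersion.lift_fac _ _ _
  have hsec : k ≫ (π ∣_ U) = 𝟙 _ := by
    rw [← cancel_mono U.ι, Category.assoc, morphismRestrict_ι, ← Category.assoc, hk, hγπ, Category.id_comp]
  haveI : IsSeparated (π ∣_ U) :=
    IsZariskiLocalAtTarget.restrict (P := @IsSeparated) (f := π) inferInstance U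
  haveI : IsClosedImmersion k := by
    haveI : IsClosedImmersion (k ≫ (π ∣_ U)) := by rw [hsec]; infer_instance
    exact IsClosedImmersion.of_comp k (π ∣_ U)
  haveI : Surjective k := ⟨by
    rw [← Set.range_eq_univ, ← k.isClosedEmbedding.isClosed_range.closure_eq, ← dense_iff_closure_eq, dense_iff_inter_open]
    intro O hO ⟨o, ho⟩
    obtain ⟨u, o', ho', hu⟩ := γ.toImage.denseRange.exists_mem_open
      ((π ⁻¹ᵁ U).ι.isOpenEmbedding.isOpenMap O hO) ⟨_, o, ho, rfl⟩
    refine ⟨o', ho', u, (π ⁻¹ᵁ U).ι.isOpenEmbedding.injective ?_⟩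
    rw [← Scheme.Hom.comp_apply, hk, hu]⟩
  haveI : IsReduced ((π ⁻¹ᵁ U : Y.Opens) : Scheme.{u}) := isReduced_of_isOpenImmersion (π ⁻¹ᵁ U).ι
  haveI := isIso_of_isClosedImmersion_of_surjective k
  haveI : IsIso (π ∣_ U) := by
    rw [show π ∣_ U = inv k by rw [← cancel_epi k, hsec, IsIso.hom_inv_id]]
    infer_instance
  obtain ⟨X', g, h, hg, hh⟩ := exists_dominate hX hd π U hU inferInstance
  refine ⟨X', g, h ≫ γ.imageι ≫ pullback.snd p q, hg, ?_, ?_⟩
  · rw [Category.assoc, Category.assoc, ← pullback.condition, ← Category.assoc γ.imageι,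
      show γ.imageι ≫ pullback.fst p q = π from rfl, ← Category.assoc, hh]
  · have hle : g ⁻¹ᵁ U ≤ h ⁻¹ᵁ (π ⁻¹ᵁ U) := by rw [← hh]; exact le_rfl
    let l := h.resLE (π ⁻¹ᵁ U) (g ⁻¹ᵁ U) hle
    have hl : l ≫ (π ∣_ U) = g ∣_ U := by
      rw [← cancel_mono U.ι, Category.assoc, morphismRestrict_ι, ← Category.assoc, Scheme.Hom.resLE_comp_ι,
        Category.assoc, hh, morphismRestrict_ι]
    have hlk : l = (g ∣_ U) ≫ k := by
      rw [← cancel_mono (π ∣_ U), hl, Category.assoc, hsec, Category.comp_id]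
    rw [← Category.assoc, ← Scheme.Hom.resLE_comp_ι h hle, show h.resLE (π ⁻¹ᵁ U) (g ⁻¹ᵁ U) hle = l from rfl, hlk,
      Category.assoc, Category.assoc, ← Category.assoc k, hk, Scheme.Hom.toImage_imageι_assoc, pullback.lift_snd]

end Groth.Agent.ResolveX
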