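import Groth.Agent.ResolveX.ModelsDVR
import Groth.Agent.ResolveX.ExtendRat
import Groth.Agent.ArInt.VertPic

/-!
# Minimal models of curves of positive genus
-/

set_option autoImplicit false
set_option linter.style.haveILetI false
set_option linter.unusedSectionVars false
set_option backward.isDefEq.respectTransparency false
set_option backward.isDefEq.respectTransparency.types false
set_option maxHeartbeats 1000000

universe u

open CategoryTheory CategoryTheory.Limits AlgebraicGeometry TopologicalSpace IsLocalRing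

attribute [local instance 2000] CategoryTheory.CategoryStruct.toQuiver

noncomputable section

namespace Groth.Agent.ResolveX

open Groth.Agent

variable {R : Type u} [CommRing R] [IsDomain R] [IsDiscreteValuationRing R]

local notation "jK" => Spec.map (CommRingCat.ofHom (algebraMap R (FractionRing R)))

/-- An exceptional curve along which a map is an isomorphism has an exceptional image. -/
theorem exists_image_exc {W Z : Over (Spec (CommRingCat.of R))} [ArInt.IsSurf W] [Flat W.hom] [ArInt.IsSurf Z] [Flat Z.hom]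
    (b : W ⟶ Z) [IsProper b.left] (E : ArSurf.VertComp R W) (hE : Models.IsExcCurve E.ι) (U : Z.left.Opens)
    [IsIso (b.left ∣_ U)] (hU : ∀ q, b.left (E.ι q) ∈ U) :
    ∃ E₁ : ArSurf.VertComp R Z, Set.range E₁.ι = b.left '' Set.range E.ι ∧ Models.IsExcCurve E₁.ι := by
  haveI := E.isClosedImmersion
  haveI := E.isIntegral
  have hinj : ∀ {p q : W.left}, b.left p ∈ U → b.left p = b.left q → p = q := fun {p q} hp h =>
    congrArg Subtype.val ((b.left ∣_ U).homeomorph.injective (a₁ := (⟨p, hp⟩ : ↥(b.left ⁻¹ᵁ U)))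
      (a₂ := ⟨q, show b.left q ∈ U from h ▸ hp⟩) (Subtype.ext ((morphismRestrict_base_coe b.left U ⟨p, hp⟩).trans
        (h.trans (morphismRestrict_base_coe b.left U ⟨q, show b.left q ∈ U from h ▸ hp⟩).symm))))
  obtain ⟨a, ha⟩ : ∃ a : E.curve.left, a ≠ genericPoint E.curve.left := by
    by_contra h
    push Not at h
    haveI : Subsingleton E.curve.left := ⟨fun a b => (h a).trans (h b).symm⟩
    have h0 : topologicalKrullDim E.curve.left ≤ 0 := topologicalKrullDim_zero_of_discreteTopology _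
    rw [E.dim_eq] at h0
    exact absurd h0 (by norm_num)
  let η := b.left (E.ι (genericPoint E.curve.left))
  have hηs : η ∈ Models.specialFibreSet R Z := by
    show Z.hom (b.left _) = _
    rw [← Scheme.Hom.comp_apply, Over.w b]
    exact ArInt.mem_specialFibre E _
  have hsp : η ⤳ b.left (E.ι a) := (((genericPoint_spec _).specializes (Set.mem_univ a)).map E.ι.continuous).map b.left.continuous
  obtain ⟨E₁, hE₁⟩ := ArInt.exists_vertComp_closure ArInt.IsSurf.dim_eq hηs
    (ArInt.lt_of_specializes_ne hsp fun h => ha (E.ι.isClosedEmbedding.injective (hinj (hU _) h).symm))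
  haveI := E₁.isClosedImmersion
  haveI := E₁.isIntegral
  have himg : closure ({η} : Set Z.left) = b.left '' Set.range E.ι := by
    rw [← ArInt.closure_gen E, ← b.left.isClosedMap.closure_image_eq_of_continuous b.left.continuous, Set.image_singleton]
  refine ⟨E₁, hE₁.trans himg, isExcCurve_of_iso_near b.left E.ι E₁.ι U ?_ ?_ (ArInt.isEffCartier_ker E₁) hE⟩
  · rw [hE₁.trans himg]
    rintro _ ⟨_, ⟨q, rfl⟩, rfl⟩
    exact hU q
  · rw [hE₁.trans himg]
    refine Set.Subset.antisymm (fun p hp => ⟨p, hp, rfl⟩) ?_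
    rintro p ⟨_, ⟨q, rfl⟩, hq⟩
    exact ⟨q, hinj (hU q) hq⟩

/-- A vertical curve is a component of the closed fibre. -/
theorem exists_component_eq {X : Over (Spec (CommRingCat.of R))} [ArInt.IsSurf X] [Flat X.hom] {n : ℕ}
    (Γ : Fin n → ArSurf.VertComp R X) (hΓ : Models.IsComponentList R X Γ) (E : ArSurf.VertComp R X) :
    ∃ j, Set.range E.ι.base = Set.range (Γ j).ι.base := by
  haveI := E.isClosedImmersion
  haveI := E.isIntegral
  obtain ⟨j, hj⟩ := Set.mem_iUnion.1 (ArInt.cover X Γ hΓ (ArInt.mem_specialFibre E (genericPoint E.curve.left)))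
  haveI := (Γ j).isClosedImmersion
  haveI := (Γ j).isIntegral
  obtain ⟨a, ha⟩ : ∃ a : E.curve.left, a ≠ genericPoint E.curve.left := by
    by_contra h
    push Not at h
    haveI : Subsingleton E.curve.left := ⟨fun a b => (h a).trans (h b).symm⟩
    have h0 : topologicalKrullDim E.curve.left ≤ 0 := topologicalKrullDim_zero_of_discreteTopology _
    rw [E.dim_eq] at h0
    exact absurd h0 (by norm_num)
  let γ := (Γ j).ι (genericPoint (Γ j).curve.left)
  have h1 : γ ⤳ E.ι (genericPoint E.curve.left) := by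
    obtain ⟨c, hc⟩ := hj
    exact hc ▸ ((genericPoint_spec _).specializes (Set.mem_univ c)).map (Γ j).ι.continuous
  have heq : γ = E.ι (genericPoint E.curve.left) := by
    by_contra hne
    refine ArInt.no_chain_four' ArInt.IsSurf.dim_eq
      (ArInt.lt_of_specializes_ne (((genericPoint_spec _).specializes (Set.mem_univ a)).map E.ι.continuous)
        fun e => ha (E.ι.isClosedEmbedding.injective e).symm)
      (ArInt.lt_of_specializes_ne h1 hne)
      (ArInt.lt_of_specializes_ne ((genericPoint_spec X.left).specializes (Set.mem_univ γ)) fun e => ?_)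
    refine ArInt.gen_ne_closedPoint (X := X) ?_
    rw [e]
    exact ArInt.mem_specialFibre (Γ j) _
  refine ⟨j, ?_⟩
  show Set.range E.ι = Set.range (Γ j).ι
  rw [← ArInt.closure_gen E, ← ArInt.closure_gen (Γ j), ← heq]

/-- Exceptionality only depends on the support. -/
theorem isExcCurve_of_range_eq {X : Over (Spec (CommRingCat.of R))} [ArInt.IsSurf X] (E E' : ArSurf.VertComp R X)
    (h : Set.range E.ι.base = Set.range E'.ι.base) (hE : Models.IsExcCurve E.ι) : Models.IsExcCurve E'.ι := by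
  haveI := E.isClosedImmersion
  haveI := E.isIntegral
  haveI := E'.isClosedImmersion
  haveI := E'.isIntegral
  exact isExcCurve_of_iso_near (𝟙 X.left) E.ι E'.ι ⊤ (by simp) h (ArInt.isEffCartier_ker E') hE

variable {C X : Scheme.{u}} {f : C ⟶ Spec (CommRingCat.of (FractionRing R))} {p : X ⟶ Spec (CommRingCat.of R)}

/-- Exceptional curves on a model above a minimal model of positive genus are contracted. -/
theorem exists_point_image_model (hC : Curve.IsSmoothProperCurve (FractionRing R) C f) (hH0 : IsIso f.appTop)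
    (hgen : 0 < Models.curveGenus (FractionRing R) C f) {W : Scheme.{u}} {h : W ⟶ X} (hh : Models.IsContractionSeq h) :
    ∀ (p : X ⟶ Spec (CommRingCat.of R)), Models.IsMinimalModel R X p C f →
      ∀ E : ArSurf.VertComp R (Over.mk (h ≫ p)), Models.IsExcCurve E.ι →
        ∃ x : X, Set.range ((E.ι ≫ h).base : E.curve.left → X) = {x} := by
  induction hh with
  | @iso W X e =>
    intro p hp E hE
    obtain ⟨hs, hflat, -⟩ := model_surface hC hH0 hp.1
    haveI := hs
    haveI : Flat (Over.mk p).hom := hflat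
    haveI := hflat
    obtain ⟨hWs, hWf⟩ := isSurf_of_seq (Models.IsContractionSeq.iso e) p
    haveI := hWs
    haveI : Flat (Over.mk (e.hom ≫ p)).hom := hWf
    let b : Over.mk (e.hom ≫ p) ⟶ Over.mk p := Over.homMk e.hom rfl
    haveI : IsProper b.left := inferInstanceAs (IsProper e.hom)
    haveI : IsIso b.left := inferInstanceAs (IsIso e.hom)
    obtain ⟨E₁, -, hE₁⟩ := exists_image_exc b E hE ⊤ fun q => trivial
    exact absurd hE₁ (hp.2 E₁)
  | @step W Z X E₀ ι b r hι hE₀ hb hr ih =>
    intro p hp E hE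
    haveI := hι
    obtain ⟨hs, hflat, -⟩ := model_surface hC hH0 hp.1
    haveI := hs
    haveI := hflat
    obtain ⟨g₀, hg₀⟩ : ∃ g₀, IsPullback g₀ f p jK := hp.1.1.2.2.2
    obtain ⟨hZs, hZf⟩ := isSurf_of_seq hr p
    have hseq := Models.IsContractionSeq.step ι b r hι hE₀ hb hr
    obtain ⟨hWs, hWf⟩ := isSurf_of_seq hseq p
    haveI := hZs; haveI := hWs
    haveI : Flat (Over.mk (r ≫ p)).hom := hZf
    haveI : Flat (Over.mk ((b ≫ r) ≫ p)).hom := hWf
    obtain ⟨-, hbp, y, hy, hry, -, -, hbl⟩ := hb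
    haveI := hbp
    haveI : IsProper (r ≫ p) := hZs.isProper
    obtain ⟨F, hFr, hFexc⟩ := exists_vertComp_exc (Z := Over.mk ((b ≫ r) ≫ p)) ι hE₀ fun q => by
      show ((b ≫ r) ≫ p) (ι q) = _
      rw [Category.assoc, Scheme.Hom.comp_apply, show b (ι q) = y from hry.subset ⟨q, rfl⟩]
      exact hom_closed_point (r ≫ p) hy
    haveI := E.isClosedImmersion
    haveI := E.isIntegral
    by_cases heq : Set.range E.ι = Set.range F.ι
    · refine ⟨r y, ?_⟩
      show Set.range ((r ∘ b) ∘ E.ι) = {r y}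
      rw [Set.range_comp, heq, hFr, Set.image_comp, ← Set.range_comp (g := b)]
      exact (congrArg (fun S => r '' S) (show Set.range (b ∘ ι) = {y} from hry)).trans Set.image_singleton
    by_cases hdis : Disjoint (Set.range E.ι) (Set.range F.ι)
    · have hfib : b ⁻¹' {y} = Set.range ι := by
        haveI := hι
        haveI : IsIntegral _ := hs.isIntegral
        haveI : IsProper p := hs.isProper
        haveI : IsLocallyNoetherian X := LocallyOfFiniteType.isLocallyNoetherian p
        haveI : CompactSpace X := QuasiCompact.compactSpace_of_compactSpace p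
        haveI : IsNoetherian X := ⟨⟩
        haveI : IsIntegral X := hs.isIntegral
        obtain ⟨hZi, hZn, hZr, -⟩ := contractionSeq_props hr hs.regular
        haveI := hZn; haveI := hZr y
        exact (range_eq_fibre ι y hy (dim_stalk_closedPoint (Y := Over.mk (r ≫ p)) hy (hom_closed_point (r ≫ p) hy))
          hbl hE₀ hry).symm
      haveI : IsIso (b ∣_ (⟨{y}ᶜ, hy.isOpen_compl⟩ : Z.Opens)) := BlowUpLib.isIso_restrict hbl _ fun z hz => by
        show z ∉ ((Scheme.IdealSheafData.vanishingIdeal ⟨{y}, hy⟩).support : Set Z)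
        rw [Scheme.IdealSheafData.coe_support_vanishingIdeal]; exact hz
      let b' : Over.mk ((b ≫ r) ≫ p) ⟶ Over.mk (r ≫ p) := Over.homMk b (Category.assoc b r p).symm
      haveI : IsProper b'.left := hbp
      haveI : IsIso (b'.left ∣_ (⟨{y}ᶜ, hy.isOpen_compl⟩ : Z.Opens)) := ‹IsIso (b ∣_ _)›
      obtain ⟨E₁, hE₁r, hE₁⟩ := exists_image_exc b' E hE ⟨{y}ᶜ, hy.isOpen_compl⟩ fun q (hq : b (E.ι q) = y) =>
        Set.disjoint_left.1 hdis ⟨q, rfl⟩ (hFr.ge (hfib.subset hq))
      obtain ⟨x, hx⟩ := ih p hp E₁ hE₁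
      refine ⟨x, ?_⟩
      rw [← hx]
      show Set.range (r ∘ b ∘ E.ι) = Set.range (r ∘ E₁.ι)
      rw [Set.range_comp r, Set.range_comp r, hE₁r, Set.range_comp b]
      rfl
    -- two exceptional curves meet
    exfalso
    obtain ⟨g', -, hg'⟩ := exists_lift_seq hseq p g₀ hg₀
    have hmodel := isModel_of_isSurf (p := (b ≫ r) ≫ p) hWf hg'
    obtain ⟨-, -, n, Γ, hΓ⟩ := model_surface hC hH0 hmodel
    obtain ⟨i, hi⟩ := exists_component_eq Γ hΓ E
    obtain ⟨j, hj⟩ := exists_component_eq Γ hΓ F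
    have hij : i ≠ j := fun h => heq (hi.trans (h ▸ hj.symm))
    obtain ⟨-, -, -, -, hg0⟩ := S3327.result R C W f ((b ≫ r) ≫ p) hC hH0 hmodel Γ hΓ i j hij
      (isExcCurve_of_range_eq E (Γ i) hi hE) (isExcCurve_of_range_eq F (Γ j) hj hFexc) (by
        intro hd
        exact hdis (hi ▸ hj ▸ hd))
    omega

/-- A morphism of models is birational. -/
theorem isIso_over_generic {W : Scheme.{u}} {q : W ⟶ Spec (CommRingCat.of R)} (h : W ⟶ X) (hw : h ≫ p = q)
    {gW : C ⟶ W} (hgW : IsPullback gW f q jK) {gX : C ⟶ X} (hgX : IsPullback gX f p jK) (hh : gW ≫ h = gX)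
    [IsOpenImmersion gX] : IsIso (h ∣_ gX.opensRange) := by
  have hsq : IsPullback gW (𝟙 C) h gX :=
    IsPullback.of_bot (by rw [Category.id_comp, hw]; exact hgW) (by rw [Category.id_comp, hh]) hgX
  have h1 : IsPullback (h ⁻¹ᵁ gX.opensRange).ι (h ∣_ gX.opensRange) h gX.opensRange.ι :=
    (isPullback_morphismRestrict h _).flip
  have h2 : IsPullback gW gX.isoOpensRange.hom h gX.opensRange.ι :=
    IsPullback.of_iso hsq (Iso.refl _) (Iso.refl _) gX.isoOpensRange (Iso.refl _) (by simp) (by simp) (by simp) (by simp)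
  rw [show h ∣_ gX.opensRange = (h1.isoIsPullback _ _ h2).hom ≫ gX.isoOpensRange.hom from
    (h1.isoIsPullback_hom_snd _ _ h2).symm]
  infer_instance

/-- A morphism of models to a minimal model exists unless an exceptional curve above it survives. -/
theorem exists_hom_or (hC : Curve.IsSmoothProperCurve (FractionRing R) C f) (hH0 : IsIso f.appTop)
    {Y : Scheme.{u}} {q : Y ⟶ Spec (CommRingCat.of R)}
    (hX : Models.IsMinimalModel R X p C f) (hY : Models.IsRegularProperModel R Y q C f)
    (gX : C ⟶ X) (hgX : IsPullback gX f p jK) (gY : C ⟶ Y) (hgY : IsPullback gY f q jK) (P : Prop)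
    (hP : ∀ {W : Scheme.{u}} {h : W ⟶ X}, Models.IsContractionSeq h →
      ∀ E : ArSurf.VertComp R (Over.mk (h ≫ p)), Models.IsExcCurve E.ι →
        (∃ x : X, Set.range ((E.ι ≫ h).base : E.curve.left → X) = {x}) ∨ P) :
    P ∨ ((∃! b : Y ⟶ X, b ≫ p = q ∧ gY ≫ b = gX) ∧
      ∀ b : Y ⟶ X, b ≫ p = q → gY ≫ b = gX → Models.IsContractionSeq b) := by
  obtain ⟨hXs, hXf, -⟩ := model_surface hC hH0 hX.1
  obtain ⟨hYs, hYf, -⟩ := model_surface hC hH0 hY
  haveI : IsIntegral C := hC.2.2.1
  haveI : IsIntegral X := hXs.isIntegral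
  haveI : IsIntegral Y := hYs.isIntegral
  haveI : IsProper p := hXs.isProper
  haveI : IsProper q := hYs.isProper
  haveI : IsLocallyNoetherian X := LocallyOfFiniteType.isLocallyNoetherian p
  haveI : IsNoetherian X := { toCompactSpace := QuasiCompact.compactSpace_of_compactSpace p }
  haveI : IsLocallyNoetherian Y := LocallyOfFiniteType.isLocallyNoetherian q
  haveI : IsNoetherian Y := { toCompactSpace := QuasiCompact.compactSpace_of_compactSpace q }
  haveI : IsOpenImmersion jK := ArInt.isOpenImmersion_genPt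
  haveI : IsOpenImmersion gX := MorphismProperty.of_isPullback hgX.flip ‹IsOpenImmersion jK›
  haveI : IsOpenImmersion gY := MorphismProperty.of_isPullback hgY.flip ‹IsOpenImmersion jK›
  have hUX : (gX.opensRange : Set X).Nonempty := ⟨_, genericPoint C, rfl⟩
  have hUY : (gY.opensRange : Set Y).Nonempty := ⟨_, genericPoint C, rfl⟩
  haveI : IsDominant gY := ⟨IsOpen.dense gY.opensRange.2 hUY⟩
  -- birational morphisms of surfaces are contraction sequences
  have hseq : ∀ (W : Scheme.{u}) (qW : W ⟶ Spec (CommRingCat.of R)) [ArInt.IsSurf (Over.mk qW)] (gW : C ⟶ W),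
      IsPullback gW f qW jK → ∀ h : W ⟶ X, h ≫ p = qW → gW ≫ h = gX → Models.IsContractionSeq h := by
    intro W qW hWs gW hgW h hw hh
    haveI : IsIntegral W := hWs.isIntegral
    haveI : IsProper qW := hWs.isProper
    haveI : IsLocallyNoetherian W := LocallyOfFiniteType.isLocallyNoetherian qW
    haveI : IsNoetherian W := { toCompactSpace := QuasiCompact.compactSpace_of_compactSpace qW }
    haveI : IsProper h := by
      haveI : IsProper (h ≫ p) := hw.symm ▸ inferInstance
      exact IsProper.of_comp h p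
    exact isContractionSeq (X := W) hWs.regular hWs.dim_eq.le _ h gX.opensRange hUX
      (isIso_over_generic h hw hgW hgX hh) hXs.regular rfl
  let φ := gY.isoOpensRange.inv ≫ gX
  obtain ⟨W, r, h, hr, hhp, hhU⟩ := exists_extend (S := Spec (CommRingCat.of R)) hYs.regular hYs.dim_eq.le q p
    gY.opensRange hUY φ (by
      simp only [φ, Category.assoc]
      rw [hgX.w, ← hgY.w, ← Category.assoc, Scheme.Hom.isoOpensRange_inv_comp])
  haveI := hYs; haveI := hYf
  obtain ⟨gW, hgWr, hgW⟩ := exists_lift_seq hr q gY hgY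
  have hgWh : gW ≫ h = gX := by
    have hsub : Set.range gW ⊆ Set.range (r ⁻¹ᵁ gY.opensRange).ι := by
      rw [Scheme.Opens.range_ι]
      rintro _ ⟨c, rfl⟩
      exact ⟨c, by rw [← hgWr]; rfl⟩
    let l := IsOpenImmersion.lift (r ⁻¹ᵁ gY.opensRange).ι gW hsub
    have hl : l ≫ (r ⁻¹ᵁ gY.opensRange).ι = gW := IsOpenImmersion.lift_fac _ _ _
    have hl2 : l ≫ (r ∣_ gY.opensRange) = gY.isoOpensRange.hom := by
      rw [← cancel_mono gY.opensRange.ι, Category.assoc, morphismRestrict_ι, ← Category.assoc, hl, hgWr,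
        Scheme.Hom.isoOpensRange_hom_ι]
    rw [← hl, Category.assoc, hhU, reassoc_of% hl2, Iso.hom_inv_id_assoc]
  haveI := (isSurf_of_seq hr q).1
  have hhs := hseq W (r ≫ q) gW hgW h hhp hgWh
  -- descend along the blow-ups
  have key : ∀ {W' Y' : Scheme.{u}} {r' : W' ⟶ Y'}, Models.IsContractionSeq r' →
      ∀ (q' : Y' ⟶ Spec (CommRingCat.of R)) [ArInt.IsSurf (Over.mk q')] [Flat q'] (g' : C ⟶ Y'),
        IsPullback g' f q' jK → ∀ h' : W' ⟶ X, h' ≫ p = r' ≫ q' → Models.IsContractionSeq h' →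
          (∃ gW', gW' ≫ r' = g' ∧ IsPullback gW' f (r' ≫ q') jK ∧ gW' ≫ h' = gX) →
          P ∨ ∃ ψ : Y' ⟶ X, r' ≫ ψ = h' := by
    intro W' Y' r' hr'
    induction hr' with
    | @iso W' Y' e => exact fun _ _ _ _ _ h' _ _ _ => Or.inr ⟨e.inv ≫ h', e.hom_inv_id_assoc h'⟩
    | @step W' Z Y' E₀ ι b r₁ hι hE₀ hb hr₁ ih =>
      intro q' hq' hq'f g' hg' h' hh' hs' hcompat
      haveI := hι
      obtain ⟨hZs, hZf⟩ := isSurf_of_seq hr₁ q'
      obtain ⟨hWs, hWf⟩ := isSurf_of_seq (Models.IsContractionSeq.step ι b r₁ hι hE₀ hb hr₁) q'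
      haveI := hZs; haveI := hWs
      obtain ⟨hZn, hbp, y, hy, hry, hreg, hdy, hbl⟩ := hb
      haveI := hbp; haveI := hZn; haveI := hreg
      haveI : IsProper (r₁ ≫ q') := hZs.isProper
      haveI : Flat (Over.mk (r₁ ≫ q')).hom := hZf
      obtain ⟨hWs', hWf'⟩ := isSurf_of_seq hs' p
      haveI := hWs'
      haveI : Flat (Over.mk (h' ≫ p)).hom := hWf'
      obtain ⟨F, hFr, hFexc⟩ := exists_vertComp_exc (Z := Over.mk (h' ≫ p)) ι hE₀ fun z => by
        show (h' ≫ p) (ι z) = _
        rw [hh', Category.assoc, Scheme.Hom.comp_apply, show b (ι z) = y from hry.subset ⟨z, rfl⟩]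
        exact hom_closed_point (r₁ ≫ q') hy
      rcases hP hs' F hFexc with ⟨x, hx⟩ | hp
      case inr => exact Or.inl hp
      have hx' : Set.range ((ι ≫ h').base : E₀ → X) = {x} := by
        rw [← hx]
        show Set.range (h' ∘ ι) = Set.range (h' ∘ F.ι)
        rw [Set.range_comp, Set.range_comp, hFr]
        rfl
      obtain ⟨ψ, hψ, -⟩ := exists_unique_factor_contraction ι y hy hdy hbl hE₀ hry h' x hx'
      have hψp : ψ ≫ p = r₁ ≫ q' := by
        obtain ⟨_, _, huniq⟩ := exists_unique_factor_contraction ι y hy hdy hbl hE₀ hry (h' ≫ p) (p x) (by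
          show Set.range (p ∘ (h' ∘ ι)) = {p x}
          rw [Set.range_comp, show Set.range (h' ∘ ι) = {x} from hx', Set.image_singleton])
        exact (huniq _ (by show b ≫ ψ ≫ p = _; rw [reassoc_of% hψ])).trans
          (huniq _ (by show b ≫ r₁ ≫ q' = _; rw [hh', Category.assoc])).symm
      obtain ⟨g₂, hg₂r, hg₂, hg₂h⟩ := hcompat
      have hg₁ : IsPullback (g₂ ≫ b) f (r₁ ≫ q') jK :=
        isPullback_descend b (by rw [← Category.assoc]; exact hg₂) y hy (BlowUpLib.isIso_restrict hbl _ fun z hz => by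
          show z ∉ ((Scheme.IdealSheafData.vanishingIdeal ⟨{y}, hy⟩).support : Set Z)
          rw [Scheme.IdealSheafData.coe_support_vanishingIdeal]; exact hz) (hom_closed_point _ hy)
      have hgψ : (g₂ ≫ b) ≫ ψ = gX := by rw [Category.assoc, hψ, hg₂h]
      rcases ih q' g' hg' ψ hψp (hseq Z (r₁ ≫ q') _ hg₁ ψ hψp hgψ)
        ⟨_, by rw [Category.assoc, hg₂r], hg₁, hgψ⟩ with hp | ⟨ψ', hψ'⟩
      · exact Or.inl hp
      · exact Or.inr ⟨ψ', by rw [Category.assoc, hψ', hψ]⟩
  rcases key hr q gY hgY h hhp hhs ⟨gW, hgWr, hgW, hgWh⟩ with hp | ⟨b, hb⟩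
  · exact Or.inl hp
  have hgb : gY ≫ b = gX := by rw [← hgWr, Category.assoc, hb, hgWh]
  have hbp : b ≫ p = q := ext_of_isDominant gY (by rw [reassoc_of% hgb, hgX.w, hgY.w])
  refine Or.inr ⟨⟨b, ⟨hbp, hgb⟩, fun b' hb' => ?_⟩, fun b' h1 h2 => hseq Y q gY hgY b' h1 h2⟩
  exact ext_of_isDominant_of_isSeparated p (hb'.1.trans hbp.symm) gY (hb'.2.trans hgb.symm)

/-- Morphisms of models to a minimal model of positive genus exist uniquely and are contractions. -/
theorem exists_unique_to_minimal (hC : Curve.IsSmoothProperCurve (FractionRing R) C f) (hH0 : IsIso f.appTop)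
    (hgen : 0 < Models.curveGenus (FractionRing R) C f) {Y : Scheme.{u}} {q : Y ⟶ Spec (CommRingCat.of R)}
    (hX : Models.IsMinimalModel R X p C f) (hY : Models.IsRegularProperModel R Y q C f)
    (gX : C ⟶ X) (hgX : IsPullback gX f p jK) (gY : C ⟶ Y) (hgY : IsPullback gY f q jK) :
    (∃! b : Y ⟶ X, b ≫ p = q ∧ gY ≫ b = gX) ∧
      ∀ b : Y ⟶ X, b ≫ p = q → gY ≫ b = gX → Models.IsContractionSeq b := by
  refine (exists_hom_or hC hH0 hX hY gX hgX gY hgY False ?_).resolve_left not_false
  intro W h hh E hE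
  exact Or.inl (exists_point_image_model hC hH0 hgen hh p hX E hE)

end Groth.Agent.ResolveX
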