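import Groth.Agent.ResolveX.GeomBranch
import Groth.Agent.ResolveX.DedekindRelMin
import Groth.Agent.ResolveX.ModelsMin

/-!
# Exceptional curves lie in finitely many fibres

In a fibre with pairwise disjoint components every component has self-intersection zero, and almost all fibres
of a surface over a Dedekind domain are such.
-/

set_option autoImplicit false
set_option linter.style.haveILetI false
set_option linter.unusedSectionVars false
set_option backward.isDefEq.respectTransparency false
set_option backward.isDefEq.respectTransparency.types false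
set_option maxHeartbeats 1000000

universe u

open CategoryTheory CategoryTheory.Limits AlgebraicGeometry TopologicalSpace IsLocalRing

attribute [local instance 2000] CategoryTheory.CategoryStruct.toQuiver

noncomputable section

namespace Groth.Agent.ResolveX.Ded

open Groth.Agent

/-- Two points of the fibre over `s` with a common specialisation in it have a common generalisation in it. -/
def MeetOver {X Y : Scheme.{u}} (f : X ⟶ Y) (s : Y) : Prop :=
  ∀ a b x : X, f a = s → f b = s → f x = s → a ⤳ x → b ⤳ x → ∃ c : X, f c = s ∧ c ⤳ a ∧ c ⤳ b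

section DVR

variable {R : Type u} [CommRing R] [IsDomain R] [IsDiscreteValuationRing R]
  {X : Over (Spec (CommRingCat.of R))} [ArInt.IsSurf X] [Flat X.hom]

/-- A point maximal in the closed fibre is not closed. -/
theorem exists_lt_of_maximal' {η : X.left} (hη : η ∈ Models.specialFibreSet R X)
    (hmax : ∀ θ ∈ Models.specialFibreSet R X, θ ⤳ η → θ = η) : ∃ w : X.left, w < η := by
  haveI : IsLocallyNoetherian X.left := LocallyOfFiniteType.isLocallyNoetherian X.hom
  by_contra h
  push Not at h
  have hcl : IsClosed ({η} : Set X.left) := by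
    refine closure_subset_iff_isClosed.1 fun w hw => ?_
    by_contra hne
    exact h w (ArInt.lt_of_specializes_ne (specializes_iff_mem_closure.2 hw) (Ne.symm hne))
  obtain ⟨θ, h1, h2⟩ := exists_between hcl hη
  have h3 : (2 : ℕ∞) ≤ Order.coheight η :=
    le_trans (by rw [show (2 : ℕ∞) = 1 + 1 from rfl]
                 exact add_le_add (le_trans le_add_self (Order.coheight_add_one_le h2)) le_rfl)
      (Order.coheight_add_one_le h1)
  exact absurd (h3.trans (ArInt.coheight_le_one hη hmax)) (by norm_num)

/-- A component of the closed fibre as a vertical curve. -/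
theorem exists_vertComp' {Z : Set X.left} (hZ : Z ∈ Models.fibreComponents R X) :
    ∃ Γ : ArSurf.VertComp R X, Set.range Γ.ι.base = Z := by
  obtain ⟨η, hη, hηF, hmax⟩ := ArInt.exists_gen_component X hZ
  let jk := Spec.map (CommRingCat.ofHom (IsLocalRing.residue R))
  haveI : IsClosedImmersion jk := IsClosedImmersion.spec_of_surjective _ IsLocalRing.residue_surjective
  obtain ⟨z, hz⟩ : η ∈ Set.range (pullback.fst X.hom jk) := by
    rw [Scheme.Pullback.range_fst]
    exact ⟨IsLocalRing.closedPoint _, (IsLocalRing.comap_closedPoint (IsLocalRing.residue R)).trans hηF.symm⟩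
  let V : Closeds ↥(pullback X.hom jk) := ⟨closure {z}, isClosed_closure⟩
  let C := (Scheme.IdealSheafData.vanishingIdeal V).subscheme
  haveI : IsReduced C := H23.RedSub.isReduced_vanishingIdeal V
  let j : C ⟶ pullback X.hom jk := (Scheme.IdealSheafData.vanishingIdeal V).subschemeι
  have hjr : Set.range j = closure {z} := by
    rw [show Set.range j = _ from Scheme.IdealSheafData.range_subschemeι _,
      Scheme.IdealSheafData.coe_support_vanishingIdeal]
    rfl
  obtain ⟨e, he⟩ : z ∈ Set.range j := hjr ▸ subset_closure rfl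
  haveI : IrreducibleSpace C := (irreducibleSpace_def _).2 (by
    have hu : closure ({e} : Set C) = Set.univ := by
      rw [j.isEmbedding.isInducing.closure_eq_preimage_closure_image, Set.image_singleton, he, ← hjr,
        Set.preimage_range]
    show IsIrreducible (Set.univ : Set C)
    rw [← hu]
    exact isIrreducible_singleton.closure)
  haveI : IsIntegral C := isIntegral_of_irreducibleSpace_of_isReduced C
  let ι : C ⟶ X.left := j ≫ pullback.fst X.hom jk
  haveI : IsClosedImmersion ι := inferInstance
  have hr : Set.range ι = Z := by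
    rw [show (ι : C → X.left) = pullback.fst X.hom jk ∘ j from rfl, Set.range_comp, hjr,
      ← (pullback.fst X.hom jk).isClosedEmbedding.closure_image_eq, Set.image_singleton, hz, hη]
  have hmono : ∀ {a b : C}, a < b → ι a < ι b := fun {a b} hab => by
    have hiff : ∀ x y : C, ι x ≤ ι y ↔ x ≤ y := fun x y => ι.isEmbedding.isInducing.specializes_iff
    exact lt_of_le_not_ge ((hiff _ _).2 hab.le) fun h => hab.not_ge ((hiff _ _).1 h)
  have hle : ∀ c : C, ι c ≤ η := fun c => by
    have h : ι c ∈ Z := hr ▸ ⟨c, rfl⟩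
    exact specializes_iff_mem_closure.2 (hη ▸ h)
  have hlt : η < genericPoint X.left :=
    ArInt.lt_of_specializes_ne ((genericPoint_spec X.left).specializes (Set.mem_univ η))
      fun h => ArInt.gen_ne_closedPoint X (by rw [h]; exact hηF)
  obtain ⟨w, hw⟩ := exists_lt_of_maximal' hηF hmax
  obtain ⟨c, hc⟩ : w ∈ Set.range ι := by rw [hr, ← hη]; exact specializes_iff_mem_closure.1 hw.le
  refine ⟨⟨Over.mk (j ≫ pullback.snd X.hom jk), ι, inferInstance, ‹_›, le_antisymm ?_ ?_, ?_⟩, hr⟩
  · exact ArInt.dim_le_one_of_no_chain fun a b d hab hbd =>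
      ArInt.no_chain_four (hmono hab) (hmono hbd) (lt_of_le_of_lt (hle d) hlt)
  · show 1 ≤ topologicalKrullDim C
    rw [show topologicalKrullDim C = Order.krullDim C from Order.krullDim_eq_of_orderIso (irreducibleSetEquivPoints (α := C))]
    obtain ⟨e', he'⟩ : η ∈ Set.range ι := by rw [hr, ← hη]; exact subset_closure rfl
    have hce : c < e' := by
      refine lt_of_le_not_ge (ι.isEmbedding.isInducing.specializes_iff.1 ?_) fun h => ?_
      · show ι e' ⤳ ι c
        rw [he', hc]; exact hw.le
      · have : ι e' ≤ ι c := h.map ι.continuous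
        rw [he', hc] at this
        exact hw.not_ge this
    simpa using Order.LTSeries.length_le_krullDim ((RelSeries.singleton _ e').cons c hce)
  · show (j ≫ pullback.fst X.hom jk) ≫ X.hom = _
    rw [Category.assoc, pullback.condition, ← Category.assoc]
    rfl

/-- The components of the closed fibre form a list. -/
theorem exists_componentList' : ∃ (n : ℕ) (Γ : Fin n → ArSurf.VertComp R X), Models.IsComponentList R X Γ := by
  haveI : IsLocallyNoetherian X.left := LocallyOfFiniteType.isLocallyNoetherian X.hom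
  haveI : CompactSpace X.left := QuasiCompact.compactSpace_of_compactSpace X.hom
  haveI : IsNoetherian X.left := {}
  haveI := (ArInt.finite_fibreComponents X).fintype
  let e := (Fintype.equivFin (Models.fibreComponents R X)).symm
  choose Γ hΓ using fun Z : Models.fibreComponents R X => exists_vertComp' Z.2
  refine ⟨_, fun i => Γ (e i), fun i j h => e.injective (Subtype.ext ?_), ?_⟩
  · simpa only [hΓ] using h
  · refine Set.ext fun Z => ⟨?_, fun hZ => ⟨e.symm ⟨Z, hZ⟩, ?_⟩⟩
    · rintro ⟨i, rfl⟩; simp only [hΓ]; exact (e i).2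
    · simp only [e.apply_symm_apply, hΓ]

/-- A closed fibre with disjoint components contains no exceptional curve. -/
theorem not_exc_of_meetOver (hm : MeetOver X.hom (closedPoint R)) (E : ArSurf.VertComp R X) :
    ¬ Models.IsExcCurve E.ι := by
  classical
  intro hE
  obtain ⟨n, Γ, hΓ⟩ := exists_componentList' (X := X)
  obtain ⟨i, hri⟩ := exists_component_eq Γ hΓ E
  have hi := isExcCurve_of_range_eq E (Γ i) hri hE
  choose L₀ hL₀ using fun i => H23.PicInv.exists_inverse (Big.isInvertible_ideal (ArInt.isEffCartier_ker (Γ i)))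
  have hL : ∀ i, ClSub.IsInverseOf (L₀ i) (ClSub.idealMod (Γ i).ι.ker) := fun i =>
    ⟨(H23.PicMul.comm _ _).some ≪≫ (hL₀ i).2.some⟩
  obtain ⟨-, hai⟩ := ArInt.numbers_of_isExcCurve (Γ i) (hL i) hi
  have hcov := ArInt.cover X Γ hΓ
  have hdisj : ∀ j, j ≠ i → ArSurf.inter R X (L₀ j) (Γ i) = 0 := by
    intro j hj
    refine (ArInt.inter_nonneg Γ L₀ hL hΓ.1 hj.symm).2.2 (Set.disjoint_left.2 ?_)
    rintro _ ⟨p, rfl⟩ ⟨q, hq⟩
    have hgi := ((genericPoint_spec (Γ i).curve.left).specializes (Set.mem_univ p)).map (Γ i).ι.continuous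
    have hgj := ((genericPoint_spec (Γ j).curve.left).specializes (Set.mem_univ q)).map (Γ j).ι.continuous
    obtain ⟨c, hc, hci, hcj⟩ := hm _ _ _ (ArInt.mem_specialFibre (Γ i) _) (ArInt.mem_specialFibre (Γ j) _)
      (ArInt.mem_specialFibre (Γ i) p) hgi (hq ▸ hgj)
    obtain ⟨l, hl⟩ := Set.mem_iUnion.1 (hcov hc)
    haveI := (Γ l).isClosedImmersion
    have hcl : IsClosed (Set.range (Γ l).ι.base) := (Γ l).ι.isClosedEmbedding.isClosed_range
    have key : ∀ m, c ⤳ (Γ m).ι (genericPoint (Γ m).curve.left) → m = l := fun m hcm => by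
      by_contra hne
      refine ArInt.gen_notMem (Γ m) (Γ l) (fun h => hne (hΓ.1 h)) ?_
      rw [ArInt.support_ker]
      exact hcm.mem_closed hcl hl
    exact hj ((key j hcj).trans (key i hci).symm)
  have hsum := (ArInt.sum_mult_inter Γ hΓ.1 L₀ hL i).2 hcov
  rw [Finset.sum_eq_single i (fun j _ hj => by rw [hdisj j hj, mul_zero]) (by simp), hai] at hsum
  obtain ⟨d, G, -, hGs, hF⟩ := ArInt.exists_split_curves Γ (ArInt.fibreIdeal X) (ArInt.isEffCartier_fibreIdeal X)
  obtain ⟨hm1, hm2⟩ := ArInt.mult_eq Γ hGs hF hΓ.1 i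
  have p1 : 0 < (Models.mult R X (Γ i) : ℤ) * Models.wdeg R X (Γ i) :=
    mul_pos (by rw [hm1]; exact_mod_cast hm2) (Int.natCast_pos.2 (ArInt.wdeg_pos_dvd (Γ i)).1)
  linarith

end DVR

variable {R : Type u} [CommRing R] [IsDedekindDomain R]

/-- Exceptional curves avoid fibres with disjoint components. -/
theorem not_meetOver_of_exc (hR : ¬ IsField R) (X : Over (Spec (CommRingCat.of R))) (hX : IsDedSurf X)
    {E : Scheme.{u}} (ι : E ⟶ X.left) [IsClosedImmersion ι] (hE : Models.IsExcCurve ι) (e : E) :
    ¬ MeetOver X.hom (X.hom (ι e)) := by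
  intro hm
  haveI := hX.isIntegral
  haveI : IsProper X.hom := hX.isProper
  haveI : Flat X.hom := hX.flat
  obtain ⟨P, hPp, hP, hs⟩ := exists_point_exc hR ι hE
  rw [hs] at hm
  haveI := hPp
  haveI := isDVR_loc P hP
  obtain ⟨hf, hS, -⟩ := isSurf_locX X P hP hX.regular hX.dim_le ι hE hs
  haveI := hf
  haveI := hS
  obtain ⟨ι', hcl, hι', hE', hs'⟩ := exists_exc_lift X P hP ι hs hE
  haveI := hcl
  obtain ⟨F, -, hFe⟩ := exists_vertComp_exc ι' hE' hs'
  refine not_exc_of_meetOver (fun a b x ha hb hx hax hbx => ?_) F hFe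
  have hpt : ∀ z, (locX X P).hom z = closedPoint (Localization.AtPrime P) ↔
      X.hom (locπ X P z) = (⟨P, hPp⟩ : PrimeSpectrum R) := fun z => by
    rw [hom_locπ]
    exact ⟨fun h => by rw [h, locPt_closedPoint], fun h => (locPt P).isEmbedding.injective
      (h.trans (locPt_closedPoint P).symm)⟩
  obtain ⟨c, hc, hca, hcb⟩ := hm _ _ _ ((hpt a).1 ha) ((hpt b).1 hb) ((hpt x).1 hx)
    (hax.map (locπ X P).continuous) (hbx.map (locπ X P).continuous)
  obtain ⟨c', rfl⟩ : c ∈ Set.range (locπ X P) := by
    rw [range_locπ]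
    show (X.hom c : PrimeSpectrum R).asIdeal ≤ P
    rw [hc]
  have hind := (locπ X P).isEmbedding.isInducing
  exact ⟨c', (hpt c').2 hc, hind.specializes_iff.1 hca, hind.specializes_iff.1 hcb⟩

/-- Almost all fibres have disjoint components. -/
theorem exists_finite_meetOver {X : Over (Spec (CommRingCat.of R))} (hX : IsDedSurf X) :
    ∃ B : Set (Spec (CommRingCat.of R)), B.Finite ∧ (∀ s ∈ B, (s : PrimeSpectrum R).asIdeal ≠ ⊥) ∧
      ∀ s ∉ B, MeetOver X.hom s := by
  classical
  haveI := hX.isIntegral
  haveI : IsProper X.hom := hX.isProper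
  haveI : Flat X.hom := hX.flat
  let g := pullback.fst X.hom (Neron.genPt R)
  haveI : IsPreimmersion g := MorphismProperty.pullback_fst _ _ inferInstance
  haveI : Flat g := MorphismProperty.pullback_fst _ _ inferInstance
  obtain ⟨c₀, hc₀⟩ : genericPoint X.left ∈ Set.range g := by
    rw [Scheme.Pullback.range_fst, Set.mem_preimage, range_genPt]
    exact congrArg PrimeSpectrum.asIdeal (hom_genericPoint X)
  obtain ⟨hCi, -⟩ := isIntegral_of_preimmersion g hc₀
  haveI := hCi
  have hn : ∀ x : ↥(pullback X.hom (Neron.genPt R)),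
      IsIntegrallyClosed ((pullback X.hom (Neron.genPt R)).presheaf.stalk x) := fun x => by
    haveI := NmpLocalize.isIso_stalkMap_of_flat_preimmersion g x
    haveI := (isNormalScheme_of_regular hX.regular (g x)).1
    haveI := (isNormalScheme_of_regular hX.regular (g x)).2
    exact IsIntegrallyClosed.of_equiv (asIso (g.stalkMap x)).commRingCatIsoToRingEquiv
  have hgen : (genericPoint (Spec (CommRingCat.of R)) : PrimeSpectrum R).asIdeal = ⊥ := by
    rw [genericPoint_eq_bot_of_affine (CommRingCat.of R)]; rfl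
  obtain ⟨V, hV, hmeet⟩ := exists_meetGen_nhds X.hom hn (IsPullback.of_hasPullback X.hom (Neron.genPt R))
    fun t => PrimeSpectrum.ext ((asIdeal_genPt t).trans hgen.symm)
  refine ⟨(V : Set (Spec (CommRingCat.of R)))ᶜ, ?_, fun s hs h0 => hs ?_, fun s hs a b x ha hb hx hax hbx => ?_⟩
  · obtain ⟨I, hI⟩ := (PrimeSpectrum.isClosed_iff_zeroLocus_ideal _).1 V.isOpen.isClosed_compl
    have hI0 : I ≠ ⊥ := fun h => by
      have : genericPoint (Spec (CommRingCat.of R)) ∈ PrimeSpectrum.zeroLocus (I : Set R) := by
        rw [h]; exact fun r hr => by rw [Ideal.mem_bot.1 hr]; exact zero_mem _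
      rw [← hI] at this
      exact this hV
    rw [hI]
    refine ((Ideal.finite_factors hI0).image fun v => (⟨v.asIdeal, v.isPrime⟩ : PrimeSpectrum R)).subset ?_
    intro s hs
    have hle : I ≤ (s : PrimeSpectrum R).asIdeal := hs
    exact ⟨⟨_, s.2, fun h => hI0 (le_bot_iff.1 (h ▸ hle))⟩, Ideal.dvd_iff_le.2 hle, rfl⟩
  · rw [show s = genericPoint (Spec (CommRingCat.of R)) from PrimeSpectrum.ext (h0.trans hgen.symm)]
    exact hV
  · obtain ⟨c, hc, hca, hcb⟩ := hmeet a b x (hx ▸ not_not.1 hs) (ha.trans hx.symm) (hb.trans hx.symm) hax hbx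
    exact ⟨c, hc.trans hx, hca, hcb⟩

/-- Finitely many fibres contain exceptional curves. -/
theorem finite_exc {X : Over (Spec (CommRingCat.of R))} (hX : IsDedSurf X) :
    Set.Finite {s : (Spec (CommRingCat.of R) : Scheme.{u}) |
      ∃ (E : Scheme.{u}) (ι : E ⟶ X.left), IsClosedImmersion ι ∧ Models.IsExcCurve ι ∧
        Set.range ((ι ≫ X.hom).base : E → Spec (CommRingCat.of R)) = {s}} := by
  by_cases hR : IsField R
  · haveI : Subsingleton ↥(Spec (CommRingCat.of R)) := by
      letI := hR.toField
      exact inferInstanceAs (Subsingleton (PrimeSpectrum R))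
    exact Set.toFinite _
  obtain ⟨B, hB, -, hm⟩ := exists_finite_meetOver hX
  refine hB.subset ?_
  rintro s ⟨E, ι, hc, hE, hs⟩
  haveI := hc
  obtain ⟨e, he⟩ : s ∈ Set.range ((ι ≫ X.hom).base : E → Spec (CommRingCat.of R)) := by rw [hs]; rfl
  by_contra h
  refine not_meetOver_of_exc hR X hX ι hE e ?_
  rw [show X.hom (ι e) = s from he]
  exact hm s h

end Groth.Agent.ResolveX.Ded
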