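import Groth.Agent.ResolveX.DesingMin

/-!
# Exceptional curves and morphisms which are isomorphisms near them
-/

set_option autoImplicit false
set_option linter.style.haveILetI false
set_option linter.unusedSectionVars false
set_option backward.isDefEq.respectTransparency false
set_option backward.isDefEq.respectTransparency.types false
set_option maxHeartbeats 1000000

universe u

open CategoryTheory CategoryTheory.Limits AlgebraicGeometry TopologicalSpace IsLocalRing

attribute [local instance 2000] CategoryTheory.CategoryStruct.toQuiver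

noncomputable section

namespace Groth.Agent.ResolveX

open Groth.Agent Groth.Agent.H23.PicMul

/-- The base change of a morphism along a map landing where it is an isomorphism. -/
theorem exists_isPullback_of_range {Z X P : Scheme.{u}} (h : Z ⟶ X) (U : X.Opens) [IsIso (h ∣_ U)] (t : P ⟶ X)
    (ht : Set.range t ⊆ (U : Set X)) : ∃ ψ : P ⟶ Z, IsPullback ψ (𝟙 P) h t := by
  let k : P ⟶ (U : Scheme.{u}) := IsOpenImmersion.lift U.ι t (by rwa [Scheme.Opens.range_ι])
  have hk : k ≫ U.ι = t := IsOpenImmersion.lift_fac _ _ _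
  refine ⟨(k ≫ inv (h ∣_ U)) ≫ (h ⁻¹ᵁ U).ι, ?_⟩
  have h1 : IsPullback (k ≫ inv (h ∣_ U)) (𝟙 P) (h ∣_ U) k := IsPullback.of_vert_isIso ⟨by simp⟩
  have h2 := h1.paste_horiz (isPullback_morphismRestrict h U).flip
  rwa [hk] at h2

/-- The image of an exceptional curve along which a morphism is an isomorphism is exceptional. -/
theorem isExcCurve_of_iso_near {Z X E C : Scheme.{u}} (h : Z ⟶ X) (ι : E ⟶ Z) [IsClosedImmersion ι]
    (j : C ⟶ X) [IsClosedImmersion j] [IsReduced C] [IsReduced E] (U : X.Opens) [IsIso (h ∣_ U)]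
    (hjU : Set.range j ⊆ (U : Set X)) (hr : Set.range ι = h ⁻¹' Set.range j)
    (hj : BlowUp.IsEffCartierIdeal j.ker) (hE : Models.IsExcCurve ι) : Models.IsExcCurve j := by
  obtain ⟨ψ, hψ⟩ := exists_isPullback_of_range h U j hjU
  haveI : IsClosedImmersion ψ := MorphismProperty.of_isPullback hψ.flip (inferInstance : IsClosedImmersion j)
  have hψr : Set.range ψ = Set.range ι := by
    rw [hr, ← hψ.isoPullback_hom_fst, Scheme.Hom.comp_base, TopCat.coe_comp, Set.range_comp,
      Set.range_eq_univ.2 hψ.isoPullback.hom.surjective, Set.image_univ, Scheme.Pullback.range_fst]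
  have hker : ψ.ker = ι.ker := by
    rw [CanonDual.ker_eq_vanishingIdeal ψ (S := ⟨_, ι.isClosedEmbedding.isClosed_range⟩) hψr,
      CanonDual.ker_eq_vanishingIdeal ι (S := ⟨_, ι.isClosedEmbedding.isClosed_range⟩) rfl]
  have hcomap : j.ker.comap h = ι.ker := by
    rw [← Scheme.IdealSheafData.ker_fst_of_isClosedImmersion j h, ← hker, ← hψ.isoPullback_hom_fst]
    exact (Scheme.Hom.ker_comp_of_isIso _ _).symm
  let σ := IsClosedImmersion.lift ψ ι hker.le
  haveI : IsIso σ := IsClosedImmersion.isIso_lift _ _ hker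
  obtain ⟨hI, k, _, e, ⟨τ⟩⟩ := hE
  refine ⟨hj, k, inferInstance, e ≪≫ asIso σ, ?_⟩
  have hcomp : (e ≪≫ asIso σ).hom ≫ j = (e.hom ≫ ι) ≫ h := by
    rw [Iso.trans_hom, asIso_hom, show j = ψ ≫ h by rw [hψ.w, Category.id_comp]]
    simp only [Category.assoc]
    rw [reassoc_of% (IsClosedImmersion.lift_fac ψ ι hker.le)]
  obtain ⟨i⟩ : Nonempty ((Scheme.Modules.pullback ((e ≪≫ asIso σ).hom ≫ j)).obj (ClSub.idealMod j.ker) ≅
      (Scheme.Modules.pullback (e.hom ≫ ι)).obj (ClSub.idealMod ι.ker)) := cl_eq_iff.1 (by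
    show PicF.pullCl _ (PicF.cl (ClSub.idealMod j.ker)) = PicF.pullCl _ (PicF.cl (ClSub.idealMod ι.ker))
    rw [hcomp, ← PicClLib.pullCl_comp]
    congr 1
    show PicF.cl ((Scheme.Modules.pullback h).obj (ClSub.idealMod j.ker)) = _
    rw [Big.cl_idealMod_comap h j.ker hj (hcomap ▸ hI)]
    exact congrArg (fun J => PicF.cl (ClSub.idealMod J)) hcomap)
  exact ⟨i ≪≫ τ⟩

end Groth.Agent.ResolveX
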