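import Groth.Agent.ResolveX.ContractExc

/-!
# Descending to a surface without contracted exceptional curves
-/

set_option autoImplicit false
set_option linter.style.haveILetI false
set_option linter.unusedSectionVars false
set_option backward.isDefEq.respectTransparency false
set_option backward.isDefEq.respectTransparency.types false
set_option maxHeartbeats 1000000

universe u

open CategoryTheory CategoryTheory.Limits AlgebraicGeometry TopologicalSpace IsLocalRing

attribute [local instance 2000] CategoryTheory.CategoryStruct.toQuiver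

noncomputable section

namespace Groth.Agent.ResolveX

open Groth.Agent

variable {R : Type u} [CommRing R] [IsDomain R] [IsDiscreteValuationRing R]
  {Y : Over (Spec (CommRingCat.of R))} [IsIntegral Y.left]

/-- Some birational surface over the base has no contracted exceptional curve. -/
theorem exists_no_contracted_exc [Flat Y.hom] (hproj : Neron.IsProjectiveOver R Y) : ∀ (n : ℕ)
    (X : Over (Spec (CommRingCat.of R))), ArSurf.IsArithSurface R X → ∀ (g : X ⟶ Y)
    (U : Y.left.Opens), (U : Set Y.left).Nonempty → IsIso (g.left ∣_ U) → (contracted g.left).ncard = n →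
    ∃ (Z : Over (Spec (CommRingCat.of R))) (g' : Z ⟶ Y) (U' : Y.left.Opens),
      ArSurf.IsArithSurface R Z ∧ (U' : Set Y.left).Nonempty ∧ IsIso (g'.left ∣_ U') ∧
      ∀ (E : Scheme.{u}) (ι : E ⟶ Z.left) [IsClosedImmersion ι], Models.IsExcCurve ι →
        ¬ ∃ y : Y.left, Set.range ((ι ≫ g'.left).base : E → Y.left) = {y} := by
  intro n
  induction n using Nat.strong_induction_on with
  | _ n ih =>
    intro X hX g U hU hiso hn
    haveI := hiso
    by_cases hexc : ∀ (E : Scheme.{u}) (ι : E ⟶ X.left) [IsClosedImmersion ι], Models.IsExcCurve ι →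
        ¬ ∃ y : Y.left, Set.range ((ι ≫ g.left).base : E → Y.left) = {y}
    · exact ⟨X, g, U, hX, hU, hiso, hexc⟩
    push Not at hexc
    obtain ⟨E, ι, hι, hE, y, hy⟩ := hexc
    haveI := ArInt.isSurf_of_isArithSurface hX
    haveI : Flat X.hom := hX.2.2.2.1
    haveI : IsProper Y.hom := ArInt.isProper_of_isProjectiveOver hproj
    haveI : IsProper g.left := by
      haveI : IsProper (g.left ≫ Y.hom) := by rw [Over.w g]; infer_instance
      exact IsProper.of_comp g.left Y.hom
    have hyc : IsClosed ({y} : Set Y.left) := by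
      rw [← hy, show Set.range ((ι ≫ g.left).base : E → Y.left) = g.left '' Set.range ι from Set.range_comp g.left ι]
      exact g.left.isClosedMap _ ι.isClosedEmbedding.isClosed_range
    have hys := hom_closed_point Y.hom hyc
    obtain ⟨E', hE'r, hE'⟩ := exists_vertComp_exc ι hE fun p => by
      rw [← Over.w g, Scheme.Hom.comp_apply, show g.left (ι p) = y from hy.subset ⟨p, rfl⟩, hys]
    haveI := E'.isClosedImmersion
    haveI := E'.isIntegral
    have hy' : Set.range ((E'.ι ≫ g.left).base : E'.curve.left → Y.left) = {y} := by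
      rw [← hy]
      show Set.range (g.left ∘ E'.ι) = Set.range (g.left ∘ ι)
      rw [Set.range_comp, Set.range_comp, hE'r]
    obtain ⟨X₁, b, y₁, hy₁, hX₁, hbp, hd₁, hEy₁, hfib, hbiso, hbl⟩ := exists_contraction X hX E' hE'
    haveI := hbp
    haveI := ArInt.isSurf_of_isArithSurface hX₁
    haveI := hX₁.1 y₁
    haveI : IsLocallyNoetherian X₁.left := LocallyOfFiniteType.isLocallyNoetherian X₁.hom
    haveI : IsNoetherian X₁.left :=
      { toIsLocallyNoetherian := inferInstance
        toCompactSpace := QuasiCompact.compactSpace_of_compactSpace X₁.hom }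
    obtain ⟨ψ, hψ, -⟩ := exists_unique_factor_contraction E'.ι y₁ hy₁ hd₁ hbl hE' hEy₁ g.left y hy'
    have hψw : ψ ≫ Y.hom = X₁.hom := by
      obtain ⟨_, _, huniq⟩ := exists_unique_factor_contraction E'.ι y₁ hy₁ hd₁ hbl hE' hEy₁ X.hom
        (IsLocalRing.closedPoint R) (Set.eq_singleton_iff_unique_mem.2
          ⟨⟨genericPoint _, ArInt.mem_specialFibre E' _⟩, by
            rintro _ ⟨p, rfl⟩; exact ArInt.mem_specialFibre E' p⟩)
      exact (huniq _ (by show b.left ≫ ψ ≫ Y.hom = _; rw [reassoc_of% hψ, Over.w g])).trans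
        (huniq _ (Over.w b)).symm
    let g₁ : X₁ ⟶ Y := Over.homMk ψ hψw
    have hψy : ψ y₁ = y := by
      have h1 : (E'.ι ≫ g.left) (genericPoint _) = y := hy'.subset ⟨_, rfl⟩
      have h2 : (E'.ι ≫ b.left) (genericPoint E'.curve.left) = y₁ := hEy₁.subset ⟨_, rfl⟩
      rw [← h2, ← Scheme.Hom.comp_apply, Category.assoc, hψ]
      exact h1
    let U₁ : Y.left.Opens := U ⊓ ⟨{y}ᶜ, hyc.isOpen_compl⟩
    have hU₁ : (U₁ : Set Y.left).Nonempty := by
      obtain ⟨u, hu⟩ := hU
      refine ⟨genericPoint Y.left, ((genericPoint_spec Y.left).specializes (Set.mem_univ u)).mem_open U.2 hu,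
        fun h : genericPoint Y.left = y => ?_⟩
      rw [← h, ArInt.hom_genericPoint] at hys
      exact ArInt.closedPoint_ne_bot (R := R) hys.symm
    have hiso₁ : IsIso (g₁.left ∣_ U₁) := by
      show IsIso (ψ ∣_ U₁)
      haveI : IsIso (g.left ∣_ U₁) := isIso_restrict_of_le g.left inf_le_left
      haveI : IsIso ((b.left ≫ ψ) ∣_ U₁) := by rw [hψ]; infer_instance
      haveI : IsIso (b.left ∣_ (ψ ⁻¹ᵁ U₁)) := by
        haveI := hbiso
        exact isIso_restrict_of_le b.left (U := ⟨{y₁}ᶜ, hy₁.isOpen_compl⟩) fun q hq (h : q = y₁) =>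
          hq.2 (h ▸ hψy)
      haveI : IsIso (b.left ∣_ (ψ ⁻¹ᵁ U₁) ≫ ψ ∣_ U₁) := by rw [← morphismRestrict_comp]; infer_instance
      exact IsIso.of_isIso_comp_left (b.left ∣_ (ψ ⁻¹ᵁ U₁)) _
    let η := E'.ι (genericPoint E'.curve.left)
    have hηb : b.left η = y₁ := hEy₁.subset ⟨_, rfl⟩
    have hη : η ∈ contracted g.left := by
      refine ⟨fun hc => ?_, ?_⟩
      · have h1 := ArInt.closure_gen E'
        rw [hc.closure_eq] at h1
        haveI : Subsingleton E'.curve.left := ⟨fun a c => E'.ι.isClosedEmbedding.injective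
          ((Set.mem_singleton_iff.1 (h1.ge ⟨a, rfl⟩)).trans (Set.mem_singleton_iff.1 (h1.ge ⟨c, rfl⟩)).symm)⟩
        have h0 : topologicalKrullDim E'.curve.left ≤ 0 := topologicalKrullDim_zero_of_discreteTopology _
        rw [E'.dim_eq] at h0
        exact absurd h0 (by norm_num)
      · rw [show g.left η = y from hy'.subset ⟨_, rfl⟩]; exact hyc
    have hfin := finite_contracted g.left U hU hiso hX.2.2.1.le
    have hlt : (contracted g₁.left).ncard < n := by
      refine lt_of_le_of_lt ((Set.ncard_le_ncard (t := b.left '' (contracted g.left \ {η})) ?_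
        ((hfin.subset Set.sdiff_subset).image _)).trans (Set.ncard_image_le (hfin.subset Set.sdiff_subset)))
        (hn ▸ Set.ncard_sdiff_singleton_lt_of_mem hη hfin)
      rintro z ⟨hz, hz'⟩
      obtain ⟨x, rfl⟩ := surjective_point y₁ hy₁ hd₁ hbl z
      refine ⟨x, ⟨⟨fun hc => hz ?_, ?_⟩, ?_⟩, rfl⟩
      · rw [← Set.image_singleton]; exact b.left.isClosedMap _ hc
      · rw [← hψ, Scheme.Hom.comp_apply]; exact hz'
      · rintro (rfl : x = η)
        exact hz (hηb ▸ hy₁)
    exact ih _ hlt X₁ hX₁ g₁ U₁ hU₁ hiso₁ rfl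

end Groth.Agent.ResolveX
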