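import Groth.Agent.ResolveX.SurfPoint
import Groth.Agent.BlowExc.Nonsingular
import Groth.Agent.ArInt.ModelLib
import Groth.Agent.ArInt.ConstField
import Groth.Agent.S2348

/-!
# The blow-up of an arithmetic surface in a closed point is a surface
-/

set_option autoImplicit false
set_option linter.style.haveILetI false
set_option linter.unusedSectionVars false
set_option backward.isDefEq.respectTransparency false
set_option backward.isDefEq.respectTransparency.types false
set_option maxHeartbeats 1000000

universe u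

open CategoryTheory CategoryTheory.Limits AlgebraicGeometry TopologicalSpace

attribute [local instance 2000] CategoryTheory.CategoryStruct.toQuiver

noncomputable section

namespace Groth.Agent.ResolveX

open Groth.Agent

variable {R : Type u} [CommRing R] [IsDomain R] [IsDiscreteValuationRing R]
  {Y : Over (Spec (CommRingCat.of R))} [ArInt.IsSurf Y] [Flat Y.hom] {X : Scheme.{u}} {f : X ⟶ Y.left}
  {y : Y.left} (hy : IsClosed ({y} : Set Y.left))

/-- An injective map on the complement of the exceptional set. -/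
theorem apply_injective_of_notMem (hf : BlowUp.IsBlowUp f (Scheme.IdealSheafData.vanishingIdeal ⟨{y}, hy⟩))
    {z z' : X} (hz : f z ≠ y) (h : f z = f z') : z = z' := by
  let U : Y.left.Opens := ⟨{y}ᶜ, hy.isOpen_compl⟩
  haveI : IsIso (f ∣_ U) := BlowUpLib.isIso_restrict hf U fun p hp => by
    show p ∉ ((Scheme.IdealSheafData.vanishingIdeal ⟨{y}, hy⟩).support : Set Y.left)
    rw [Scheme.IdealSheafData.coe_support_vanishingIdeal]
    exact hp
  have hz' : f z' ≠ y := h ▸ hz
  have h' := (f ∣_ U).homeomorph.injective (a₁ := ⟨z, hz⟩) (a₂ := ⟨z', hz'⟩) (Subtype.ext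
    ((morphismRestrict_base_coe f U ⟨z, hz⟩).trans (h.trans (morphismRestrict_base_coe f U ⟨z', hz'⟩).symm)))
  exact congrArg Subtype.val h'

theorem vanishingIdeal_point_ne_bot (hys : Y.hom y = IsLocalRing.closedPoint R) :
    Scheme.IdealSheafData.vanishingIdeal (⟨{y}, hy⟩ : Closeds Y.left) ≠ ⊥ := fun h => by
  obtain ⟨η, h1, h2⟩ := exists_between hy hys
  have h' : η ∈ ((⊥ : Y.left.IdealSheafData).support : Set Y.left) := by
    rw [Scheme.IdealSheafData.support_bot]; trivial
  rw [← h, Scheme.IdealSheafData.coe_support_vanishingIdeal] at h'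
  exact h1.ne (show η = y from h').symm

theorem isProper_blowUp_point (hf : BlowUp.IsBlowUp f (Scheme.IdealSheafData.vanishingIdeal ⟨{y}, hy⟩)) :
    IsProper f := by
  haveI : IsLocallyNoetherian Y.left := LocallyOfFiniteType.isLocallyNoetherian Y.hom
  exact isProper_point y hy hf

theorem isIntegral_blowUp_point (hys : Y.hom y = IsLocalRing.closedPoint R)
    (hf : BlowUp.IsBlowUp f (Scheme.IdealSheafData.vanishingIdeal ⟨{y}, hy⟩)) : IsIntegral X :=
  (S2348.result _ (vanishingIdeal_point_ne_bot hy hys) f hf).fst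

theorem regular_blowUp_point (hf : BlowUp.IsBlowUp f (Scheme.IdealSheafData.vanishingIdeal ⟨{y}, hy⟩))
    (z : X) : IsRegularLocalRing (X.presheaf.stalk z) := by
  haveI : IsLocallyNoetherian Y.left := LocallyOfFiniteType.isLocallyNoetherian Y.hom
  haveI : IsClosedImmersion (Y.left.fromSpecResidueField y) :=
    IsClosedImmersion.of_isPreimmersion _ (by rw [Scheme.range_fromSpecResidueField]; exact hy)
  refine BlowExc.regular_blowUp (Y.left.fromSpecResidueField y) (ArInt.IsSurf.regular (X := Y))
    (fun p => ?_) f ?_ z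
  · haveI := S0564.result (Y.left.residueField y) p.asIdeal
    exact IsRegularLocalRing.of_ringEquiv (StructureSheaf.stalkIso (Y.left.residueField y) p).toRingEquiv
  · rw [CurveDiv.ker_fromSpecResidueField y hy]
    exact hf

/-- The blow-up is two-dimensional. -/
theorem dim_blowUp_point (hys : Y.hom y = IsLocalRing.closedPoint R)
    (hf : BlowUp.IsBlowUp f (Scheme.IdealSheafData.vanishingIdeal ⟨{y}, hy⟩)) :
    topologicalKrullDim X = 2 := by
  haveI := isIntegral_blowUp_point hy hys hf
  haveI := isProper_blowUp_point hy hf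
  haveI : IsLocallyNoetherian X := LocallyOfFiniteType.isLocallyNoetherian (f ≫ Y.hom)
  haveI := ArInt.IsSurf.regular (X := Y) y
  obtain ⟨e, -, -⟩ := exists_projLine_exceptional_point y hy (dim_stalk_closedPoint hy hys) hf
  let K := (Scheme.IdealSheafData.vanishingIdeal ⟨{y}, hy⟩).comap f
  let j : CohB1.ProjSpace 1 (Y.left.residueField y) ⟶ X := e.hom ≫ K.subschemeι
  haveI : IsClosedImmersion j := inferInstance
  have hjr : Set.range j = f ⁻¹' {y} := by
    rw [← support_exceptional_point y hy (b := f), ← Scheme.IdealSheafData.range_subschemeι]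
    exact Set.ext fun z => ⟨fun ⟨w, hw⟩ => ⟨e.hom w, hw⟩,
      fun ⟨w, hw⟩ => by obtain ⟨v, rfl⟩ := e.hom.homeomorph.surjective w; exact ⟨v, hw⟩⟩
  have hdP : topologicalKrullDim ↥(CohB1.ProjSpace 1 (Y.left.residueField y)) = 1 := by
    simpa using S10829.result (Y.left.residueField y) 1
  have hcl : ∀ {p q : X}, f p = y → q ≤ p → f q = y := fun {p q} hp hqp =>
    ((hp ▸ (show p ⤳ q from hqp).map f.continuous : y ⤳ f q)).mem_closed hy rfl
  have hE : ∀ {p q r : X}, p < q → q < r → f r = y → False := fun {p q r} hpq hqr hr =>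
    ArInt.false_of_chain hdP.le j j.isEmbedding.isInducing hpq hqr
      (hjr.ge (hcl hr (hpq.trans hqr).le)) (hjr.ge (hcl hr hqr.le)) (hjr.ge hr)
  have himg : ∀ {p q : X}, p < q → f q ≠ y → f p < f q := fun {p q} hpq hq =>
    ArInt.lt_of_specializes_ne ((show q ⤳ p from hpq.le).map f.continuous)
      fun h => hpq.ne' (apply_injective_of_notMem hy hf hq h)
  have no4 : ∀ {a b c d : X}, a < b → b < c → c < d → False := fun {a b c d} hab hbc hcd => by
    by_cases hc : f c = y
    · exact hE hab hbc hc
    have hd : f d ≠ y := fun h => hc (hcl h hcd.le)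
    by_cases hb : f b = y
    · -- the generic point of the exceptional divisor has codimension one
      have hmax : ∀ w : X, f w = y → b ≤ w → w = b := fun w hw hbw => by
        by_contra hne
        exact hE hab (lt_of_le_of_ne hbw (Ne.symm hne)) hw
      obtain ⟨U, hbU, g, -, hg⟩ := hf.1 b
      have hU : IsAffineOpen U.1 := U.2
      have hcU : c ∈ U.1 := (show c ⤳ b from hbc.le).mem_open U.1.isOpen hbU
      have hdU : d ∈ U.1 := (show d ⤳ c from hcd.le).mem_open U.1.isOpen hcU
      haveI : IsNoetherianRing Γ(X, U.1) := IsLocallyNoetherian.component_noetherian U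
      have hmem : ∀ (w : X) (hw : w ∈ U.1), g ∈ (hU.primeIdealOf ⟨w, hw⟩).asIdeal ↔ f w = y := fun w hw => by
        rw [ArInt.mem_prime_iff hU hw]
        have hs : w ∈ (K.support : Set X) ↔ f w = y := by
          rw [support_exceptional_point y hy]; rfl
        rw [← hs]
        show _ ↔ w ∈ K.support
        rw [Scheme.IdealSheafData.mem_support_iff_of_mem (U := U) hw, hg, Scheme.zeroLocus_span,
          Scheme.mem_zeroLocus_iff]
        simp
      have hlt : ∀ {p q : X} (hp : p ∈ U.1) (hq : q ∈ U.1), p < q →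
          (hU.primeIdealOf ⟨q, hq⟩).asIdeal < (hU.primeIdealOf ⟨p, hp⟩).asIdeal := fun {p q} hp hq hpq => by
        refine lt_of_le_of_ne ((PrimeSpectrum.le_iff_specializes _ _).2 ?_) fun h => ?_
        · refine hU.fromSpec.isOpenEmbedding.isInducing.specializes_iff.1 ?_
          rw [hU.fromSpec_primeIdealOf, hU.fromSpec_primeIdealOf]
          exact hpq.le
        · have h' := congrArg hU.fromSpec (PrimeSpectrum.ext h)
          rw [hU.fromSpec_primeIdealOf, hU.fromSpec_primeIdealOf] at h'
          exact hpq.ne' h'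
      have hmin : (hU.primeIdealOf ⟨b, hbU⟩).asIdeal ∈ (Ideal.span {g}).minimalPrimes := by
        refine ⟨⟨(hU.primeIdealOf ⟨b, hbU⟩).2, (Ideal.span_singleton_le_iff_mem _).2 ((hmem b hbU).2 hb)⟩,
          fun P ⟨hP, hgP⟩ hPle => ?_⟩
        obtain ⟨w, hw, hwP⟩ := QCoh.exists_point hU ⟨P, hP⟩
        have hwy : f w = y := (hmem w hw).1 (by rw [hwP]; exact hgP (Ideal.mem_span_singleton_self g))
        have h1 := ((PrimeSpectrum.le_iff_specializes (hU.primeIdealOf ⟨w, hw⟩) (hU.primeIdealOf ⟨b, hbU⟩)).1
          (show (hU.primeIdealOf ⟨w, hw⟩).asIdeal ≤ (hU.primeIdealOf ⟨b, hbU⟩).asIdeal by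
            rw [hwP]; exact hPle)).map hU.fromSpec.continuous
        rw [hU.fromSpec_primeIdealOf, hU.fromSpec_primeIdealOf] at h1
        obtain rfl := hmax w hwy h1
        rw [show P = (hU.primeIdealOf ⟨w, hw⟩).asIdeal from (congrArg PrimeSpectrum.asIdeal hwP).symm]
      have h1 := Ideal.height_le_one_of_isPrincipal_of_mem_minimalPrimes _ _ hmin
      haveI := (hU.primeIdealOf ⟨b, hbU⟩).2
      haveI := (hU.primeIdealOf ⟨c, hcU⟩).2
      have h2 := Ideal.height_add_one_le_of_lt_of_isPrime (hlt hbU hcU hbc)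
      have h3 := Ideal.height_add_one_le_of_lt_of_isPrime (hlt hcU hdU hcd)
      have h4 : (1 : ℕ∞) + 1 ≤ 1 := (add_le_add (le_add_self.trans h3) le_rfl).trans (h2.trans h1)
      exact absurd h4 (by norm_num)
    exact ArInt.no_chain_four' ArInt.IsSurf.dim_eq (himg hab hb) (himg hbc hc) (himg hcd hd)
  rw [show topologicalKrullDim X = Order.krullDim X from
    Order.krullDim_eq_of_orderIso (irreducibleSetEquivPoints (α := X))]
  refine le_antisymm (iSup_le fun s => ?_) ?_
  · by_contra hs
    have h3 : 3 ≤ s.length := by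
      by_contra h
      exact hs (by exact_mod_cast (by omega : s.length ≤ 2))
    exact no4 (s.strictMono (show (⟨0, by omega⟩ : Fin (s.length + 1)) < ⟨1, by omega⟩ from Nat.lt_add_one _))
      (s.strictMono (show (⟨1, by omega⟩ : Fin (s.length + 1)) < ⟨2, by omega⟩ from Nat.lt_add_one _))
      (s.strictMono (show (⟨2, by omega⟩ : Fin (s.length + 1)) < ⟨3, by omega⟩ from Nat.lt_add_one _))
  · haveI : IsIntegral (CohB1.ProjSpace 1 (Y.left.residueField y)) := H23.PnChart.isIntegral_projSpace 1 _
    obtain ⟨a, b, hab⟩ : ∃ a b : CohB1.ProjSpace 1 (Y.left.residueField y), a < b := by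
      by_contra hc
      push Not at hc
      have : Order.krullDim ↥(CohB1.ProjSpace 1 (Y.left.residueField y)) ≤ 0 := by
        refine iSup_le fun s => ?_
        by_contra hs
        have h1 : 1 ≤ s.length := by
          by_contra h
          exact hs (by exact_mod_cast (by omega : s.length ≤ 0))
        exact hc _ _ (s.strictMono (show (⟨0, by omega⟩ : Fin (s.length + 1)) < ⟨1, by omega⟩ from Nat.lt_add_one _))
      rw [← Order.krullDim_eq_of_orderIso (irreducibleSetEquivPoints (α := CohB1.ProjSpace 1 (Y.left.residueField y)))] at this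
      change topologicalKrullDim _ ≤ _ at this
      rw [hdP] at this
      exact absurd this (by norm_num)
    have hjab : j a < j b := by
      have hiff : ∀ p q, j p ≤ j q ↔ p ≤ q := fun p q => j.isEmbedding.isInducing.specializes_iff
      exact lt_of_le_not_ge ((hiff _ _).2 hab.le) fun h => hab.not_ge ((hiff _ _).1 h)
    have hbg : j b < genericPoint X := ArInt.lt_of_specializes_ne ((genericPoint_spec X).specializes trivial) fun h => by
      obtain ⟨η, h1, h2⟩ := exists_between hy hys
      have hgen : f (genericPoint X) = genericPoint Y.left :=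
        (S2348.result _ (vanishingIdeal_point_ne_bot hy hys) f hf).snd.fst
      exact (h1.trans h2).ne' ((h ▸ hgen).symm.trans (hjr.le ⟨b, rfl⟩))
    exact Order.LTSeries.length_le_krullDim
      (RelSeries.cons ((RelSeries.singleton _ (genericPoint X)).cons (j b) hbg) (j a) hjab)

theorem isSurf_blowUp_point (hys : Y.hom y = IsLocalRing.closedPoint R)
    (hf : BlowUp.IsBlowUp f (Scheme.IdealSheafData.vanishingIdeal ⟨{y}, hy⟩)) :
    ArInt.IsSurf (Over.mk (f ≫ Y.hom)) := by
  haveI := isProper_blowUp_point hy hf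
  exact ⟨isIntegral_blowUp_point hy hys hf, inferInstanceAs (IsProper (f ≫ Y.hom)),
    regular_blowUp_point hy hf, dim_blowUp_point hy hys hf⟩

theorem fromSpecStalk_comp_hom :
    Y.left.fromSpecStalk y ≫ Y.hom = Spec.map (CommRingCat.ofHom (Models.stalkHom R Y y)) := by
  rw [show CommRingCat.ofHom (Models.stalkHom R Y y) =
      (Scheme.ΓSpecIso (CommRingCat.of R)).inv ≫ Y.hom.appTop ≫ Y.left.presheaf.germ ⊤ y trivial from rfl,
    Spec.map_comp, Spec.map_comp, ← Scheme.fromSpecStalk_toSpecΓ, Category.assoc, Category.assoc,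
    ← Scheme.toSpecΓ_naturality_assoc,
    show (Spec (CommRingCat.of R)).toSpecΓ ≫ Spec.map (Scheme.ΓSpecIso (CommRingCat.of R)).inv = 𝟙 _ from
      AlgebraicGeometry.toSpecΓ_SpecMap_ΓSpecIso_inv _, Category.comp_id]

/-- The degree of constants of the exceptional curve is the length of the residue field. -/
theorem length_residueField_eq_wdeg (hys : Y.hom y = IsLocalRing.closedPoint R)
    [ArInt.IsSurf (Over.mk (f ≫ Y.hom))] (E : ArSurf.VertComp R (Over.mk (f ≫ Y.hom)))
    (e : CohB1.ProjSpace 1 (Y.left.residueField y) ≅ E.curve.left)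
    (he : e.hom ≫ (E.ι : E.curve.left ⟶ X) ≫ f =
      CohB1.ProjSpace.toSpec 1 (Y.left.residueField y) ≫ Y.left.fromSpecResidueField y) :
    (letI : Algebra R (Y.left.residueField y) := ((Y.left.residue y).hom.comp (Models.stalkHom R Y y)).toAlgebra;
      Module.length R (Y.left.residueField y) = (Models.wdeg R (Over.mk (f ≫ Y.hom)) E : ℕ∞)) := by
  let k := IsLocalRing.ResidueField R
  let κ : Type u := Y.left.residueField y
  let ψ : R →+* κ := (Y.left.residue y).hom.comp (Models.stalkHom R Y y)
  have hψ : Y.left.fromSpecResidueField y ≫ Y.hom = Spec.map (CommRingCat.ofHom ψ) := by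
    rw [show CommRingCat.ofHom ψ = CommRingCat.ofHom (Models.stalkHom R Y y) ≫ Y.left.residue y from rfl,
      Spec.map_comp, ← fromSpecStalk_comp_hom, ← Category.assoc]
    rfl
  have hm : IsLocalRing.maximalIdeal R ≤ RingHom.ker ψ := fun r hr => by
    let pt : Spec (CommRingCat.of κ) := IsLocalRing.closedPoint κ
    have hpt : Y.left.fromSpecResidueField y pt = y := by
      have h : Y.left.fromSpecResidueField y pt ∈ Set.range (Y.left.fromSpecResidueField y) := ⟨pt, rfl⟩
      rwa [Scheme.range_fromSpecResidueField] at h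
    have h2 : Spec.map (CommRingCat.ofHom ψ) pt = IsLocalRing.closedPoint R := by
      rw [← hψ, Scheme.Hom.comp_apply]
      exact (congrArg Y.hom hpt).trans hys
    have h3 : r ∈ (PrimeSpectrum.comap ψ pt).asIdeal := by
      rw [show PrimeSpectrum.comap ψ pt = IsLocalRing.closedPoint R from h2]
      exact hr
    have h4 : (pt : PrimeSpectrum κ).asIdeal = ⊥ := (Ideal.eq_bot_or_top _).resolve_right pt.2.ne_top
    rw [PrimeSpectrum.comap_asIdeal, Ideal.mem_comap, h4, Ideal.mem_bot] at h3
    exact h3
  let φ : k →+* κ := Ideal.Quotient.lift (IsLocalRing.maximalIdeal R) ψ hm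
  have hφψ : φ.comp (IsLocalRing.residue R) = ψ := RingHom.ext fun r => rfl
  letI : (CohB1.ProjSpace 1 κ).Over (Spec (CommRingCat.of κ)) := ArInt.lineOver κ
  let C := E.curve.left
  letI : C.Over (Spec (CommRingCat.of κ)) := ⟨e.inv ≫ CohB1.ProjSpace.toSpec 1 κ⟩
  let jk := Spec.map (CommRingCat.ofHom (IsLocalRing.residue R))
  haveI : IsClosedImmersion jk := IsClosedImmersion.spec_of_surjective _ IsLocalRing.residue_surjective
  have hs : (C ↘ Spec (CommRingCat.of k)) = (C ↘ Spec (CommRingCat.of κ)) ≫ Spec.map (CommRingCat.ofHom φ) := by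
    refine (cancel_mono jk).1 ?_
    show E.curve.hom ≫ jk = _
    rw [show Spec.map (CommRingCat.ofHom φ) = Spec.map (CommRingCat.ofHom φ) from rfl, Category.assoc]
    show _ = (e.inv ≫ CohB1.ProjSpace.toSpec 1 κ) ≫ _
    rw [← Spec.map_comp, ← CommRingCat.ofHom_comp, hφψ, ← hψ, ← E.w, Category.assoc,
      ← reassoc_of% he, Iso.inv_hom_id_assoc]
    rfl
  have hpb := ArInt.isPullback_iso_over (k := κ) e (show e.hom ≫ e.inv ≫ CohB1.ProjSpace.toSpec 1 κ = _ by
    rw [Iso.hom_inv_id_assoc]; rfl)
  haveI : IsProper ((CohB1.ProjSpace 1 κ) ↘ Spec (CommRingCat.of κ)) := ArInt.isProper_line κ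
  haveI : IsProper (C ↘ Spec (CommRingCat.of κ)) :=
    inferInstanceAs (IsProper (e.inv ≫ ((CohB1.ProjSpace 1 κ) ↘ Spec (CommRingCat.of κ))))
  haveI : CompactSpace C := QuasiCompact.compactSpace_of_compactSpace (C ↘ Spec (CommRingCat.of κ))
  haveI : QuasiSeparatedSpace C := quasiSeparatedSpace_of_quasiSeparated (C ↘ Spec (CommRingCat.of κ))
  have hw : Models.wdeg R (Over.mk (f ≫ Y.hom)) E = Models.homDegree φ := by
    show Module.finrank k (Coh.HH C (Coh.structureModule C) 0) = _
    rw [ArInt.finrank_over C φ hs, ← CurveBC.finrank_hh_unit κ κ e.hom hpb 0, (S7810.projLine_facts κ).1, mul_one]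
  letI : Algebra k κ := φ.toAlgebra
  have hfin : Module.finrank k κ = Models.wdeg R (Over.mk (f ≫ Y.hom)) E := hw.symm
  haveI : Module.Finite k κ := Module.finite_of_finrank_pos (hfin ▸ (ArInt.wdeg_pos_dvd E).1)
  letI : Algebra R κ := ψ.toAlgebra
  haveI : IsScalarTower R k κ := IsScalarTower.of_algebraMap_eq fun r => rfl
  show Module.length R κ = _
  rw [Module.length_eq_of_surjective (R := k) (S := R) (M := κ) IsLocalRing.residue_surjective,
    Module.length_eq_finrank, hfin]

end Groth.Agent.ResolveX
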