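import Groth.Agent.ResolveX.KeyLemma
import Groth.Agent.ResolveX.Contraction
import Groth.Agent.ResolveX.ExtendRat
import Groth.Agent.ResolveX.SurfBlow
import Groth.Agent.DescLib.SubtrVal

/-!
# Surfaces without contracted exceptional curves are minimal desingularizations
-/

set_option autoImplicit false
set_option linter.style.haveILetI false
set_option linter.unusedSectionVars false
set_option backward.isDefEq.respectTransparency false
set_option backward.isDefEq.respectTransparency.types false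
set_option maxHeartbeats 1000000

universe u

open CategoryTheory CategoryTheory.Limits AlgebraicGeometry TopologicalSpace IsLocalRing

attribute [local instance 2000] CategoryTheory.CategoryStruct.toQuiver

noncomputable section

namespace Groth.Agent.ResolveX

open Groth.Agent

/-- Birational maps compose. -/
theorem exists_iso_comp {W Z Y : Scheme.{u}} [IsIntegral W] [IsIntegral Z] [IsIntegral Y] (b : W ⟶ Z) (g : Z ⟶ Y)
    [IsProper g] (V : Z.Opens) (hV : (V : Set Z).Nonempty) [IsIso (b ∣_ V)]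
    (U : Y.Opens) (hU : (U : Set Y).Nonempty) [IsIso (g ∣_ U)] :
    ∃ U' : Y.Opens, (U' : Set Y).Nonempty ∧ IsIso ((b ≫ g) ∣_ U') := by
  let U' : Y.Opens := ⟨(g '' (V : Set Z)ᶜ)ᶜ, (g.isClosedMap _ V.2.isClosed_compl).isOpen_compl⟩ ⊓ U
  have hηU : genericPoint Y ∈ U := by
    obtain ⟨u, hu⟩ := hU
    exact ((genericPoint_spec Y).specializes (Set.mem_univ u)).mem_open U.2 hu
  have hηV : genericPoint Z ∈ V := by
    obtain ⟨v, hv⟩ := hV
    exact ((genericPoint_spec Z).specializes (Set.mem_univ v)).mem_open V.2 hv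
  obtain ⟨hη, -⟩ := ArInt.birational_of_isIso_restrict g U hU inferInstance
  refine ⟨U', ⟨genericPoint Y, ⟨?_, hηU⟩⟩, ?_⟩
  · rintro ⟨q, hq, hqη⟩
    refine hq ?_
    have hqU : q ∈ g ⁻¹ᵁ U := show g q ∈ U from hqη.symm ▸ hηU
    have hzU : genericPoint Z ∈ g ⁻¹ᵁ U := show g _ ∈ U from hη.symm ▸ hηU
    rw [show q = genericPoint Z from congrArg Subtype.val ((g ∣_ U).homeomorph.injective (a₁ := (⟨q, hqU⟩ : ↥(g ⁻¹ᵁ U)))
      (a₂ := ⟨_, hzU⟩) (Subtype.ext ((morphismRestrict_base_coe g U ⟨q, hqU⟩).trans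
        ((hqη.trans hη.symm).trans (morphismRestrict_base_coe g U ⟨_, hzU⟩).symm))))]
    exact hηV
  · haveI : IsIso (b ∣_ (g ⁻¹ᵁ U')) := isIso_restrict_of_le b (V := g ⁻¹ᵁ U') (U := V) fun q hq => by
      by_contra hqV
      exact hq.1 ⟨q, hqV, rfl⟩
    haveI : IsIso (g ∣_ U') := isIso_restrict_of_le g inf_le_right
    rw [morphismRestrict_comp]
    infer_instance

/-- A factor of a birational map over a birational map is birational. -/
theorem exists_iso_factor {W X Y : Scheme.{u}} [IsIntegral X] [IsIntegral Y] (h : W ⟶ X) (g : X ⟶ Y)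
    (U : Y.Opens) (hU : (U : Set Y).Nonempty) [IsIso (g ∣_ U)]
    (V : Y.Opens) (hV : (V : Set Y).Nonempty) [IsIso ((h ≫ g) ∣_ V)] :
    ∃ U' : X.Opens, (U' : Set X).Nonempty ∧ IsIso (h ∣_ U') := by
  let O := U ⊓ V
  obtain ⟨hη, -⟩ := ArInt.birational_of_isIso_restrict g U hU inferInstance
  have hmem : ∀ {T : Y.Opens}, (T : Set Y).Nonempty → genericPoint Y ∈ T := fun {T} ⟨t, ht⟩ =>
    ((genericPoint_spec Y).specializes (Set.mem_univ t)).mem_open T.2 ht
  refine ⟨g ⁻¹ᵁ O, ⟨genericPoint X, show g _ ∈ O from hη.symm ▸ ⟨hmem hU, hmem hV⟩⟩, ?_⟩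
  haveI : IsIso (g ∣_ O) := isIso_restrict_of_le g inf_le_left
  haveI : IsIso ((h ≫ g) ∣_ O) := isIso_restrict_of_le (h ≫ g) inf_le_right
  haveI : IsIso (h ∣_ (g ⁻¹ᵁ O) ≫ g ∣_ O) := by rw [← morphismRestrict_comp]; infer_instance
  exact IsIso.of_isIso_comp_right _ (g ∣_ O)

variable {R : Type u} [CommRing R] [IsDomain R] [IsDiscreteValuationRing R]

/-- Closed points of a proper scheme lie in the closed fibre. -/
theorem hom_closed_point {X : Scheme.{u}} (p : X ⟶ Spec (CommRingCat.of R)) [IsProper p] {x : X}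
    (hx : IsClosed ({x} : Set X)) : p x = IsLocalRing.closedPoint R := by
  have h := p.isClosedMap _ hx
  rw [Set.image_singleton] at h
  exact PrimeSpectrum.ext (IsLocalRing.eq_maximalIdeal ((PrimeSpectrum.isClosed_singleton_iff_isMaximal _).1 h))

/-- Contraction sequences preserve surfaces. -/
theorem isSurf_of_seq {W X' : Scheme.{u}} {r : W ⟶ X'} (hr : Models.IsContractionSeq r) :
    ∀ (p : X' ⟶ Spec (CommRingCat.of R)) [ArInt.IsSurf (Over.mk p)] [Flat p],
      ArInt.IsSurf (Over.mk (r ≫ p)) ∧ Flat (r ≫ p) := by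
  induction hr with
  | @iso Y X e =>
    intro p hp _
    haveI : IsIntegral X := hp.isIntegral
    haveI : IsProper p := hp.isProper
    haveI : Nonempty Y := ⟨e.inv.base (Classical.arbitrary X)⟩
    refine ⟨⟨(show IsIntegral Y from isIntegral_of_isOpenImmersion e.hom), inferInstanceAs (IsProper (e.hom ≫ p)), fun y => ?_, ?_⟩, inferInstance⟩
    · haveI : IsRegularLocalRing (X.presheaf.stalk (e.hom y)) := hp.regular _
      exact IsRegularLocalRing.of_ringEquiv (asIso (e.hom.stalkMap y)).commRingCatIsoToRingEquiv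
    · exact (IsHomeomorph.topologicalKrullDim_eq _ e.hom.homeomorph.isHomeomorph).trans hp.dim_eq
  | @step Y Z X E ι b r hι hE hb hr ih =>
    intro p hp _
    obtain ⟨hZs, hZf⟩ := ih p
    haveI := hZf
    haveI := hZs
    haveI : Flat (Over.mk (r ≫ p)).hom := hZf
    obtain ⟨-, hbp, y, hy, -, -, -, hbl⟩ := hb
    haveI := hbp
    haveI : IsProper (r ≫ p) := hZs.isProper
    have hys := hom_closed_point (r ≫ p) hy
    have hs := isSurf_blowUp_point (Y := Over.mk (r ≫ p)) (f := b) hy hys hbl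
    refine ⟨by rw [Category.assoc]; exact hs, ?_⟩
    haveI : IsIntegral Y := hs.isIntegral
    haveI : IsIntegral Z := hZs.isIntegral
    refine DescLib.flat_of_dominant_integral _ ?_
    have hgen : b (genericPoint Y) = genericPoint Z :=
      (S2348.result _ (vanishingIdeal_point_ne_bot (Y := Over.mk (r ≫ p)) hy hys) b hbl).snd.fst
    rw [Category.assoc, Scheme.Hom.comp_apply, hgen]
    exact ArInt.hom_genericPoint (X := Over.mk (r ≫ p))

variable {Y : Over (Spec (CommRingCat.of R))} [IsIntegral Y.left]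

/-- An exceptional divisor is a vertical exceptional curve. -/
theorem exists_vertComp_exc {Z : Over (Spec (CommRingCat.of R))} [ArInt.IsSurf Z] [Flat Z.hom]
    {E : Scheme.{u}}
    (ι : E ⟶ Z.left) [IsClosedImmersion ι] (hE : Models.IsExcCurve ι)
    (hF : ∀ p, Z.hom (ι p) = IsLocalRing.closedPoint R) :
    ∃ E' : ArSurf.VertComp R Z, Set.range E'.ι = Set.range ι ∧ Models.IsExcCurve E'.ι := by
  obtain ⟨hI, k, _, e, ⟨τ⟩⟩ := hE
  haveI : IsIntegral (CohB1.ProjSpace 1 k) := H23.PnChart.isIntegral_projSpace 1 _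
  haveI : Nonempty E := ⟨e.hom (Classical.arbitrary _)⟩
  haveI : IsIntegral E := isIntegral_of_isOpenImmersion e.inv
  let η := ι (genericPoint E)
  have hcl : closure ({η} : Set Z.left) = Set.range ι := by
    rw [← Set.image_singleton, ι.isClosedEmbedding.closure_image_eq, genericPoint_closure, Set.image_univ]
  obtain ⟨a, ha⟩ : ∃ a : E, a ≠ genericPoint E := by
    by_contra hcon
    push Not at hcon
    haveI : Subsingleton E := ⟨fun a b => (hcon a).trans (hcon b).symm⟩
    have h1 : topologicalKrullDim E = 1 :=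
      (IsHomeomorph.topologicalKrullDim_eq _ e.inv.homeomorph.isHomeomorph).trans (ArInt.dim_line _)
    have h2 : topologicalKrullDim E ≤ 0 := topologicalKrullDim_zero_of_discreteTopology _
    rw [h1] at h2
    exact absurd h2 (by norm_num)
  obtain ⟨E', hE'⟩ := ArInt.exists_vertComp_closure ArInt.IsSurf.dim_eq (hF _ : η ∈ Models.specialFibreSet R Z)
    (ArInt.lt_of_specializes_ne (((genericPoint_spec E).specializes (Set.mem_univ a)).map ι.continuous)
      fun h => ha (ι.isClosedEmbedding.injective h).symm)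
  haveI := E'.isClosedImmersion
  haveI := E'.isIntegral
  have hr : Set.range E'.ι = Set.range ι := hE'.trans hcl
  have hker : ι.ker = E'.ι.ker := by
    rw [CanonDual.ker_eq_vanishingIdeal ι (S := ⟨_, E'.ι.isClosedEmbedding.isClosed_range⟩) hr.symm,
      CanonDual.ker_eq_vanishingIdeal E'.ι (S := ⟨_, E'.ι.isClosedEmbedding.isClosed_range⟩) rfl]
  let σ := IsClosedImmersion.lift E'.ι ι hker.ge
  haveI : IsIso σ := IsClosedImmersion.isIso_lift _ _ hker.symm
  refine ⟨E', hr, hker ▸ hI, k, inferInstance, e ≪≫ asIso σ, ?_⟩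
  rw [Iso.trans_hom, asIso_hom, Category.assoc, IsClosedImmersion.lift_fac, ← hker]
  exact ⟨τ⟩

/-- A morphism from a sequence of point blow-ups descends when the target has no contracted exceptional curves. -/
theorem exists_factor_seq (hnor : ∀ y : Y.left, IsIntegrallyClosed (Y.left.presheaf.stalk y))
    (hdim : topologicalKrullDim Y.left = 2) [Flat Y.hom] (hproj : Neron.IsProjectiveOver R Y)
    (X : Over (Spec (CommRingCat.of R))) (hX : ArSurf.IsArithSurface R X) (g : X ⟶ Y)
    (Ug : Y.left.Opens) (hUg : (Ug : Set Y.left).Nonempty) (hisog : IsIso (g.left ∣_ Ug))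
    (hexc : ∀ (E : Scheme.{u}) (ι : E ⟶ X.left) [IsClosedImmersion ι], Models.IsExcCurve ι →
      ¬ ∃ y : Y.left, Set.range ((ι ≫ g.left).base : E → Y.left) = {y})
    {W X' : Scheme.{u}} {r : W ⟶ X'} (hr : Models.IsContractionSeq r) :
    ∀ (p : X' ⟶ Spec (CommRingCat.of R)) [ArInt.IsSurf (Over.mk p)] [Flat p]
      (g' : X' ⟶ Y.left) (_ : g' ≫ Y.hom = p)
      (U' : Y.left.Opens) (_ : (U' : Set Y.left).Nonempty) (_ : IsIso (g' ∣_ U'))
      (h : W ⟶ X.left), h ≫ g.left = r ≫ g' → ∃ ψ : X' ⟶ X.left, r ≫ ψ = h := by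
  induction hr with
  | @iso W X' e => exact fun p _ _ g' _ U' _ _ h _ => ⟨e.inv ≫ h, e.hom_inv_id_assoc h⟩
  | @step W Z X' E ι b r hι hE hb hr ih =>
    intro p hp hpf g' hg'p U' hU' hiso' h hh
    haveI := hι
    haveI : IsProper Y.hom := ArInt.isProper_of_isProjectiveOver hproj
    haveI : IsIntegral X' := hp.isIntegral
    haveI : IsProper p := hp.isProper
    haveI : IsProper g' := by
      haveI : IsProper (g' ≫ Y.hom) := hg'p ▸ inferInstance
      exact IsProper.of_comp g' Y.hom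
    haveI : IsLocallyNoetherian X' := LocallyOfFiniteType.isLocallyNoetherian p
    haveI : IsNoetherian X' :=
      { toIsLocallyNoetherian := inferInstance
        toCompactSpace := QuasiCompact.compactSpace_of_compactSpace p }
    obtain ⟨hZi, hZn, -, hrp, V, hV, hViso⟩ := contractionSeq_props hr hp.regular
    have hseq := Models.IsContractionSeq.step ι b r hι hE hb hr
    obtain ⟨hWi, hWn, -, hbrp, V₁, hV₁, hV₁iso⟩ := contractionSeq_props hseq hp.regular
    obtain ⟨hWs, hWf⟩ := isSurf_of_seq hseq p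
    haveI := hrp; haveI := hbrp; haveI := hZi; haveI := hWi
    haveI := hViso; haveI := hV₁iso; haveI := hiso'; haveI := hisog
    haveI := hWs
    obtain ⟨hZn', hbp, y, hy, hry, hreg, hdy, hbl⟩ := hb
    haveI := hbp; haveI := hreg; haveI := hZn'
    let hW : Over.mk ((b ≫ r) ≫ p) ⟶ X := Over.homMk h (by
      show h ≫ X.hom = (b ≫ r) ≫ p
      rw [← Over.w g, reassoc_of% hh, hg'p, Category.assoc])
    haveI : Flat (Over.mk ((b ≫ r) ≫ p)).hom := hWf
    haveI : IsIntegral X.left := hX.2.1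
    obtain ⟨U₁, hU₁, hU₁iso⟩ := exists_iso_comp (b ≫ r) g' V₁ hV₁ U' hU'
    haveI : IsIso ((h ≫ g.left) ∣_ U₁) := by rw [hh]; exact hU₁iso
    obtain ⟨Uh, hUh, hUhiso⟩ := exists_iso_factor h g.left Ug hUg U₁ hU₁
    have hιy : ∀ q, b (ι q) = y := fun q => hry.subset ⟨q, rfl⟩
    haveI : IsProper (r ≫ p) := inferInstance
    obtain ⟨E', hE'r, hE'exc⟩ := exists_vertComp_exc (Z := Over.mk ((b ≫ r) ≫ p)) ι hE fun q => by
      show ((b ≫ r) ≫ p) (ι q) = _
      rw [Category.assoc, Scheme.Hom.comp_apply, hιy]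
      exact hom_closed_point (r ≫ p) hy
    have hgy : IsClosed ({(r ≫ g') y} : Set Y.left) := by
      rw [← Set.image_singleton]
      exact (r ≫ g').isClosedMap _ hy
    obtain ⟨x, hx⟩ := exists_point_image Y hnor hdim hproj X hX g Ug hUg hisog hexc
      (Over.mk ((b ≫ r) ≫ p)) hW Uh hUh hUhiso E' hE'exc _ hgy fun q => by
        obtain ⟨q', hq'⟩ := hE'r.subset ⟨q, rfl⟩
        show g.left (h (E'.ι q)) = _
        rw [← hq', ← Scheme.Hom.comp_apply h g.left, hh, Category.assoc, Scheme.Hom.comp_apply]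
        exact congrArg (r ≫ g') (hιy q')
    have hx' : Set.range ((ι ≫ h).base : E → X.left) = {x} := by
      rw [← hx]
      show Set.range (h ∘ ι) = Set.range (h ∘ E'.ι)
      rw [Set.range_comp, Set.range_comp, hE'r]
      rfl
    obtain ⟨ψ, hψ, -⟩ := exists_unique_factor_contraction ι y hy hdy hbl hE hry h x hx'
    have hψg : ψ ≫ g.left = r ≫ g' := by
      obtain ⟨_, _, huniq⟩ := exists_unique_factor_contraction ι y hy hdy hbl hE hry (h ≫ g.left) (g.left x) (by
        show Set.range (g.left ∘ (h ∘ ι)) = {g.left x}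
        rw [Set.range_comp, show Set.range (h ∘ ι) = {x} from hx', Set.image_singleton])
      exact (huniq _ (by show b ≫ ψ ≫ g.left = _; rw [reassoc_of% hψ])).trans
        (huniq _ (by show b ≫ r ≫ g' = _; rw [hh, Category.assoc])).symm
    obtain ⟨ψ', hψ'⟩ := ih p g' hg'p U' hU' hiso' ψ hψg
    exact ⟨ψ', by rw [Category.assoc, hψ', hψ]⟩

/-- A surface without contracted exceptional curves receives every desingularization uniquely. -/
theorem existsUnique_hom (hnor : ∀ y : Y.left, IsIntegrallyClosed (Y.left.presheaf.stalk y))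
    (hdim : topologicalKrullDim Y.left = 2) [Flat Y.hom] (hproj : Neron.IsProjectiveOver R Y)
    (X : Over (Spec (CommRingCat.of R))) (hX : ArSurf.IsArithSurface R X) (g : X ⟶ Y)
    (Ug : Y.left.Opens) (hUg : (Ug : Set Y.left).Nonempty) (hisog : IsIso (g.left ∣_ Ug))
    (hexc : ∀ (E : Scheme.{u}) (ι : E ⟶ X.left) [IsClosedImmersion ι], Models.IsExcCurve ι →
      ¬ ∃ y : Y.left, Set.range ((ι ≫ g.left).base : E → Y.left) = {y})
    (X' : Over (Spec (CommRingCat.of R))) (hX' : ArSurf.IsArithSurface R X') (g' : X' ⟶ Y)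
    (Ug' : Y.left.Opens) (hUg' : (Ug' : Set Y.left).Nonempty) (hisog' : IsIso (g'.left ∣_ Ug')) :
    ∃! h : X' ⟶ X, h ≫ g = g' := by
  haveI := ArInt.isSurf_of_isArithSurface hX
  haveI := ArInt.isSurf_of_isArithSurface hX'
  haveI : ArInt.IsSurf (Over.mk X'.hom) := ArInt.isSurf_of_isArithSurface hX'
  haveI : Flat X'.hom := hX'.2.2.2.1
  haveI := hisog; haveI := hisog'
  haveI : IsProper Y.hom := ArInt.isProper_of_isProjectiveOver hproj
  haveI : IsProper g.left := by
    haveI : IsProper (g.left ≫ Y.hom) := by rw [Over.w g]; infer_instance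
    exact IsProper.of_comp g.left Y.hom
  let O := Ug ⊓ Ug'
  have hηO : genericPoint Y.left ∈ O := by
    obtain ⟨a, ha⟩ := hUg
    obtain ⟨b, hb⟩ := hUg'
    exact ⟨((genericPoint_spec Y.left).specializes (Set.mem_univ a)).mem_open Ug.2 ha,
      ((genericPoint_spec Y.left).specializes (Set.mem_univ b)).mem_open Ug'.2 hb⟩
  haveI : IsIso (g.left ∣_ O) := isIso_restrict_of_le g.left inf_le_left
  obtain ⟨hη', -⟩ := ArInt.birational_of_isIso_restrict g'.left Ug' hUg' hisog'
  have hU : ((g'.left ⁻¹ᵁ O : X'.left.Opens) : Set X'.left).Nonempty :=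
    ⟨genericPoint X'.left, show g'.left _ ∈ O from hη'.symm ▸ hηO⟩
  let φ := (g'.left ∣_ O) ≫ inv (g.left ∣_ O) ≫ (g.left ⁻¹ᵁ O).ι
  have hφ : φ ≫ g.left = (g'.left ⁻¹ᵁ O).ι ≫ g'.left := by
    simp only [φ, Category.assoc, ← morphismRestrict_ι, IsIso.inv_hom_id_assoc]
  obtain ⟨W, r, h, hr, hh, -⟩ := exists_extend (S := Y.left) hX'.1 hX'.2.2.1.le g'.left g.left
    (g'.left ⁻¹ᵁ O) hU φ hφ
  obtain ⟨ψ, hψ⟩ := exists_factor_seq hnor hdim hproj X hX g Ug hUg hisog hexc hr X'.hom g'.left (Over.w g')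
    Ug' hUg' hisog' h hh
  obtain ⟨hWi, -, -, -, V, hV, hViso⟩ := contractionSeq_props hr hX'.1
  haveI := hWi
  obtain ⟨hrη, -⟩ := ArInt.birational_of_isIso_restrict r V hV hViso
  haveI : IsDominant r := ⟨dense_iff_closure_eq.2 (Set.eq_univ_of_univ_subset
    ((genericPoint_spec X'.left).def.symm.subset.trans (closure_mono (Set.singleton_subset_iff.2 ⟨_, hrη⟩))))⟩
  have hψY : (ψ ≫ g.left) ≫ Y.hom = g'.left ≫ Y.hom := ext_of_isDominant r (by
    simp only [Category.assoc, reassoc_of% hψ, reassoc_of% hh])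
  have hψg : ψ ≫ g.left = g'.left :=
    ext_of_isDominant_of_isSeparated Y.hom hψY r (by rw [reassoc_of% hψ, hh])
  let a : X' ⟶ X := Over.homMk ψ (by
    show ψ ≫ X.hom = X'.hom
    rw [← Over.w g, ← Category.assoc, hψg, Over.w g'])
  refine ⟨a, Over.OverMorphism.ext hψg, fun a' ha' => Over.OverMorphism.ext ?_⟩
  have ha'g : a'.left ≫ g.left = g'.left := congrArg (fun t : X' ⟶ Y => t.left) ha'
  haveI : IsDominant (g'.left ⁻¹ᵁ O).ι := ⟨by
    rw [DenseRange, Scheme.Opens.range_ι]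
    exact IsOpen.dense (g'.left ⁻¹ᵁ O).2 hU⟩
  refine ext_of_isDominant_of_isSeparated X.hom ((Over.w a').trans (Over.w a).symm) (g'.left ⁻¹ᵁ O).ι ?_
  have key : ∀ t : X'.left ⟶ X.left, t ≫ g.left = g'.left → (g'.left ⁻¹ᵁ O).ι ≫ t = φ := fun t ht => by
    have hle : g'.left ⁻¹ᵁ O ≤ t ⁻¹ᵁ (g.left ⁻¹ᵁ O) := by rw [← ht]; exact le_rfl
    have hl : t.resLE _ _ hle ≫ (g.left ∣_ O) = g'.left ∣_ O := by
      rw [← cancel_mono O.ι, Category.assoc, morphismRestrict_ι, Scheme.Hom.resLE_comp_ι_assoc, ht,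
        morphismRestrict_ι]
    rw [← Scheme.Hom.resLE_comp_ι t hle, show t.resLE _ _ hle = (g'.left ∣_ O) ≫ inv (g.left ∣_ O) by
      rw [← hl, Category.assoc, IsIso.hom_inv_id, Category.comp_id], Category.assoc]
  exact (key _ ha'g).trans (key ψ hψg).symm

end Groth.Agent.ResolveX
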