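import Groth.Agent.ResolveX.Principalize

/-!
# Residual colength of ideals on regular surfaces
-/

set_option autoImplicit false
set_option linter.style.haveILetI false
set_option linter.unusedSectionVars false
set_option backward.isDefEq.respectTransparency false
set_option backward.isDefEq.respectTransparency.types false
set_option maxHeartbeats 1000000

universe u

open CategoryTheory CategoryTheory.Limits AlgebraicGeometry TopologicalSpace IsLocalRing

attribute [local instance 2000] CategoryTheory.CategoryStruct.toQuiver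

noncomputable section

namespace Groth.Agent.ResolveX

open Groth.Agent

/-- An ideal contained in no prime but the maximal one has finite colength. -/
theorem length_ne_top_of_primary {A : Type u} [CommRing A] [IsLocalRing A] [IsNoetherianRing A] (K : Ideal A)
    (h : ∀ P : Ideal A, P.IsPrime → K ≤ P → P = maximalIdeal A) : Module.length A (A ⧸ K) ≠ ⊤ := by
  haveI : Ring.KrullDimLE 0 (A ⧸ K) := Ring.krullDimLE_zero_iff.2 fun Q hQ => by
    have hc : Q.comap (Ideal.Quotient.mk K) = maximalIdeal A := h _ (hQ.comap _) fun a ha => by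
      show Ideal.Quotient.mk K a ∈ Q
      rw [Ideal.Quotient.eq_zero_iff_mem.2 ha]; exact Q.zero_mem
    have hQ' : Q = (maximalIdeal A).map (Ideal.Quotient.mk K) := by
      rw [← hc, Ideal.map_comap_of_surjective _ Ideal.Quotient.mk_surjective]
    rw [hQ']
    exact (Ideal.map_eq_top_or_isMaximal_of_surjective _ Ideal.Quotient.mk_surjective (maximalIdeal.isMaximal A)).resolve_left
      (hQ' ▸ hQ.ne_top)
  haveI : IsArtinianRing (A ⧸ K) := isArtinianRing_iff_isNoetherianRing_krullDimLE_zero.2 ⟨inferInstance, inferInstance⟩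
  haveI : IsArtinian A (A ⧸ K) := isArtinian_of_surjective_algebraMap (R := A ⧸ K) (S := A) Ideal.Quotient.mk_surjective
  exact Module.length_ne_top_iff.2 (isFiniteLength_iff_isNoetherian_isArtinian.2 ⟨inferInstance, inferInstance⟩)

/-- A nonzero ideal of a two-dimensional factorial local ring is an element times an ideal of finite colength. -/
theorem exists_factor_finite {A : Type u} [CommRing A] [IsDomain A] [IsLocalRing A] [IsNoetherianRing A]
    [UniqueFactorizationMonoid A] (L : Ideal A) (hL : L ≠ ⊥) :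
    ∃ (g : A) (K : Ideal A), g ≠ 0 ∧ L = Ideal.span {g} * K ∧
      (ringKrullDim A ≤ 2 → Module.length A (A ⧸ K) ≠ ⊤) := by
  obtain ⟨K, ⟨g, hg, hgK⟩, hmax⟩ := set_has_maximal_iff_noetherian.2 (inferInstance : IsNoetherian A A)
    {K : Ideal A | ∃ g : A, g ≠ 0 ∧ L = Ideal.span {g} * K}
    ⟨L, 1, one_ne_zero, by rw [Ideal.span_singleton_one, Ideal.top_mul]⟩
  refine ⟨g, K, hg, hgK, fun hdim => length_ne_top_of_primary K fun P hP hKP => ?_⟩
  have hK0 : K ≠ ⊥ := fun h => hL (by rw [hgK, h, Ideal.mul_bot])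
  have hP0 : P ≠ ⊥ := fun h => hK0 (le_bot_iff.1 (h ▸ hKP))
  obtain ⟨π, hπP, hπ⟩ := hP.exists_mem_prime_of_ne_bot hP0
  haveI : (Ideal.span {π}).IsPrime := (Ideal.span_singleton_prime hπ.ne_zero).2 hπ
  have hKπ : ¬ K ≤ Ideal.span {π} := fun hle => by
    let K' : Ideal A := Submodule.comap (LinearMap.mulLeft A π) K
    have hK' : K = Ideal.span {π} * K' := by
      refine le_antisymm (fun z hz => ?_) ?_
      · obtain ⟨w, rfl⟩ := Ideal.mem_span_singleton.1 (hle hz)
        exact Ideal.mul_mem_mul (Ideal.mem_span_singleton_self _) hz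
      · rw [Ideal.mul_le]
        intro a ha w hw
        obtain ⟨e, rfl⟩ := Ideal.mem_span_singleton.1 ha
        rw [show π * e * w = e * (π * w) by ring]
        exact Ideal.mul_mem_left _ _ hw
    have hle' : K ≤ K' := fun z hz => Ideal.mul_mem_left K π hz
    have heq : K' = K := by
      refine (hle'.eq_or_lt.resolve_right fun hlt => hmax K' ⟨g * π, mul_ne_zero hg hπ.ne_zero, ?_⟩ hlt).symm
      rw [← Ideal.span_singleton_mul_span_singleton, mul_assoc, ← hK', hgK]
    refine hK0 (Submodule.eq_bot_of_le_smul_of_le_jacobson_bot (Ideal.span {π}) K (IsNoetherian.noetherian K) ?_ ?_)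
    · rw [smul_eq_mul]; exact hK'.le.trans (by rw [heq])
    · exact ((Ideal.span_singleton_le_iff_mem _).2 ((mem_maximalIdeal _).2 hπ.not_unit)).trans
        (IsLocalRing.maximalIdeal_le_jacobson _)
  have hlt : Ideal.span {π} < P := lt_of_le_of_ne ((Ideal.span_singleton_le_iff_mem _).2 hπP) fun h => hKπ (h ▸ hKP)
  by_contra hne
  have hlt2 : P < maximalIdeal A := lt_of_le_of_ne (le_maximalIdeal hP.ne_top) hne
  have hbot : (⊥ : Ideal A) < Ideal.span {π} :=
    bot_lt_iff_ne_bot.2 (by rw [Ne, Ideal.span_singleton_eq_bot]; exact hπ.ne_zero)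
  have h1 := Ideal.height_add_one_le_of_lt_of_isPrime hbot
  have h2 := Ideal.height_add_one_le_of_lt_of_isPrime hlt
  have h4 := Ideal.height_add_one_le_of_lt_of_isPrime hlt2
  have h6 : (maximalIdeal A).height ≤ 2 := WithBot.coe_le_coe.1 (by
    rw [IsLocalRing.maximalIdeal_height_eq_ringKrullDim]; exact hdim)
  have h7 : (1 : ℕ∞) + 1 + 1 ≤ 2 :=
    (add_le_add (le_trans (add_le_add (le_add_self.trans h1) le_rfl) h2) le_rfl).trans (h4.trans h6)
  exact absurd h7 (by norm_num)

/-- At an isolated point of the cosupport the stalk ideal has finite colength. -/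
theorem length_stI_ne_top {X : Scheme.{u}} [IsLocallyNoetherian X] (I : X.IdealSheafData) {T : Set X}
    (hI : (I.support : Set X) ⊆ T) (hT : ∀ z ∈ T, IsClosed ({z} : Set X)) (p : X) :
    Module.length (X.presheaf.stalk p) (X.presheaf.stalk p ⧸ Div21Lib.stI I p) ≠ ⊤ := by
  refine length_ne_top_of_primary _ fun P hP hle => ?_
  obtain ⟨U, hU, hpU, -⟩ := exists_isAffineOpen_mem_and_subset (x := p) (U := ⊤) trivial
  letI := TopCat.Presheaf.algebra_section_stalk X.presheaf ⟨p, hpU⟩
  let Pp := (hU.primeIdealOf ⟨p, hpU⟩).asIdeal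
  haveI : IsLocalization.AtPrime (X.presheaf.stalk p) Pp := hU.isLocalization_stalk ⟨p, hpU⟩
  let Q : PrimeSpectrum Γ(X, U) := ⟨P.comap (algebraMap Γ(X, U) (X.presheaf.stalk p)), hP.comap _⟩
  let z := hU.fromSpec Q
  have hzU : z ∈ U := by
    have h : z ∈ Set.range hU.fromSpec := ⟨Q, rfl⟩
    rwa [hU.range_fromSpec] at h
  have hzI : z ∈ (I.support : Set X) := by
    refine (Scheme.IdealSheafData.mem_support_iff_of_mem (U := ⟨U, hU⟩) hzU).2 ?_
    refine (Scheme.mem_zeroLocus_iff _ _ _).2 fun s hs hzs => ?_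
    have h : Q ∈ hU.fromSpec ⁻¹ᵁ X.basicOpen s := hzs
    rw [hU.fromSpec_preimage_basicOpen] at h
    refine h (show algebraMap Γ(X, U) (X.presheaf.stalk p) s ∈ P from hle ?_)
    rw [Div21Lib.stI_eq I ⟨U, hU⟩ hpU]
    exact Ideal.mem_map_of_mem _ hs
  have hQle : Q.asIdeal ≤ Pp := fun r hr => by
    by_contra hn
    exact hP.ne_top (Ideal.eq_top_of_isUnit_mem _ hr (IsLocalization.map_units (X.presheaf.stalk p) (⟨r, hn⟩ : Pp.primeCompl)))
  have hsp : z ⤳ hU.fromSpec (hU.primeIdealOf ⟨p, hpU⟩) :=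
    ((PrimeSpectrum.le_iff_specializes Q (hU.primeIdealOf ⟨p, hpU⟩)).1 hQle).map hU.fromSpec.continuous
  have heq : hU.fromSpec (hU.primeIdealOf ⟨p, hpU⟩) = z := hsp.mem_closed (hT z (hI hzI)) rfl
  have hQ : (hU.primeIdealOf ⟨p, hpU⟩) = Q := hU.fromSpec.isOpenEmbedding.injective heq
  have hQI : Q.asIdeal = Pp := (congrArg PrimeSpectrum.asIdeal hQ).symm
  refine (maximalIdeal.isMaximal _).eq_of_le hP.ne_top ?_ |>.symm
  rw [← IsLocalization.AtPrime.map_eq_maximalIdeal Pp (X.presheaf.stalk p), Ideal.map_le_iff_le_comap, ← hQI]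

/-- A principalisation exists as soon as the residual colengths are finite. -/
theorem exists_principalize_of_good {X : Scheme.{u}} [IsNoetherian X] (J : X.IdealSheafData)
    (h : ∀ p : X, ¬ CartierAt J p → IsClosed ({p} : Set X) ∧ IsRegularLocalRing (X.presheaf.stalk p) ∧
      ringKrullDim (X.presheaf.stalk p) = 2 ∧ ∃ ℓ, Residual J p ℓ) :
    ∃ (X' : Scheme.{u}) (g : X' ⟶ X), Models.IsContractionSeq g ∧
      (∀ V : X.Opens, (∀ q ∈ V, CartierAt J q) → IsIso (g ∣_ V)) ∧ BlowUp.IsEffCartierIdeal (J.comap g) := by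
  classical
  have hfin : {p : X | ¬ CartierAt J p}.Finite :=
    finite_of_closed (isClosed_not_cartierAt J) fun p hp => (h p hp).1
  let l : X → ℕ := fun p => if hp : ¬ CartierAt J p then Classical.choose (h p hp).2.2.2 else 0
  refine exists_principalize (hfin.toFinset.sup l) X J fun p hp => ?_
  obtain ⟨h1, h2, h3, hex⟩ := h p hp
  refine ⟨h1, h2, h3, ?_⟩
  obtain ⟨g, K, hg, he, hl⟩ := Classical.choose_spec (h p hp).2.2.2
  refine ⟨g, K, hg, he, hl.trans ?_⟩
  have : l p ≤ hfin.toFinset.sup l := Finset.le_sup (hfin.mem_toFinset.2 hp)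
  simp only [l, dif_pos hp] at this
  exact_mod_cast this

end Groth.Agent.ResolveX
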