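import Groth.Agent.ResolveX.RatioIdeal
import Groth.Agent.ResolveX.PrincipalizeApps

/-!
# Point blow-ups dominate proper birational morphisms to regular surfaces
-/

set_option autoImplicit false
set_option linter.style.haveILetI false
set_option linter.unusedSectionVars false
set_option backward.isDefEq.respectTransparency false
set_option backward.isDefEq.respectTransparency.types false
set_option maxHeartbeats 1000000

universe u

open CategoryTheory CategoryTheory.Limits AlgebraicGeometry TopologicalSpace IsLocalRing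

attribute [local instance 2000] CategoryTheory.CategoryStruct.toQuiver

noncomputable section

namespace Groth.Agent.ResolveX

open Groth.Agent

/-- Base change of an isomorphism over an open. -/
theorem isIso_snd_of_restrict {X Y T : Scheme.{u}} (f : X ⟶ Y) (π : T ⟶ Y) {U : Y.Opens} [IsIso (f ∣_ U)]
    {D : T.Opens} (hD : D ≤ π ⁻¹ᵁ U) : IsIso ((pullback.snd f π) ∣_ D) := by
  let k : (D : Scheme.{u}) ⟶ U := π.resLE U D hD
  have hk : k ≫ U.ι = D.ι ≫ π := Scheme.Hom.resLE_comp_ι _ _
  have big := (isPullback_morphismRestrict (pullback.snd f π) D).flip.paste_horiz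
    (IsPullback.of_hasPullback f π)
  have hr := (isPullback_morphismRestrict f U).flip
  let l : ((pullback.snd f π ⁻¹ᵁ D : (pullback f π).Opens) : Scheme.{u}) ⟶ (f ⁻¹ᵁ U : X.Opens) :=
    hr.lift ((pullback.snd f π ⁻¹ᵁ D).ι ≫ pullback.fst f π) (pullback.snd f π ∣_ D ≫ k)
      (by rw [Category.assoc _ k, hk, big.w])
  have big' : IsPullback (l ≫ (f ⁻¹ᵁ U).ι) (pullback.snd f π ∣_ D) f (k ≫ U.ι) := by
    rw [hk, hr.lift_fst]; exact big
  have left := IsPullback.of_right big' (hr.lift_snd _ _ _) hr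
  exact MorphismProperty.of_isPullback (P := MorphismProperty.isomorphisms Scheme) left
    (inferInstance : IsIso (f ∣_ U))

/-- If the generators are fractions with comparable terms, the whole algebra maps into the local subring. -/
theorem mem_range_of_comparable {R S A B : Type u} [CommRing R] [CommRing S] [CommRing A] [IsLocalRing A]
    [CommRing B] [IsDomain B] (i : R →+* S) (τ : R →+* A) (ρ : S →+* B) (σ : A →+* B) [IsLocalHom σ]
    (hσ : Function.Injective σ) (hcomm : ∀ r, ρ (i r) = σ (τ r)) (gens : Set S)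
    (hgen : Subring.closure (Set.range i ∪ gens) = ⊤)
    (hcomp : ∀ h ∈ gens, ∃ a b : R, h * i b = i a ∧ τ b ≠ 0 ∧ (τ b ∣ τ a ∨ τ a ∣ τ b)) (h : S) :
    ρ h ∈ σ.range := by
  refine (Subring.closure_le (t := σ.range.comap ρ)).2 ?_ (hgen.ge (Subring.mem_top h))
  rintro h (⟨r, rfl⟩ | hh)
  · exact ⟨τ r, (hcomm r).symm⟩
  obtain ⟨a, b, hrel, hb, hd⟩ := hcomp h hh
  have hσb : σ (τ b) ≠ 0 := fun h0 => hb (hσ (h0.trans (map_zero σ).symm))
  have hrel' : ρ h * σ (τ b) = σ (τ a) := by rw [← hcomm, ← hcomm, ← map_mul, hrel]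
  rcases hd with ⟨c, hc⟩ | ⟨c, hc⟩
  · refine ⟨c, mul_right_cancel₀ hσb ?_⟩
    rw [hrel', hc, map_mul, mul_comm]
  · have hσa : σ (τ a) ≠ 0 := fun h0 => hσb (by rw [hc, map_mul, h0, zero_mul])
    have h1 : ρ h * σ c = 1 := mul_left_cancel₀ hσa (by
      rw [hc, map_mul] at hrel'
      linear_combination hrel')
    obtain ⟨c', rfl⟩ := (isUnit_map_iff σ c).1 (IsUnit.of_mul_eq_one_right _ h1)
    refine ⟨↑c'⁻¹, ?_⟩
    have h2 : σ (↑c'⁻¹ : A) * σ (c' : A) = 1 := by rw [← map_mul, Units.inv_mul, map_one]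
    linear_combination (ρ h) * h2 - (σ (↑c'⁻¹ : A)) * h1

section Birational

variable {X Y : Scheme.{u}} [IsIntegral X] [IsIntegral Y] (f : Y ⟶ X) (V : X.Opens)
  (hV : (V : Set X).Nonempty) (hiso : IsIso (f ∣_ V))

include hV hiso in
/-- Functions on an affine open of a birational cover are fractions of functions on the base. -/
theorem exists_fraction_rel {U : X.Opens} (hU : IsAffineOpen U) {W : Y.Opens} (e : W ≤ f ⁻¹ᵁ U) {w : Y} (hw : w ∈ W)
    (h : Γ(Y, W)) : ∃ a b : Γ(X, U), b ≠ 0 ∧ h * f.appLE U W e b = f.appLE U W e a := by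
  obtain ⟨hη, hbij⟩ := ArInt.birational_of_isIso_restrict f V hV hiso
  have hηW : genericPoint Y ∈ W := ((genericPoint_spec Y).specializes (Set.mem_univ w)).mem_open W.2 hw
  have hfη : f (genericPoint Y) ∈ U := e hηW
  have hηU : genericPoint X ∈ U := hη ▸ hfη
  haveI : Nonempty U := ⟨⟨_, hηU⟩⟩
  haveI := functionField_isFractionRing_of_isAffineOpen X U hU
  obtain ⟨k, hk⟩ := hbij.2 (Y.presheaf.germ W (genericPoint Y) hηW h)
  obtain ⟨⟨a, b⟩, hab⟩ := IsLocalization.surj (nonZeroDivisors Γ(X, U)) (S := X.functionField) k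
  refine ⟨a, b.1, nonZeroDivisors.ne_zero b.2, germ_injective_of_isIntegral Y _ hηW ?_⟩
  have hg : ∀ r : Γ(X, U), Y.presheaf.germ W (genericPoint Y) hηW (f.appLE U W e r) =
      (X.presheaf.stalkSpecializes (specializes_of_eq hη) ≫ f.stalkMap (genericPoint Y)).hom
        (algebraMap Γ(X, U) X.functionField r) := fun r => by
    show _ = (f.stalkMap (genericPoint Y)).hom ((X.presheaf.stalkSpecializes (specializes_of_eq hη)).hom
      (X.presheaf.germ U (genericPoint X) hηU r))
    rw [TopCat.Presheaf.germ_stalkSpecializes_apply, Scheme.Hom.germ_stalkMap_apply, Scheme.Hom.appLE,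
      CommRingCat.comp_apply, TopCat.Presheaf.germ_res_apply]
  rw [map_mul, hg, hg, ← hk, ← map_mul]
  exact congrArg _ hab

end Birational

/-- A morphism factors through a proper birational one when the coordinate functions are comparable. -/
theorem exists_lift_of_comparable {X Y X' : Scheme.{u}} [IsIntegral X] [IsIntegral Y] [IsNoetherian X]
    [IsIntegral X'] [IsNoetherian X'] (f : Y ⟶ X) [IsProper f] (g : X' ⟶ X) (V : X.Opens)
    (hfiso : IsIso (f ∣_ V)) (hV' : ((g ⁻¹ᵁ V : X'.Opens) : Set X').Nonempty)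
    (hn : Pi1.IsNormalScheme X') (hginj : ∀ p : X', Function.Injective (g.stalkMap p).hom)
    {κ : Type u} (W : κ → Y.affineOpens) (U : κ → X.affineOpens) (e : ∀ k, (W k).1 ≤ f ⁻¹ᵁ (U k).1)
    (hcov : ∀ y : Y, ∃ k, y ∈ (W k).1) (gens : ∀ k, Set Γ(Y, (W k).1))
    (hgen : ∀ k, Subring.closure (Set.range (f.appLE (U k).1 (W k).1 (e k)) ∪ gens k) = ⊤)
    (hcomp : ∀ k, ∀ h ∈ gens k, ∀ (p : X') (hp : g p ∈ (U k).1), ∃ a b : Γ(X, (U k).1), b ≠ 0 ∧
      h * f.appLE (U k).1 (W k).1 (e k) b = f.appLE (U k).1 (W k).1 (e k) a ∧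
      ((g.stalkMap p).hom (X.presheaf.germ _ (g p) hp b) ∣ (g.stalkMap p).hom (X.presheaf.germ _ (g p) hp a) ∨
       (g.stalkMap p).hom (X.presheaf.germ _ (g p) hp a) ∣ (g.stalkMap p).hom (X.presheaf.germ _ (g p) hp b))) :
    ∃ h : X' ⟶ Y, h ≫ f = g := by
  haveI := hfiso
  let P := pullback f g
  let s : P ⟶ X' := pullback.snd f g
  let q : P ⟶ Y := pullback.fst f g
  haveI : IsProper s := MorphismProperty.pullback_snd f g ‹_›
  let V' : X'.Opens := g ⁻¹ᵁ V
  haveI : IsIso (s ∣_ V') := isIso_snd_of_restrict f g le_rfl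
  have hηV' : genericPoint X' ∈ V' := by
    obtain ⟨v, hv⟩ := hV'
    exact ((genericPoint_spec X').specializes (Set.mem_univ v)).mem_open V'.2 hv
  obtain ⟨⟨ξ, hξV⟩, hξ⟩ := (s ∣_ V').homeomorph.surjective ⟨genericPoint X', hηV'⟩
  have hsξ : s ξ = genericPoint X' := (morphismRestrict_base_coe s V' ⟨ξ, hξV⟩).symm.trans (congrArg Subtype.val hξ)
  have hinjs : ∀ a b : P, s a ∈ V' → s a = s b → a = b := fun a b ha hab =>
    congrArg Subtype.val ((s ∣_ V').homeomorph.injective (a₁ := (⟨a, ha⟩ : ↥(s ⁻¹ᵁ V'))) (a₂ := ⟨b, show s b ∈ V' from hab ▸ ha⟩)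
      (Subtype.ext ((morphismRestrict_base_coe s V' ⟨a, ha⟩).trans
        (hab.trans (morphismRestrict_base_coe s V' ⟨b, show s b ∈ V' from hab ▸ ha⟩).symm))))
  -- the closure of the graph
  let Z : Closeds P := ⟨closure {ξ}, isClosed_closure⟩
  let I := Scheme.IdealSheafData.vanishingIdeal Z
  let G := I.subscheme
  have hrange : Set.range I.subschemeι = closure {ξ} := by
    rw [Scheme.IdealSheafData.range_subschemeι, Scheme.IdealSheafData.coe_support_vanishingIdeal]
    rfl
  haveI : IsReduced G := inferInstanceAs (IsReduced (Scheme.IdealSheafData.vanishingIdeal Z).subscheme)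
  have hirr : IrreducibleSpace G := by
    have h1 : IsIrreducible (Set.range I.subschemeι) := hrange ▸ isIrreducible_singleton.closure
    have h2 : IsPreirreducible (Set.univ : Set G) := by
      intro u v hu hv ⟨a, _, ha⟩ ⟨b, _, hb⟩
      obtain ⟨u', hu', rfl⟩ := I.subschemeι.isClosedEmbedding.isInducing.isOpen_iff.1 hu
      obtain ⟨v', hv', rfl⟩ := I.subschemeι.isClosedEmbedding.isInducing.isOpen_iff.1 hv
      obtain ⟨_, ⟨c, rfl⟩, hcu, hcv⟩ := h1.2 u' v' hu' hv' ⟨_, ⟨a, rfl⟩, ha⟩ ⟨_, ⟨b, rfl⟩, hb⟩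
      exact ⟨c, trivial, hcu, hcv⟩
    obtain ⟨_, ⟨v, rfl⟩⟩ := h1.1
    exact { toPreirreducibleSpace := ⟨h2⟩, toNonempty := ⟨v⟩ }
  haveI : IsIntegral G := isIntegral_of_irreducibleSpace_of_isReduced G
  let π : G ⟶ X' := I.subschemeι ≫ s
  haveI : IsProper π := inferInstanceAs (IsProper (I.subschemeι ≫ s))
  have hVsub : (s ⁻¹' V' : Set P) ⊆ closure {ξ} := fun a ha => by
    have hc : IsClosed (s '' closure ({ξ} : Set P)) := s.isClosedMap _ isClosed_closure
    have hgmem : genericPoint X' ∈ s '' closure ({ξ} : Set P) :=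
      ⟨ξ, subset_closure (Set.mem_singleton ξ), hsξ⟩
    obtain ⟨b, hb, hb'⟩ : s a ∈ s '' closure ({ξ} : Set P) :=
      ((genericPoint_spec X').specializes (Set.mem_univ _)).mem_closed hc hgmem
    exact hinjs a b ha hb'.symm ▸ hb
  haveI hπiso : IsIso (π ∣_ V') := by
    haveI : IsReduced ((s ⁻¹ᵁ V' : P.Opens) : Scheme.{u}) := isReduced_of_isOpenImmersion (s ∣_ V')
    haveI : Surjective (I.subschemeι ∣_ (s ⁻¹ᵁ V')) := ⟨fun a => by
      obtain ⟨v, hv⟩ := hrange.ge (hVsub a.2)
      exact ⟨⟨v, show I.subschemeι v ∈ s ⁻¹ᵁ V' from hv ▸ a.2⟩, Subtype.ext ((morphismRestrict_base_coe _ _ _).trans hv)⟩⟩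
    haveI := isIso_of_isClosedImmersion_of_surjective (I.subschemeι ∣_ (s ⁻¹ᵁ V'))
    show IsIso ((I.subschemeι ≫ s) ∣_ V')
    rw [morphismRestrict_comp]
    infer_instance
  obtain ⟨hπη, hπbij⟩ := ArInt.birational_of_isIso_restrict π V' hV' hπiso
  have hπinj : ∀ z : G, Function.Injective (π.stalkMap z).hom := fun z => (birational_stalkMap π V' hV' hπiso z).1
  -- the local lift at the image of a point
  have hloc : ∀ (p : X') (z : G) (hz : π z = p), ∃ m : Spec (X'.presheaf.stalk p) ⟶ Y,
      m ≫ f = X'.fromSpecStalk p ≫ g ∧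
      Spec.map (X'.presheaf.stalkSpecializes (specializes_of_eq hz) ≫ π.stalkMap z) ≫ m =
        G.fromSpecStalk z ≫ I.subschemeι ≫ q := by
    intro p z hz
    obtain ⟨k, hk⟩ := hcov ((I.subschemeι ≫ q) z)
    have hgp : g p ∈ (U k).1 := by
      have h : f (q (I.subschemeι z)) = g (s (I.subschemeι z)) := by
        show (pullback.fst f g ≫ f) (I.subschemeι z) = (pullback.snd f g ≫ g) (I.subschemeι z)
        rw [pullback.condition]
      rw [← hz]
      exact (h ▸ e k hk : g (s (I.subschemeι z)) ∈ (U k).1)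
    let σ : X'.presheaf.stalk p ⟶ G.presheaf.stalk z :=
      X'.presheaf.stalkSpecializes (specializes_of_eq hz) ≫ π.stalkMap z
    haveI : IsIso (X'.presheaf.stalkSpecializes (specializes_of_eq hz)) :=
      BirNormal.isIso_stalkSpecializes_of_eq hz (specializes_of_eq hz)
    haveI : IsLocalHom σ.hom := by
      rw [CommRingCat.hom_comp]
      exact RingHom.isLocalHom_comp _ _
    have hσinj : Function.Injective σ.hom := fun a b hab =>
      ((ConcreteCategory.isIso_iff_bijective (X'.presheaf.stalkSpecializes (specializes_of_eq hz))).1 inferInstance).1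
        (hπinj z hab)
    let ρ : Γ(Y, (W k).1) ⟶ G.presheaf.stalk z :=
      Y.presheaf.germ (W k).1 ((I.subschemeι ≫ q) z) hk ≫ (I.subschemeι ≫ q).stalkMap z
    let τ : Γ(X, (U k).1) ⟶ X'.presheaf.stalk p := X.presheaf.germ (U k).1 (g p) hgp ≫ g.stalkMap p
    have hρ : Spec.map ρ ≫ (W k).2.fromSpec = G.fromSpecStalk z ≫ I.subschemeι ≫ q := by
      rw [← Scheme.SpecMap_stalkMap_fromSpecStalk, Spec.map_comp, Category.assoc,
        ← (W k).2.fromSpecStalk_eq_fromSpecStalk hk]
      rfl
    have hτ : Spec.map τ ≫ (U k).2.fromSpec = X'.fromSpecStalk p ≫ g := by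
      rw [← Scheme.SpecMap_stalkMap_fromSpecStalk, Spec.map_comp, Category.assoc,
        ← (U k).2.fromSpecStalk_eq_fromSpecStalk hgp]
      rfl
    have hσ : Spec.map σ ≫ X'.fromSpecStalk p = G.fromSpecStalk z ≫ π := by
      rw [Spec.map_comp, Category.assoc, Scheme.SpecMap_stalkSpecializes_fromSpecStalk,
        Scheme.SpecMap_stalkMap_fromSpecStalk]
    let i := f.appLE (U k).1 (W k).1 (e k)
    have hcomm : i ≫ ρ = τ ≫ σ := by
      refine Spec.map_injective ?_
      rw [← cancel_mono (U k).2.fromSpec, Spec.map_comp i ρ, Spec.map_comp τ σ, Category.assoc, Category.assoc,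
        IsAffineOpen.SpecMap_appLE_fromSpec f (U k).2 (W k).2, ← Category.assoc, hρ, hτ, ← Category.assoc (Spec.map σ),
        hσ, Category.assoc, Category.assoc, Category.assoc, Category.assoc, show q ≫ f = s ≫ g from pullback.condition]
    have hmem : ∀ h, ρ.hom h ∈ σ.hom.range := mem_range_of_comparable i.hom τ.hom ρ.hom σ.hom hσinj
      (fun r => ConcreteCategory.congr_hom hcomm r) (gens k) (hgen k) fun h hh => by
        obtain ⟨a, b, hb, hrel, hd⟩ := hcomp k h hh p hgp
        refine ⟨a, b, hrel, fun h0 => hb (germ_injective_of_isIntegral X (g p) hgp ?_), hd⟩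
        exact ((hginj p) (h0.trans (map_zero _).symm)).trans (map_zero _).symm
    let σ' := RingEquiv.ofBijective σ.hom.rangeRestrict
      ⟨fun a b hab => hσinj (congrArg Subtype.val hab), σ.hom.rangeRestrict_surjective⟩
    let ψ : Γ(Y, (W k).1) ⟶ X'.presheaf.stalk p :=
      CommRingCat.ofHom (σ'.symm.toRingHom.comp (ρ.hom.codRestrict σ.hom.range hmem))
    have hψ : ψ ≫ σ = ρ := by
      ext h
      exact congrArg Subtype.val (σ'.apply_symm_apply ⟨ρ.hom h, hmem h⟩)
    have hiψ : i ≫ ψ = τ := by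
      ext r
      refine hσinj ?_
      have h1 := ConcreteCategory.congr_hom hψ (i r)
      have h2 := ConcreteCategory.congr_hom hcomm r
      exact h1.trans h2
    refine ⟨Spec.map ψ ≫ (W k).2.fromSpec, ?_, ?_⟩
    · rw [Category.assoc, ← IsAffineOpen.SpecMap_appLE_fromSpec f (U k).2 (W k).2 (e k), ← Category.assoc,
        ← Spec.map_comp, show f.appLE (U k).1 (W k).1 (e k) ≫ ψ = τ from hiψ, hτ]
    · rw [← Category.assoc, ← Spec.map_comp, hψ, hρ]
  -- at most one point over each point
  have hinj : Function.Injective π := by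
    intro z₁ z₂ h
    obtain ⟨p, hp⟩ : ∃ p, π z₂ = p := ⟨_, rfl⟩
    obtain ⟨m₁, hm₁f, hm₁⟩ := hloc p z₁ (h.trans hp)
    obtain ⟨m₂, hm₂f, hm₂⟩ := hloc p z₂ hp
    let σ : ∀ (z : G), π z = p → (X'.presheaf.stalk p ⟶ G.presheaf.stalk z) := fun z hz =>
      X'.presheaf.stalkSpecializes (specializes_of_eq hz) ≫ π.stalkMap z
    have hσ : ∀ z hz, Spec.map (σ z hz) ≫ X'.fromSpecStalk p = G.fromSpecStalk z ≫ π := fun z hz => by
      rw [Spec.map_comp, Category.assoc, Scheme.SpecMap_stalkSpecializes_fromSpecStalk,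
        Scheme.SpecMap_stalkMap_fromSpecStalk]
    have hη : ∀ z : G, genericPoint G ⤳ z := fun z => (genericPoint_spec G).specializes trivial
    let ε : ∀ z, π z = p → (X'.presheaf.stalk p ⟶ G.presheaf.stalk (genericPoint G)) := fun z hz =>
      σ z hz ≫ G.presheaf.stalkSpecializes (hη z)
    have hε : ∀ z hz, Spec.map (ε z hz) ≫ X'.fromSpecStalk p = G.fromSpecStalk (genericPoint G) ≫ π := fun z hz => by
      rw [Spec.map_comp, Category.assoc, hσ z hz, ← Category.assoc, Scheme.SpecMap_stalkSpecializes_fromSpecStalk]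
    have hεeq : Spec.map (ε z₁ (h.trans hp)) = Spec.map (ε z₂ hp) := by
      rw [← cancel_mono (X'.fromSpecStalk p), hε _ (h.trans hp), hε _ hp]
    haveI : IsDominant (Spec.map (ε z₂ hp)) := ⟨by
      refine (PrimeSpectrum.denseRange_comap_iff_ker_le_nilRadical _).2 ?_
      have hinjε : Function.Injective (ε z₂ hp).hom := fun a b hab => by
        haveI : IsIso (X'.presheaf.stalkSpecializes (specializes_of_eq hp)) :=
          BirNormal.isIso_stalkSpecializes_of_eq hp (specializes_of_eq hp)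
        refine ((ConcreteCategory.isIso_iff_bijective (X'.presheaf.stalkSpecializes (specializes_of_eq hp))).1 inferInstance).1
          (hπinj z₂ ?_)
        exact (IsFractionRing.injective (G.presheaf.stalk z₂) G.functionField) hab
      rw [(RingHom.injective_iff_ker_eq_bot _).1 hinjε]
      exact bot_le⟩
    haveI : IsDomain (X'.presheaf.stalk p) := (hn p).1
    have hm : m₁ = m₂ := by
      refine ext_of_isDominant_of_isSeparated f (hm₁f.trans hm₂f.symm) (Spec.map (ε z₂ hp)) ?_
      conv_lhs => rw [← hεeq, Spec.map_comp, Category.assoc, hm₁, ← Category.assoc, Scheme.SpecMap_stalkSpecializes_fromSpecStalk]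
      rw [Spec.map_comp, Category.assoc, hm₂, ← Category.assoc (Spec.map _), Scheme.SpecMap_stalkSpecializes_fromSpecStalk]
    let n : Spec (X'.presheaf.stalk p) ⟶ P := pullback.lift m₂ (X'.fromSpecStalk p) hm₂f
    have hpt : ∀ z (hz : π z = p), Spec.map (σ z hz) ≫ m₂ = G.fromSpecStalk z ≫ I.subschemeι ≫ q →
        I.subschemeι z = n (closedPoint _) := fun z hz hzq => by
      have hn' : Spec.map (σ z hz) ≫ n = G.fromSpecStalk z ≫ I.subschemeι := by
        refine pullback.hom_ext ?_ ?_
        · rw [Category.assoc, pullback.lift_fst, hzq, Category.assoc]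
        · rw [Category.assoc, pullback.lift_snd, hσ z hz, Category.assoc]
      haveI : IsIso (X'.presheaf.stalkSpecializes (specializes_of_eq hz)) :=
        BirNormal.isIso_stalkSpecializes_of_eq hz (specializes_of_eq hz)
      haveI : IsLocalHom (σ z hz).hom := by
        rw [CommRingCat.hom_comp]
        exact RingHom.isLocalHom_comp _ _
      have h1 := congrArg (fun t : Spec (G.presheaf.stalk z) ⟶ P => t (closedPoint _)) hn'
      simp only [Scheme.Hom.comp_apply, Scheme.fromSpecStalk_closedPoint] at h1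
      rw [← h1]
      exact congrArg n (IsLocalRing.comap_closedPoint (σ z hz).hom)
    exact I.subschemeι.isClosedEmbedding.injective
      ((hpt z₁ (h.trans hp) (hm ▸ hm₁)).trans (hpt z₂ hp hm₂).symm)
  haveI : LocallyQuasiFinite π := LocallyQuasiFinite.of_injective hinj
  haveI : IsFinite π := IsFinite.of_isProper_of_locallyQuasiFinite π
  have hgen' : ∀ (T : Scheme.{u}) [IsIntegral T], genericPoints T = {genericPoint T} := fun T _ => by
    ext t
    show closure {t} ∈ irreducibleComponents T ↔ t = genericPoint T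
    rw [irreducibleComponents_eq_singleton, Set.mem_singleton_iff]
    exact ⟨fun h => IsGenericPoint.eq h (genericPoint_spec T), fun h => h ▸ (genericPoint_spec T).def⟩
  haveI : IsIso π := AlgSpDec.BiratNormal.isIso_of_birational π hn
    (by rw [irreducibleComponents_eq_singleton]; exact Set.finite_singleton _)
    (by
      rw [hgen', hgen']
      exact ⟨fun a ha => by rw [Set.mem_singleton_iff.1 ha]; exact hπη,
        Set.injOn_singleton _ _, fun b hb => ⟨_, rfl, hπη.trans (Set.mem_singleton_iff.1 hb).symm⟩⟩)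
    fun x hx => by
      rw [hgen', Set.mem_singleton_iff] at hx
      subst hx
      haveI := BirNormal.isIso_stalkSpecializes_of_eq hπη (specializes_of_eq hπη)
      haveI := (ConcreteCategory.isIso_iff_bijective _).2 hπbij
      exact IsIso.of_isIso_comp_left (X'.presheaf.stalkSpecializes (specializes_of_eq hπη)) _
  refine ⟨inv π ≫ I.subschemeι ≫ q, ?_⟩
  rw [Category.assoc, Category.assoc, show q ≫ f = s ≫ g from pullback.condition, ← Category.assoc I.subschemeι,
    show I.subschemeι ≫ s = π from rfl, IsIso.inv_hom_id_assoc]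

end Groth.Agent.ResolveX
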