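import Groth.Agent.ResolveX.DominateLift
import Groth.Agent.PicGlue.Cover

/-!
# Domination by sequences of point blow-ups
-/

set_option autoImplicit false
set_option linter.style.haveILetI false
set_option linter.unusedSectionVars false
set_option backward.isDefEq.respectTransparency false
set_option backward.isDefEq.respectTransparency.types false
set_option maxHeartbeats 1000000

universe u

open CategoryTheory CategoryTheory.Limits AlgebraicGeometry TopologicalSpace IsLocalRing

attribute [local instance 2000] CategoryTheory.CategoryStruct.toQuiver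

noncomputable section

namespace Groth.Agent.ResolveX

open Groth.Agent

/-- The source of a sequence of contractions to a regular integral scheme is one again. -/
theorem contractionSeq_props {Y X : Scheme.{u}} {g : Y ⟶ X} (hg : Models.IsContractionSeq g) :
    ∀ [IsIntegral X] [IsNoetherian X], (∀ x : X, IsRegularLocalRing (X.presheaf.stalk x)) →
      IsIntegral Y ∧ IsNoetherian Y ∧ (∀ y : Y, IsRegularLocalRing (Y.presheaf.stalk y)) ∧ IsProper g ∧
        ∃ V : X.Opens, (V : Set X).Nonempty ∧ IsIso (g ∣_ V) := by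
  induction hg with
  | @iso Y X e =>
    intro _ _ hX
    haveI : IsProper e.hom := inferInstance
    haveI : Nonempty Y := ⟨e.inv.base (Classical.arbitrary X)⟩
    refine ⟨isIntegral_of_isOpenImmersion e.hom, ?_, fun y => ?_, inferInstance, ⊤, ⟨Classical.arbitrary X, trivial⟩, inferInstance⟩
    · exact { toIsLocallyNoetherian := LocallyOfFiniteType.isLocallyNoetherian e.hom
              toCompactSpace := QuasiCompact.compactSpace_of_compactSpace e.hom }
    · haveI := hX (e.hom y)
      exact IsRegularLocalRing.of_ringEquiv (asIso (e.hom.stalkMap y)).commRingCatIsoToRingEquiv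
  | @step Y Z X E ι b r hι hE hb hr ih =>
    intro _ _ hX
    obtain ⟨hZi, hZn, hZr, hrp, V, hV, hViso⟩ := ih hX
    haveI := hrp
    obtain ⟨-, hbp, y, hy, -, hreg, hdim, hbl⟩ := hb
    haveI := hbp; haveI := hZi; haveI := hZn; haveI := hreg
    have hyη : genericPoint Z ≠ y := fun h => by
      have h0 : ringKrullDim Z.functionField = 0 := ringKrullDim_eq_zero_of_field _
      have h2 : ∀ p : Z, p = y → ringKrullDim (Z.presheaf.stalk p) = 2 := fun p hp => hp ▸ hdim
      exact absurd ((h2 _ h).symm.trans h0) (by norm_num)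
    have hC : Scheme.IdealSheafData.vanishingIdeal (⟨{y}, hy⟩ : Closeds Z) ≠ ⊥ := fun h => by
      have h1 : genericPoint Z ∈ ((⊥ : Z.IdealSheafData).support : Set Z) := by
        rw [Scheme.IdealSheafData.support_bot]; trivial
      rw [← h, Scheme.IdealSheafData.coe_support_vanishingIdeal] at h1
      exact hyη h1
    obtain ⟨hYi, -⟩ := S2348.result _ hC b hbl
    haveI : IsClosedImmersion (Z.fromSpecResidueField y) :=
      IsClosedImmersion.of_isPreimmersion _ (by rw [Scheme.range_fromSpecResidueField]; exact hy)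
    refine ⟨hYi, ?_, ?_, inferInstance, ?_⟩
    · exact { toIsLocallyNoetherian := LocallyOfFiniteType.isLocallyNoetherian b
              toCompactSpace := QuasiCompact.compactSpace_of_compactSpace b }
    · exact BlowExc.regular_blowUp (Z.fromSpecResidueField y) hZr (fun p => by
        haveI := S0564.result (Z.residueField y) p.asIdeal
        exact IsRegularLocalRing.of_ringEquiv (StructureSheaf.stalkIso (Z.residueField y) p).toRingEquiv)
        b (by rw [CurveDiv.ker_fromSpecResidueField y hy]; exact hbl)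
    · -- shrink the open away from the image of the centre
      haveI := hViso
      have hc : IsClosed (r '' ({y} : Set Z)) := r.isClosedMap _ hy
      let V' : X.Opens := ⟨(r '' ({y} : Set Z))ᶜ, hc.isOpen_compl⟩ ⊓ V
      obtain ⟨hη, -⟩ := ArInt.birational_of_isIso_restrict r V hV hViso
      have hηV : genericPoint X ∈ V := by
        obtain ⟨v, hv⟩ := hV
        exact ((genericPoint_spec X).specializes (Set.mem_univ v)).mem_open V.2 hv
      refine ⟨V', ⟨genericPoint X, ⟨?_, hηV⟩⟩, ?_⟩
      · rintro ⟨q, (hq : q = y), hry⟩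
        rw [hq] at hry
        refine hyη (congrArg Subtype.val ((r ∣_ V).homeomorph.injective
          (a₁ := (⟨genericPoint Z, show r (genericPoint Z) ∈ V from hη.symm ▸ hηV⟩ : ↥(r ⁻¹ᵁ V))) (a₂ := ⟨y, show r y ∈ V from hry.symm ▸ hηV⟩)
          (Subtype.ext ((morphismRestrict_base_coe r V _).trans
            ((hη.trans hry.symm).trans (morphismRestrict_base_coe r V ⟨y, show r y ∈ V from hry.symm ▸ hηV⟩).symm)))))
      · haveI : IsIso (b ∣_ (r ⁻¹ᵁ V')) := BlowUpLib.isIso_restrict hbl _ fun q hq => by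
          show q ∉ ((Scheme.IdealSheafData.vanishingIdeal ⟨{y}, hy⟩).support : Set Z)
          rw [Scheme.IdealSheafData.coe_support_vanishingIdeal]
          exact fun h => hq.1 ⟨y, rfl, congrArg r (Set.mem_singleton_iff.1 h).symm⟩
        haveI : IsIso (r ∣_ V') := PicGlue.isIso_restrict_of_le r inf_le_right
        rw [morphismRestrict_comp]
        infer_instance

/-- A stalk ideal vanishes only for the zero ideal sheaf. -/
theorem stI_eq_bot_imp {X : Scheme.{u}} [IsIntegral X] (I : X.IdealSheafData) (p : X)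
    (h0 : Div21Lib.stI I p = ⊥) : I = ⊥ := by
  refine Scheme.IdealSheafData.ext (funext fun V => ?_)
  rw [Scheme.IdealSheafData.ideal_bot]
  refine (le_bot_iff.1 fun s hs => (Ideal.mem_bot).2 ?_)
  rcases isEmpty_or_nonempty ↥V.1 with hV | ⟨⟨v, hv⟩⟩
  · have hVb : (V.1 : X.Opens) = ⊥ := le_bot_iff.1 fun v hv => (IsEmpty.false (⟨v, hv⟩ : V.1)).elim
    haveI : Subsingleton Γ(X, V.1) := by rw [hVb]; infer_instance
    exact Subsingleton.elim _ _
  have hη : genericPoint X ∈ V.1 := ((genericPoint_spec X).specializes (Set.mem_univ v)).mem_open V.1.2 hv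
  have hsp : genericPoint X ⤳ p := (genericPoint_spec X).specializes trivial
  have h1 : Div21Lib.stI I (genericPoint X) = ⊥ := by
    rw [← Div21Lib.stI_generize I hsp, h0, Ideal.map_bot]
  rw [Div21Lib.stI_eq I V hη] at h1
  have h2 : X.presheaf.germ V.1 (genericPoint X) hη s = 0 := Ideal.mem_bot.1 (h1 ▸ Ideal.mem_map_of_mem _ hs)
  exact germ_injective_of_isIntegral X (genericPoint X) hη (h2.trans (map_zero _).symm)

/-- Point blow-ups dominate every proper birational morphism to a regular surface. -/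
theorem exists_dominate {X Y : Scheme.{u}} [IsIntegral X] [IsNoetherian X] [IsIntegral Y]
    (hX : ∀ x : X, IsRegularLocalRing (X.presheaf.stalk x)) (hd : topologicalKrullDim X ≤ 2)
    (f : Y ⟶ X) [IsProper f] (V : X.Opens) (hV : (V : Set X).Nonempty) (hiso : IsIso (f ∣_ V)) :
    ∃ (X' : Scheme.{u}) (g : X' ⟶ X) (h : X' ⟶ Y), Models.IsContractionSeq g ∧ h ≫ f = g := by
  classical
  have hch : ∀ y : Y, ∃ (U : X.affineOpens) (W : Y.affineOpens), y ∈ W.1 ∧ W.1 ≤ f ⁻¹ᵁ U.1 := fun y => by
    obtain ⟨U, hU, hxU, -⟩ := exists_isAffineOpen_mem_and_subset (x := f y) (U := ⊤) trivial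
    obtain ⟨W, hW, hyW, hWU⟩ := exists_isAffineOpen_mem_and_subset (x := y) (U := f ⁻¹ᵁ U) hxU
    exact ⟨⟨U, hU⟩, ⟨W, hW⟩, hyW, hWU⟩
  choose Uy Wy hmem hle using hch
  haveI : CompactSpace Y := QuasiCompact.compactSpace_of_compactSpace f
  obtain ⟨t, ht⟩ := isCompact_univ.elim_finite_subcover (fun y : Y => ((Wy y).1 : Set Y))
    (fun y => (Wy y).1.2) fun y _ => Set.mem_iUnion.2 ⟨y, hmem y⟩
  let κ : Type u := {y : Y // y ∈ t}
  have hft : ∀ k : κ, ∃ s : Finset Γ(Y, (Wy k.1).1),
      Subring.closure (Set.range (f.appLE (Uy k.1).1 (Wy k.1).1 (hle k.1)) ∪ ↑s) = ⊤ := fun k => by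
    letI := (f.appLE (Uy k.1).1 (Wy k.1).1 (hle k.1)).hom.toAlgebra
    obtain ⟨s, hs⟩ := (f.finiteType_appLE (Uy k.1).2 (Wy k.1).2 (hle k.1) :
      (f.appLE (Uy k.1).1 (Wy k.1).1 (hle k.1)).hom.FiniteType).out
    refine ⟨s, ?_⟩
    show Subring.closure (Set.range (algebraMap Γ(X, (Uy k.1).1) Γ(Y, (Wy k.1).1)) ∪ ↑s) = ⊤
    rw [← Algebra.adjoin_eq_ring_closure, hs]
    rfl
  choose s hs using hft
  let ι : Type u := Σ k : κ, {h // h ∈ s k}
  have hrel : ∀ i : ι, ∃ a b : Γ(X, (Uy i.1.1).1), b ≠ 0 ∧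
      i.2.1 * f.appLE (Uy i.1.1).1 (Wy i.1.1).1 (hle i.1.1) b = f.appLE (Uy i.1.1).1 (Wy i.1.1).1 (hle i.1.1) a :=
    fun i => exists_fraction_rel f V hV hiso (Uy i.1.1).2 (hle i.1.1) (hmem i.1.1) i.2.1
  choose a b hb hab using hrel
  obtain ⟨J, hJ, hJr⟩ := exists_ratio_ideal (Finset.univ : Finset ι) (fun i => Uy i.1.1) a b hb
  obtain ⟨X', g, hg, -, hgC⟩ := exists_principalize_of_good J fun p hp => by
    haveI := hX p
    haveI : IsDomain (X.presheaf.stalk p) := RegLoc6.isDomain_of_isRegularLocalRing _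
    haveI : UniqueFactorizationMonoid (X.presheaf.stalk p) := (S2821.result _).2
    have hdle : ∀ w : X, ringKrullDim (X.presheaf.stalk w) ≤ 2 := fun w => by
      rw [ringKrullDim_stalk_eq_coheight]
      refine (Order.coheight_le_krullDim w).trans ?_
      rw [← Order.krullDim_eq_of_orderIso (irreducibleSetEquivPoints (α := X))]
      exact hd
    have hne : Div21Lib.stI J p ≠ ⊥ := fun h0 => hJ (stI_eq_bot_imp J p h0)
    have h2 : ringKrullDim (X.presheaf.stalk p) = 2 :=
      le_antisymm (hdle p) (not_lt.1 fun h => hp (cartierAt_of_dim_le_one h hne))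
    refine ⟨closure_subset_iff_isClosed.1 fun w hw => ?_, hX p, h2, ?_⟩
    · by_contra hwp
      have hsp : p ⤳ w := specializes_iff_mem_closure.2 hw
      have hlt : w < p := ⟨hsp, fun h : w ⤳ p => hwp (h.antisymm hsp).eq⟩
      have h6 := Order.coheight_add_one_le hlt
      have h7 := hdle w
      rw [ringKrullDim_stalk_eq_coheight] at h7 h2
      have h8 : (2 : ℕ∞) + 1 ≤ 2 :=
        (add_le_add (WithBot.coe_le_coe.1 h2.ge) le_rfl).trans (h6.trans (WithBot.coe_le_coe.1 h7))
      exact absurd h8 (by norm_num)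
    · obtain ⟨g, K, hg, he, hfin⟩ := exists_factor_finite (Div21Lib.stI J p) hne
      obtain ⟨ℓ, hℓ⟩ := WithTop.ne_top_iff_exists.1 (hfin (hdle p))
      exact ⟨ℓ, g, K, hg, he, hℓ.symm.le⟩
  obtain ⟨hi, hn, hr, hgp, V₀, hV₀, hV₀iso⟩ := contractionSeq_props hg hX
  haveI := hi; haveI := hn
  obtain ⟨hgη, -⟩ := ArInt.birational_of_isIso_restrict g V₀ hV₀ hV₀iso
  have hV' : ((g ⁻¹ᵁ V : X'.Opens) : Set X').Nonempty := by
    obtain ⟨v, hv⟩ := hV
    refine ⟨genericPoint X', show g (genericPoint X') ∈ V from ?_⟩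
    rw [hgη]
    exact ((genericPoint_spec X).specializes (Set.mem_univ v)).mem_open V.2 hv
  obtain ⟨h, hh⟩ := exists_lift_of_comparable f g V hiso hV'
    (fun p => by
      haveI := hr p
      haveI : UniqueFactorizationMonoid (X'.presheaf.stalk p) := (S2821.result _).2
      exact ⟨(S2821.result _).1, inferInstance⟩)
    (fun p => (birational_stalkMap g V₀ hV₀ hV₀iso p).1)
    (fun k : κ => Wy k.1) (fun k => Uy k.1) (fun k => hle k.1)
    (fun y => by
      obtain ⟨k, hk, hy⟩ := Set.mem_iUnion₂.1 (ht (Set.mem_univ y))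
      exact ⟨⟨k, hk⟩, hy⟩)
    (fun k => ↑(s k)) hs fun k h hh p hp => by
      exact ⟨a ⟨k, h, hh⟩, b ⟨k, h, hh⟩, hb _, hab ⟨k, h, hh⟩, hJr g hgC p ⟨k, h, hh⟩ (Finset.mem_univ _) hp⟩
  exact ⟨X', g, h, hg, hh⟩

end Groth.Agent.ResolveX
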