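import Mathlib

/-!
# The length of the residual ideal drops under a point blow-up
-/

set_option autoImplicit false
set_option linter.style.haveILetI false
set_option maxHeartbeats 1000000

universe u

open IsLocalRing Polynomial

namespace Groth.Agent.ResolveX

/-- Elements of `m ^ n` are forms of degree `n` in two generators of `m`. -/
theorem exists_form {A : Type u} [CommRing A] [IsLocalRing A] {s t : A}
    (hm : maximalIdeal A = Ideal.span {s, t}) :
    ∀ (n : ℕ), ∀ b ∈ maximalIdeal A ^ n,
      ∃ c : ℕ → A, b = ∑ i ∈ Finset.range (n + 1), c i * t ^ i * s ^ (n - i) := by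
  intro n
  induction n with
  | zero => exact fun b _ => ⟨fun _ => b, by simp⟩
  | succ n ih =>
    intro b hb
    rw [pow_succ] at hb
    refine Submodule.mul_induction_on hb (fun p hp q hq => ?_) fun p q ⟨c, hc⟩ ⟨c', hc'⟩ => ?_
    · obtain ⟨c, rfl⟩ := ih p hp
      rw [hm, Ideal.mem_span_pair] at hq
      obtain ⟨α, β, rfl⟩ := hq
      refine ⟨fun i => (if i = 0 then 0 else β * c (i - 1)) + (if i ≤ n then α * c i else 0), ?_⟩
      simp only [add_mul, Finset.sum_add_distrib]
      rw [mul_add, add_comm]
      congr 1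
      · rw [Finset.sum_range_succ' _ (n + 1)]
        simp only [if_neg (Nat.succ_ne_zero _), ↓reduceIte, zero_mul, add_zero,
          Nat.succ_sub_succ, Nat.sub_zero, Finset.sum_mul]
        exact Finset.sum_congr rfl fun i _ => by rw [pow_succ]; ring
      · rw [Finset.sum_range_succ _ (n + 1), if_neg (by omega), zero_mul, zero_mul, add_zero, Finset.sum_mul]
        refine Finset.sum_congr rfl fun i hi => ?_
        rw [Finset.mem_range] at hi
        rw [if_pos (by omega), show n + 1 - i = n - i + 1 by omega, pow_succ]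
        ring
    · exact ⟨fun i => c i + c' i, by rw [hc, hc', ← Finset.sum_add_distrib]; simp only [add_mul]⟩

/-- An algebra of fractions in `T` with nilpotent `s`, `t = s T`, and a primitive relation for `T` is spanned
by low powers of `T`. -/
theorem span_powers_eq_top {A D : Type u} [CommRing A] [IsLocalRing A] [CommRing D] [Algebra A D] (T : D) {s t : A}
    (hm : maximalIdeal A = Ideal.span {s, t}) (hts : algebraMap A D t = T * algebraMap A D s)
    {k : ℕ} (hk : algebraMap A D s ^ k = 0) {n : ℕ} (c : ℕ → A) (hc : ∃ i ≤ n, IsUnit (c i))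
    (h0 : ∑ i ∈ Finset.range (n + 1), algebraMap A D (c i) * T ^ i = 0)
    (P : Submodule A D) [IsArtinian A P] (hP : ∀ i ≤ n, T ^ i ∈ P)
    (hgen : ∀ b : D, ∃ p q : A[X], IsUnit (aeval T q) ∧ b * aeval T q = aeval T p) : P = ⊤ := by
  classical
  obtain ⟨d, hdn, hdu, hdmax⟩ : ∃ d ≤ n, IsUnit (c d) ∧ ∀ i ≤ n, d < i → ¬ IsUnit (c i) := by
    let S := (Finset.range (n + 1)).filter fun i => IsUnit (c i)
    have hS : S.Nonempty := by
      obtain ⟨i, hi, hu⟩ := hc
      exact ⟨i, Finset.mem_filter.2 ⟨Finset.mem_range.2 (by omega), hu⟩⟩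
    have h1 := Finset.mem_filter.1 (S.max'_mem hS)
    refine ⟨S.max' hS, by have := Finset.mem_range.1 h1.1; omega, h1.2, fun i hi hlt hu => ?_⟩
    exact absurd (S.le_max' i (Finset.mem_filter.2 ⟨Finset.mem_range.2 (by omega), hu⟩)) (not_le.2 hlt)
  -- all powers of `T` lie in the span
  have hrel : c d • T ^ d = - ∑ i ∈ (Finset.range (n + 1)).erase d, c i • T ^ i := by
    rw [eq_neg_iff_add_eq_zero, Finset.add_sum_erase _ (fun i => c i • T ^ i) (Finset.mem_range.2 (by omega))]
    simpa only [Algebra.smul_def] using h0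
  have key : ∀ r j : ℕ, r ≤ k → s ^ (k - r) • T ^ j ∈ P := by
    intro r
    induction r with
    | zero =>
      intro j _
      rw [Nat.sub_zero, Algebra.smul_def, map_pow, hk, zero_mul]
      exact zero_mem _
    | succ r ih =>
      intro j hr
      induction j using Nat.strong_induction_on with
      | _ j ihj =>
      rcases le_or_gt j n with hj | hj
      · exact P.smul_mem _ (hP j hj)
      obtain ⟨e, rfl⟩ : ∃ e, j = e + d := ⟨j - d, by omega⟩
      obtain ⟨u, hu⟩ := hdu
      have hTd : T ^ d = (↑u⁻¹ : A) • (c d • T ^ d) := by rw [smul_smul, ← hu, Units.inv_mul, one_smul]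
      rw [pow_add, hTd, hrel, smul_neg, mul_neg, smul_neg, mul_smul_comm, Finset.mul_sum, Finset.smul_sum,
        Finset.smul_sum]
      refine P.neg_mem (P.sum_mem fun i hi => ?_)
      rw [Finset.mem_erase, Finset.mem_range] at hi
      rw [mul_smul_comm, ← pow_add, smul_comm _ (↑u⁻¹ : A)]
      refine P.smul_mem _ ?_
      rcases lt_or_gt_of_ne hi.1 with hlt | hgt
      · rw [smul_comm]
        exact P.smul_mem _ (ihj (e + i) (by omega))
      · have hci : c i ∈ maximalIdeal A := (mem_maximalIdeal _).2 (hdmax i (by omega) hgt)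
        rw [hm, Ideal.mem_span_pair] at hci
        obtain ⟨α, β, hαβ⟩ := hci
        have hexp : s ^ (k - (r + 1)) • c i • T ^ (e + i) =
            α • (s ^ (k - r) • T ^ (e + i)) + β • (s ^ (k - r) • T ^ (e + i + 1)) := by
          simp only [Algebra.smul_def, ← hαβ, map_add, map_mul, map_pow, hts,
            show k - r = k - (r + 1) + 1 by omega, pow_succ]
          ring
        rw [hexp]
        exact P.add_mem (P.smul_mem _ (ih _ (by omega))) (P.smul_mem _ (ih _ (by omega)))
  have hadj : ∀ p : A[X], aeval T p ∈ P := fun p => by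
    rw [aeval_eq_sum_range]
    refine P.sum_mem fun i _ => P.smul_mem _ ?_
    simpa using key k i le_rfl
  -- the subalgebra generated by `T` is finite of finite length, hence contains inverses
  let C : Submodule A D := LinearMap.range (aeval T : A[X] →ₐ[A] D).toLinearMap
  have hCP : C ≤ P := by rintro _ ⟨p, rfl⟩; exact hadj p
  haveI : IsArtinian A C := isArtinian_of_le hCP
  refine eq_top_iff.2 fun b _ => ?_
  obtain ⟨p, q, hq, hb⟩ := hgen b
  let μ : C →ₗ[A] C := ((LinearMap.mulLeft A (aeval T q)).comp C.subtype).codRestrict C (by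
    rintro ⟨_, w, rfl⟩
    exact ⟨q * w, by simp⟩)
  have hμ : Function.Injective μ := fun v w h => Subtype.ext (hq.mul_left_cancel (congrArg Subtype.val h))
  obtain ⟨v, hv⟩ := IsArtinian.surjective_of_injective_endomorphism μ hμ ⟨aeval T p, ⟨p, rfl⟩⟩
  have hbv : b = v.1 := hq.mul_left_cancel (by
    have h1 : aeval T q * v.1 = aeval T p := congrArg Subtype.val hv
    rw [h1, ← hb, mul_comm])
  exact hbv ▸ hCP v.2

variable {A B : Type u} [CommRing A] [IsDomain A] [IsNoetherianRing A] [IsLocalRing A]
  [CommRing B] [IsDomain B] [IsLocalRing B] [Algebra A B]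

/-- On a chart of the blow-up the residual ideal of a primary ideal has smaller colength. -/
theorem exists_residual {s t : A} (hm : maximalIdeal A = Ideal.span {s, t}) (hs : s ≠ 0)
    (hinj : Function.Injective (algebraMap A B)) (hsB : algebraMap A B s ∈ maximalIdeal B) (T : B)
    (hts : algebraMap A B t = T * algebraMap A B s)
    (hgen : ∀ b : B, ∃ p q : A[X], IsUnit (aeval T q) ∧ b * aeval T q = aeval T p)
    {I : Ideal A} {N : ℕ} (hN : maximalIdeal A ^ N ≤ I) (hI : I ≠ ⊤) (hfin : Module.length A (A ⧸ I) ≠ ⊤) :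
    ∃ (g : B) (I' : Ideal B), g ≠ 0 ∧ I.map (algebraMap A B) = Ideal.span {g} * I' ∧
      Module.length B (B ⧸ I') < Module.length A (A ⧸ I) := by
  classical
  set x := algebraMap A B s with hxdef
  have hx0 : x ≠ 0 := fun h => hs (hinj (h.trans (map_zero _).symm))
  have hsm : s ∈ maximalIdeal A := hm ▸ Ideal.subset_span (by simp)
  obtain ⟨n, hn, hn'⟩ : ∃ n, I ≤ maximalIdeal A ^ n ∧ ¬ I ≤ maximalIdeal A ^ (n + 1) := by
    by_contra hcon
    push Not at hcon
    have hall : ∀ n, I ≤ maximalIdeal A ^ n := fun n => by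
      induction n with
      | zero => rw [pow_zero, Ideal.one_eq_top]; exact le_top
      | succ n ih => exact hcon n ih
    have h0 : s ^ N ∈ (⊥ : Ideal A) := by
      rw [← Ideal.iInf_pow_eq_bot_of_isLocalRing (maximalIdeal A) (maximalIdeal.isMaximal A).ne_top]
      exact Ideal.mem_iInf.2 fun i => hall i (hN (Ideal.pow_mem_pow hsm N))
    exact pow_ne_zero N hs (Ideal.mem_bot.1 h0)
  have hn1 : 1 ≤ n := by
    by_contra h
    obtain rfl : n = 0 := by omega
    exact hn' (by rw [zero_add, pow_one]; exact le_maximalIdeal hI)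
  have hdiv : ∀ (m : ℕ) (c : ℕ → A), algebraMap A B (∑ i ∈ Finset.range (m + 1), c i * t ^ i * s ^ (m - i)) =
      x ^ m * ∑ i ∈ Finset.range (m + 1), algebraMap A B (c i) * T ^ i := fun m c => by
    rw [map_sum, Finset.mul_sum]
    refine Finset.sum_congr rfl fun i hi => ?_
    rw [Finset.mem_range] at hi
    rw [map_mul, map_mul, map_pow, map_pow, hts, mul_pow,
      show x ^ m = x ^ i * x ^ (m - i) by rw [← pow_add]; congr 1; omega]
    ring
  have hdvd : ∀ z : (maximalIdeal A ^ n : Ideal A), ∃ w : B, algebraMap A B z.1 = x ^ n * w := fun z => by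
    obtain ⟨c, hc⟩ := exists_form hm n z.1 z.2
    exact ⟨_, by rw [hc]; exact hdiv n c⟩
  let I' : Ideal B := Submodule.comap (LinearMap.mulLeft B (x ^ n)) (I.map (algebraMap A B))
  have hI' : I.map (algebraMap A B) = Ideal.span {x ^ n} * I' := by
    refine le_antisymm (fun z hz => ?_) ?_
    · obtain ⟨w, rfl⟩ : x ^ n ∣ z := by
        have h : I.map (algebraMap A B) ≤ Ideal.span {x ^ n} := Ideal.map_le_iff_le_comap.2 fun a ha => by
          obtain ⟨w, hw⟩ := hdvd ⟨a, hn ha⟩
          exact Ideal.mem_span_singleton.2 ⟨w, hw⟩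
        exact Ideal.mem_span_singleton.1 (h hz)
      exact Ideal.mul_mem_mul (Ideal.mem_span_singleton_self _) hz
    · rw [Ideal.mul_le]
      intro a ha w hw
      obtain ⟨e, rfl⟩ := Ideal.mem_span_singleton.1 ha
      rw [show x ^ n * e * w = e * (x ^ n * w) by ring]
      exact Ideal.mul_mem_left _ _ hw
  -- a primitive relation for `T` in the residual ideal
  obtain ⟨f, hfI, hfn⟩ := SetLike.not_le_iff_exists.1 hn'
  obtain ⟨c, hc⟩ := exists_form hm n f (hn hfI)
  have hcu : ∃ i ≤ n, IsUnit (c i) := by
    by_contra hcon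
    push Not at hcon
    apply hfn
    rw [hc]
    refine Ideal.sum_mem _ fun i hi => ?_
    rw [Finset.mem_range] at hi
    have ht : t ∈ maximalIdeal A := by rw [hm]; exact Ideal.subset_span (by simp)
    rw [mul_assoc, pow_succ']
    refine Ideal.mul_mem_mul ((mem_maximalIdeal _).2 (hcon i (by omega))) ?_
    have h1 := Ideal.mul_mem_mul (Ideal.pow_mem_pow ht i) (Ideal.pow_mem_pow hsm (n - i))
    rwa [← pow_add, show i + (n - i) = n by omega] at h1
  have hF : ∑ i ∈ Finset.range (n + 1), algebraMap A B (c i) * T ^ i ∈ I' := by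
    show x ^ n * _ ∈ I.map (algebraMap A B)
    rw [← hdiv, ← hc]
    exact Ideal.mem_map_of_mem _ hfI
  -- bound the lengths of the truncations
  let M : Submodule A (A ⧸ I) := Submodule.map I.mkQ (maximalIdeal A ^ n : Ideal A)
  have hMlt : Module.length A M < Module.length A (A ⧸ I) := by
    have hne : M ≠ ⊤ := fun h => by
      obtain ⟨a, ha, ha'⟩ := h.ge (Submodule.mem_top : I.mkQ 1 ∈ (⊤ : Submodule A (A ⧸ I)))
      have h2 : a - 1 ∈ I := (Submodule.Quotient.eq I).1 ha'
      have h3 : (1 : A) ∈ maximalIdeal A := by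
        have := Ideal.sub_mem _ (Ideal.pow_le_self (by omega : n ≠ 0) ha) (le_maximalIdeal hI h2)
        rwa [sub_sub_cancel] at this
      exact (maximalIdeal.isMaximal A).ne_top ((Ideal.eq_top_iff_one _).2 h3)
    have hadd := Module.length_eq_add_of_exact M.subtype M.mkQ (Submodule.subtype_injective _)
      (Submodule.mkQ_surjective _) (LinearMap.exact_subtype_mkQ _)
    haveI : Nontrivial ((A ⧸ I) ⧸ M) := Submodule.Quotient.nontrivial_iff.2 hne
    have hfM : Module.length A M ≠ ⊤ := fun h => hfin (by rw [hadd, h, top_add])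
    rw [hadd]
    exact lt_of_lt_of_le (ENat.lt_add_one_iff hfM |>.2 le_rfl) (add_le_add le_rfl (Order.one_le_iff_pos.2 Module.length_pos))
  choose w hw using hdvd
  let ψ : (maximalIdeal A ^ n : Ideal A) →ₗ[A] B :=
    { toFun := w
      map_add' := fun a b => mul_left_cancel₀ (pow_ne_zero n hx0) (by
        rw [mul_add, ← hw, ← hw, ← hw, ← map_add]; rfl)
      map_smul' := fun r a => mul_left_cancel₀ (pow_ne_zero n hx0) (by
        rw [RingHom.id_apply, Algebra.smul_def, mul_left_comm, ← hw, ← hw, ← map_mul]; rfl) }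
  have hbound : ∀ k : ℕ, Module.length B (B ⧸ (I' ⊔ Ideal.span {x ^ k})) ≤ Module.length A M := fun k => by
    set J := I' ⊔ Ideal.span {x ^ k}
    let π : (maximalIdeal A ^ n : Ideal A) →ₗ[A] B ⧸ J := (J.mkQ.restrictScalars A).comp ψ
    let σ : (maximalIdeal A ^ n : Ideal A) →ₗ[A] M :=
      (I.mkQ.comp (Submodule.subtype _)).codRestrict M fun z => ⟨z.1, z.2, rfl⟩
    have hσ : Function.Surjective σ := by
      rintro ⟨_, a, ha, rfl⟩
      exact ⟨⟨a, ha⟩, rfl⟩
    have hker : LinearMap.ker σ ≤ LinearMap.ker π := fun z hz => by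
      have hzI : z.1 ∈ I := (Submodule.Quotient.mk_eq_zero I).1 (congrArg Subtype.val hz)
      refine (Submodule.Quotient.mk_eq_zero J).2 (Submodule.mem_sup_left ?_)
      show x ^ n * w z ∈ I.map (algebraMap A B)
      rw [← hw]
      exact Ideal.mem_map_of_mem _ hzI
    let ρ : M →ₗ[A] B ⧸ J := (Submodule.liftQ _ π hker).comp (σ.quotKerEquivOfSurjective hσ).symm.toLinearMap
    have hρ : ∀ z, ρ (σ z) = π z := fun z => by
      show Submodule.liftQ _ π hker ((σ.quotKerEquivOfSurjective hσ).symm (σ z)) = _
      rw [show (σ.quotKerEquivOfSurjective hσ).symm (σ z) = Submodule.Quotient.mk z from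
        (σ.quotKerEquivOfSurjective hσ).injective (by rw [LinearEquiv.apply_symm_apply]; rfl)]
      rfl
    haveI : IsArtinian A M :=
      (isFiniteLength_iff_isNoetherian_isArtinian.1 (Module.length_ne_top_iff.1 hMlt.ne_top)).2
    haveI : IsArtinian A (LinearMap.range ρ) :=
      isArtinian_of_surjective M ρ.rangeRestrict ρ.surjective_rangeRestrict
    have hk : algebraMap A (B ⧸ J) s ^ k = 0 := by
      rw [← map_pow]
      refine Ideal.Quotient.eq_zero_iff_mem.2 (Submodule.mem_sup_right ?_)
      rw [map_pow]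
      exact Ideal.mem_span_singleton_self _
    have htop : LinearMap.range ρ = ⊤ := by
      refine span_powers_eq_top (Ideal.Quotient.mk J T) hm ?_ hk c hcu ?_ _ (fun i hi => ?_) fun b => ?_
      · show Ideal.Quotient.mk J (algebraMap A B t) = _
        rw [hts, map_mul]
        rfl
      · show ∑ i ∈ Finset.range (n + 1), Ideal.Quotient.mk J (algebraMap A B (c i)) * Ideal.Quotient.mk J T ^ i = 0
        simp only [← map_pow, ← map_mul, ← map_sum]
        exact Ideal.Quotient.eq_zero_iff_mem.2 (Submodule.mem_sup_left hF)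
      · have hmem : t ^ i * s ^ (n - i) ∈ maximalIdeal A ^ n := by
          have ht : t ∈ maximalIdeal A := by rw [hm]; exact Ideal.subset_span (by simp)
          have h1 := Ideal.mul_mem_mul (Ideal.pow_mem_pow ht i) (Ideal.pow_mem_pow hsm (n - i))
          rwa [← pow_add, show i + (n - i) = n by omega] at h1
        refine ⟨σ ⟨_, hmem⟩, (hρ _).trans ?_⟩
        show Ideal.Quotient.mk J (w ⟨_, hmem⟩) = _
        rw [← map_pow]
        congr 1
        refine mul_left_cancel₀ (pow_ne_zero n hx0) ?_
        rw [← hw, map_mul, map_pow, map_pow, hts, mul_pow,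
          show x ^ n = x ^ i * x ^ (n - i) by rw [← pow_add]; congr 1; omega]
        ring
      · obtain ⟨b, rfl⟩ := Ideal.Quotient.mk_surjective b
        obtain ⟨p, q, hq, hpq⟩ := hgen b
        have he : ∀ r : A[X], aeval (Ideal.Quotient.mk J T) r = Ideal.Quotient.mk J (aeval T r) := fun r => by
          exact Polynomial.aeval_algHom_apply (Ideal.Quotient.mkₐ A J) T r
        refine ⟨p, q, ?_, ?_⟩
        · rw [he]; exact hq.map _
        · rw [he, he, ← map_mul, hpq]
    have h1 : Module.length A (B ⧸ J) ≤ Module.length A M :=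
      Module.length_le_of_surjective (g := ρ) (LinearMap.range_eq_top.1 htop)
    refine le_trans ?_ h1
    have h2 := Submodule.length_le_length_restrictScalars A (⊤ : Submodule B (B ⧸ J))
    rw [Module.length_top, Submodule.restrictScalars_top, Module.length_top] at h2
    exact h2
  -- the truncations stabilise
  obtain ⟨k, hk⟩ : ∃ k, x ^ k ∈ I' ⊔ Ideal.span {x ^ (k + 1)} := by
    by_contra hcon
    push Not at hcon
    have hgrow : ∀ k : ℕ, (k : ℕ∞) ≤ Module.length B (B ⧸ (I' ⊔ Ideal.span {x ^ k})) := fun k => by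
      induction k with
      | zero => exact zero_le
      | succ k ih =>
        have hle : I' ⊔ Ideal.span {x ^ (k + 1)} ≤ I' ⊔ Ideal.span {x ^ k} :=
          sup_le_sup_left (Ideal.span_singleton_le_span_singleton.2 (pow_dvd_pow x (Nat.le_succ k))) _
        let g := Submodule.factor hle
        have hadd := Module.length_eq_add_of_exact (LinearMap.ker g).subtype g (Submodule.subtype_injective _)
          (Submodule.factor_surjective hle) (LinearMap.exact_subtype_ker_map g)
        haveI : Nontrivial (LinearMap.ker g) := by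
          refine Submodule.nontrivial_iff_ne_bot.2 fun h => hcon k ?_
          refine (Submodule.Quotient.mk_eq_zero _).1 ?_
          refine (Submodule.mem_bot B).1 (h.le ?_)
          show g (Submodule.Quotient.mk (x ^ k)) = 0
          exact (Submodule.Quotient.mk_eq_zero _).2 (Submodule.mem_sup_right (Ideal.mem_span_singleton_self _))
        rw [hadd, Nat.cast_succ, add_comm]
        exact add_le_add (Order.one_le_iff_pos.2 Module.length_pos) ih
    have hfM : Module.length A M ≠ ⊤ := hMlt.ne_top
    obtain ⟨m, hm'⟩ := WithTop.ne_top_iff_exists.1 hfM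
    have h := (hgrow (m + 1)).trans (hbound (m + 1))
    rw [← hm'] at h
    have h' : m + 1 ≤ m := ENat.coe_le_coe.1 h
    omega
  have hxk : x ^ k ∈ I' := by
    obtain ⟨a, ha, b, hb, hab⟩ := Submodule.mem_sup.1 hk
    obtain ⟨e, rfl⟩ := Ideal.mem_span_singleton'.1 hb
    have hu : IsUnit (1 - x * e) := (isUnit_or_isUnit_one_sub_self (x * e)).resolve_left fun hu =>
      (maximalIdeal.isMaximal B).ne_top (Ideal.eq_top_of_isUnit_mem _ (Ideal.mul_mem_right e _ hsB) hu)
    have h3 : x ^ k * (1 - x * e) ∈ I' := by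
      have : x ^ k * (1 - x * e) = a := by
        rw [pow_succ] at hab
        linear_combination -hab
      rw [this]; exact ha
    exact (Ideal.mul_unit_mem_iff_mem I' hu).1 h3
  refine ⟨x ^ n, I', pow_ne_zero n hx0, hI', ?_⟩
  have h := hbound k
  rw [show I' ⊔ Ideal.span {x ^ k} = I' from sup_eq_left.2 ((Ideal.span_singleton_le_iff_mem _).2 hxk)] at h
  exact lt_of_le_of_lt h hMlt

end Groth.Agent.ResolveX
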