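import Groth.Agent.ResolveX.GoodRed
import Groth.Agent.ResolveX.ContractInter
import Groth.Agent.ArInt.ConstField
import Groth.Agent.CurveFinMap.Birational
import Groth.Agent.CurveGenusCmp.Iso
import Groth.Agent.S3322
import Groth.Agent.S3347

/-!
# A component of large genus forces good reduction
-/

set_option autoImplicit false
set_option linter.style.haveILetI false
set_option linter.unusedSectionVars false
set_option backward.isDefEq.respectTransparency false
set_option backward.isDefEq.respectTransparency.types false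
set_option maxHeartbeats 1000000

universe u

open CategoryTheory CategoryTheory.Limits AlgebraicGeometry TopologicalSpace IsLocalRing

attribute [local instance 2000] CategoryTheory.CategoryStruct.toQuiver

noncomputable section

namespace Groth.Agent.ResolveX

open Groth.Agent

/-- A finite birational map does not lower the Euler characteristic; equality forces an isomorphism. -/
theorem euler_le_birational (k : Type u) [Field k] {X Y : Scheme.{u}} [X.Over (Spec (CommRingCat.of k))]
    [Y.Over (Spec (CommRingCat.of k))] [IsProper (X ↘ Spec (CommRingCat.of k))] [IsReduced X]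
    (hdim : topologicalKrullDim X ≤ 1) (f : Y ⟶ X) [IsFinite f]
    (hf : f ≫ (X ↘ Spec (CommRingCat.of k)) = Y ↘ Spec (CommRingCat.of k))
    (U : X.Opens) (hU : Dense (U : Set X)) (hfU : IsIso (f ∣_ U)) :
    Curv2.euler k X (Coh.structureModule X) ≤ Curv2.euler k Y (Coh.structureModule Y) ∧
      (Curv2.euler k X (Coh.structureModule X) = Curv2.euler k Y (Coh.structureModule Y) → IsIso f) := by
  haveI := CurveCohLib.isNoetherian_of_proper (k := k) (X := X)
  haveI : IsLocallyNoetherian Y := LocallyOfFiniteType.isLocallyNoetherian f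
  let u := CurveGenusCmp.unitMap f
  haveI hu : Mono u := QCoh.mono_of_app_injective _ fun W a b hab => by
    rw [CurveGenusCmp.unitMap_app, CurveGenusCmp.unitMap_app] at hab
    exact CurveGenusCmp.app_injective_of_dense f U hU hfU W hab
  have hsupp : ∀ x ∈ CohB1.support (cokernel u), IsClosed ({x} : Set X) := fun x hx => by
    by_contra hnc
    have hxU : x ∈ U := not_not.1 fun h => hnc (CurveGenusCmp.isClosed_of_notMem hdim hU h)
    refine hx ?_
    let S := DerSch.stalkFunctor X x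
    haveI : IsIso (S.map u) := CurveFinMap.isIso_stalk_unitMap f hfU hxU
    haveI : Epi (S.map (cokernel.π u)) := inferInstance
    have h0 : S.map (cokernel.π u) = 0 := by
      rw [← cancel_epi (S.map u), ← S.map_comp, cokernel.condition, Functor.map_zero, Limits.comp_zero]
    refine subsingleton_of_forall_eq 0 fun z => ?_
    obtain ⟨w, rfl⟩ := (ModuleCat.epi_iff_surjective (S.map (cokernel.π u))).1 inferInstance z
    rw [h0]; rfl
  obtain ⟨hle, hiff⟩ := CurveCohLib.euler_le_of_mono (k := k) u (RefX.isCoh_unit (X := X))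
    (QCoh.isCoh_pushforward_finite f QCoh.isCoh_structureModule') hsupp
  have he : Curv2.euler k X ((Coh.push f).obj (Coh.structureModule Y)) = Curv2.euler k Y (Coh.structureModule Y) :=
    finsum_congr fun i => by
      obtain ⟨e⟩ := PnCoh.exists_linearEquiv_push k f hf (M := Coh.structureModule Y) QCoh.isQCoh_structureModule i
      rw [e.finrank_eq]
  refine ⟨he ▸ hle, fun h => ?_⟩
  haveI : IsIso u := hiff.1 (h.trans he.symm)
  refine CurveGenusCmp.isIso_of_isIso_app f fun W => (ConcreteCategory.isIso_iff_bijective _).2 ?_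
  have hfun : ⇑(u.app W) = fun r => (show Γ((Coh.push f).obj (Coh.structureModule Y), W) from f.app W r) :=
    funext fun r => CurveGenusCmp.unitMap_app f r
  haveI : IsIso (u.app W) := inferInstance
  have hb := ConcreteCategory.bijective_of_isIso (u.app W)
  rw [hfun] at hb
  exact hb

variable {R : Type u} [CommRing R] [IsDomain R] [IsDiscreteValuationRing R]

local notation "jK" => Spec.map (CommRingCat.ofHom (algebraMap R (FractionRing R)))
local notation "k₀" => IsLocalRing.ResidueField R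

/-- The Euler characteristic of a vertical curve. -/
theorem euler_vertComp {W : Over (Spec (CommRingCat.of R))} [ArInt.IsSurf W] (G : ArSurf.VertComp R W) :
    Curv2.euler k₀ G.curve.left (Coh.structureModule G.curve.left) =
      (Models.wdeg R W G : ℤ) - (Models.h1 R W G : ℤ) := by
  haveI := ArInt.isProper_curve_over G
  haveI := CurveCohLib.isNoetherian_of_proper (k := k₀) (X := G.curve.left)
  rw [CurveReg.euler_eq k₀ G.dim_eq.le (RefX.isCoh_unit (X := G.curve.left))]
  rfl

/-- A birational image of a vertical curve off the exceptional curve. -/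
theorem exists_map_image {W Z : Over (Spec (CommRingCat.of R))} [ArInt.IsSurf W] [Flat W.hom] [ArInt.IsSurf Z]
    [Flat Z.hom] (b : W ⟶ Z) [IsProper b.left] (E : ArSurf.VertComp R W) (y : Z.left)
    (hy : IsClosed ({y} : Set Z.left)) (hfib : Set.range E.ι = b.left ⁻¹' {y})
    [IsIso (b.left ∣_ (⟨{y}ᶜ, hy.isOpen_compl⟩ : Z.left.Opens))]
    (G : ArSurf.VertComp R W) (hne : Set.range G.ι.base ≠ Set.range E.ι.base) :
    ∃ (G' : ArSurf.VertComp R Z) (φ : G.curve.left ⟶ G'.curve.left) (V : G'.curve.left.Opens),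
      IsFinite φ ∧ φ ≫ G'.curve.hom = G.curve.hom ∧ (V : Set G'.curve.left).Nonempty ∧ IsIso (φ ∣_ V) := by
  haveI := G.isClosedImmersion
  haveI := G.isIntegral
  obtain ⟨G', hG⟩ := exists_image_comp b E y hy hfib G hne
  haveI := G'.isClosedImmersion
  haveI := G'.isIntegral
  let g := G.ι ≫ b.left
  haveI : IsProper g := inferInstanceAs (IsProper (G.ι ≫ b.left))
  haveI : IsReduced g.ker.subscheme := ArInt.isReduced_image g
  have hle : G'.ι.ker ≤ g.ker := by
    rw [← CartierExt.radical_eq_of_isReduced g.ker, ← CartierExt.radical_eq_of_isReduced G'.ι.ker,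
      ← Scheme.IdealSheafData.vanishingIdeal_support, ← Scheme.IdealSheafData.vanishingIdeal_support]
    refine Scheme.IdealSheafData.vanishingIdeal_antimono ?_
    show ((g.ker.support : Set Z.left)) ⊆ (G'.ι.ker.support : Set Z.left)
    rw [Scheme.Hom.support_ker, ArInt.support_ker]
    refine closure_minimal ?_ G'.ι.isClosedEmbedding.isClosed_range
    rintro _ ⟨c, rfl⟩
    exact hG.ge ⟨_, ⟨c, rfl⟩, rfl⟩
  let φ := IsClosedImmersion.lift G'.ι g hle
  have hφ : φ ≫ G'.ι = g := IsClosedImmersion.lift_fac _ _ _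
  haveI : IsClosedImmersion (Spec.map (CommRingCat.ofHom (IsLocalRing.residue R))) :=
    IsClosedImmersion.spec_of_surjective _ IsLocalRing.residue_surjective
  have hφw : φ ≫ G'.curve.hom = G.curve.hom := by
    rw [← cancel_mono (Spec.map (CommRingCat.ofHom (IsLocalRing.residue R))), Category.assoc, ← G'.w,
      reassoc_of% hφ, ← G.w]
    simp only [g, Category.assoc, Over.w b]
  have hgen : φ (genericPoint G.curve.left) = genericPoint G'.curve.left :=
    G'.ι.isClosedEmbedding.injective (((congr($hφ (genericPoint G.curve.left))).trans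
      (gen_image b G G' hG).symm))
  haveI := ArInt.isProper_curve_over G
  haveI := ArInt.isProper_curve_over G'
  haveI hfin : IsFinite φ := CurveFinMap.isFinite_of_generic k₀ G.dim_eq G'.dim_eq φ hφw hgen
  let U : Z.left.Opens := ⟨{y}ᶜ, hy.isOpen_compl⟩
  let V : G'.curve.left.Opens := G'.ι ⁻¹ᵁ U
  have hV : (V : Set G'.curve.left).Nonempty := ⟨genericPoint G'.curve.left, fun h =>
    gen_off b E y hfib G hne ((gen_image b G G' hG).symm.trans h)⟩
  haveI : IsClosedImmersion ((φ ∣_ V) ≫ (G'.ι ∣_ U)) := by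
    have hc : IsClosedImmersion (g ∣_ U) := by
      show IsClosedImmersion ((G.ι ≫ b.left) ∣_ U)
      rw [morphismRestrict_comp]
      infer_instance
    have key : ∀ g' : G.curve.left ⟶ Z.left, g' = φ ≫ G'.ι → IsClosedImmersion (g' ∣_ U) →
        IsClosedImmersion ((φ ∣_ V) ≫ (G'.ι ∣_ U)) := by
      rintro _ rfl h
      rw [morphismRestrict_comp] at h
      exact h
    exact key g hφ.symm hc
  haveI : IsClosedImmersion (φ ∣_ V) := IsClosedImmersion.of_comp (φ ∣_ V) (G'.ι ∣_ U)
  haveI : Surjective φ := by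
    haveI : IsDominant φ := ⟨by
      refine dense_iff_closure_eq.2 (Set.eq_univ_of_univ_subset ?_)
      rw [← genericPoint_closure (α := G'.curve.left)]
      exact closure_mono (Set.singleton_subset_iff.2 ⟨_, hgen⟩)⟩
    exact surjective_of_isDominant_of_isClosed_range _ φ.isClosedMap.isClosed_range
  haveI : Surjective (φ ∣_ V) := IsZariskiLocalAtTarget.restrict ‹Surjective φ› V
  exact ⟨G', φ, V, hfin, hφw, hV, isIso_of_isClosedImmersion_of_surjective _⟩

variable {C X : Scheme.{u}} {f : C ⟶ Spec (CommRingCat.of (FractionRing R))} {p : X ⟶ Spec (CommRingCat.of R)}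

/-- A curve of nonpositive Euler characteristic is not contracted. -/
theorem exists_curve_below {Γ' : Scheme.{u}} [Γ'.Over (Spec (CommRingCat.of k₀))]
    [IsProper (Γ' ↘ Spec (CommRingCat.of k₀))] [IsIntegral Γ']
    (hneg : Curv2.euler k₀ Γ' (Coh.structureModule Γ') ≤ 0)
    {W : Scheme.{u}} {h : W ⟶ X} (hh : Models.IsContractionSeq h) :
    ∀ (p : X ⟶ Spec (CommRingCat.of R)) [ArInt.IsSurf (Over.mk p)] [Flat p]
      (G : ArSurf.VertComp R (Over.mk (h ≫ p))) (ν : Γ' ⟶ G.curve.left) [IsFinite ν]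
      (_ : ν ≫ G.curve.hom = Γ' ↘ Spec (CommRingCat.of k₀))
      (V : G.curve.left.Opens) (_ : (V : Set G.curve.left).Nonempty) (_ : IsIso (ν ∣_ V)),
      ∃ (G₀ : ArSurf.VertComp R (Over.mk p)) (ν₀ : Γ' ⟶ G₀.curve.left) (V₀ : G₀.curve.left.Opens),
        IsFinite ν₀ ∧ ν₀ ≫ G₀.curve.hom = Γ' ↘ Spec (CommRingCat.of k₀) ∧
          (V₀ : Set G₀.curve.left).Nonempty ∧ IsIso (ν₀ ∣_ V₀) := by
  induction hh with
  | @iso W X e =>
    intro p _ _ G ν hνf hνw V hV hνV
    haveI := G.isClosedImmersion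
    let G₀ : ArSurf.VertComp R (Over.mk p) :=
      ⟨G.curve, G.ι ≫ e.hom, inferInstance, G.isIntegral, G.dim_eq, by rw [← G.w, Category.assoc]; rfl⟩
    exact ⟨G₀, ν, V, hνf, hνw, hV, hνV⟩
  | @step W Z X E₀ ι b r hι hE₀ hb hr ih =>
    intro p hs hflat G ν hνf hνw V hV hνV
    haveI := hι
    obtain ⟨hZs, hZf⟩ := isSurf_of_seq hr p
    have hseq := Models.IsContractionSeq.step ι b r hι hE₀ hb hr
    obtain ⟨hWs, hWf⟩ := isSurf_of_seq hseq p
    haveI := hZs; haveI := hWs
    haveI : Flat (Over.mk (r ≫ p)).hom := hZf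
    haveI : Flat (Over.mk ((b ≫ r) ≫ p)).hom := hWf
    obtain ⟨hnoe, hbp, y, hy, hry, hregy, hdy, hbl⟩ := hb
    haveI := hnoe; haveI := hregy; haveI := hbp
    haveI : IsProper (r ≫ p) := hZs.isProper
    obtain ⟨F, hFr, hFexc⟩ := exists_vertComp_exc (Z := Over.mk ((b ≫ r) ≫ p)) ι hE₀ fun q => by
      show ((b ≫ r) ≫ p) (ι q) = _
      rw [Category.assoc, Scheme.Hom.comp_apply, show b (ι q) = y from hry.subset ⟨q, rfl⟩]
      exact hom_closed_point (r ≫ p) hy
    haveI := G.isClosedImmersion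
    haveI := G.isIntegral
    haveI : IsIso (b ∣_ (⟨{y}ᶜ, hy.isOpen_compl⟩ : Z.Opens)) := BlowUpLib.isIso_restrict hbl _ fun z hz => by
      show z ∉ ((Scheme.IdealSheafData.vanishingIdeal ⟨{y}, hy⟩).support : Set Z)
      rw [Scheme.IdealSheafData.coe_support_vanishingIdeal]; exact hz
    let b' : Over.mk ((b ≫ r) ≫ p) ⟶ Over.mk (r ≫ p) := Over.homMk b (Category.assoc b r p).symm
    haveI : IsProper b'.left := hbp
    haveI : IsIso (b'.left ∣_ (⟨{y}ᶜ, hy.isOpen_compl⟩ : Z.Opens)) := ‹IsIso (b ∣_ _)›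
    have hfib : Set.range F.ι = b'.left ⁻¹' {y} := hFr.trans (range_eq_fibre ι y hy hdy hbl hE₀ hry)
    haveI := ArInt.isProper_curve_over G
    have hne : Set.range G.ι.base ≠ Set.range F.ι.base := fun heq => by
      obtain ⟨L, hL, ⟨δ⟩⟩ := H23.PicInv.exists_inverse (Big.isInvertible_ideal (ArInt.isEffCartier_ker G))
      have hLi : ClSub.IsInverseOf L (ClSub.idealMod G.ι.ker) := ⟨(H23.PicMul.comm _ _).some ≪≫ δ⟩
      obtain ⟨h1, -⟩ := ArInt.numbers_of_isExcCurve G hLi (isExcCurve_of_range_eq F G heq.symm hFexc)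
      obtain ⟨hle, -⟩ := euler_le_birational k₀ G.dim_eq.le ν hνw V
        (V.2.dense hV) hνV
      have hw := (ArInt.wdeg_pos_dvd G).1
      rw [euler_vertComp G, h1] at hle
      omega
    obtain ⟨G₁, φ, V₁, hφf, hφw, hV₁, hφV₁⟩ := exists_map_image b' F y hy hfib G hne
    haveI := G₁.isIntegral
    haveI := hφf; haveI := hνV; haveI := hφV₁
    obtain ⟨V', hV', hiso⟩ := exists_iso_comp ν φ V hV V₁ hV₁
    exact ih p G₁ (ν ≫ φ) (by rw [Category.assoc, hφw, hνw]) V' hV' hiso

/-- A component of genus at least that of the curve gives good reduction. -/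
theorem hasGoodReduction_of_component (hC : Curve.IsSmoothProperCurve (FractionRing R) C f) (hH0 : IsIso f.appTop)
    (hg : 2 ≤ Models.curveGenus (FractionRing R) C f)
    (hX : Models.IsRegularProperModel R X p C f)
    (Γ : ArSurf.VertComp R (Over.mk p))
    (Γ' : Scheme.{u}) [Γ'.Over (Spec (CommRingCat.of k₀))]
    [Smooth (Γ' ↘ Spec (CommRingCat.of k₀))]
    [IsProper (Γ' ↘ Spec (CommRingCat.of k₀))] [IsIntegral Γ']
    (ν : Γ' ⟶ Γ.curve.left) [IsFinite ν]
    (hν : ν ≫ Γ.curve.hom = Γ' ↘ Spec (CommRingCat.of k₀))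
    (hbir : ∃ U : Γ.curve.left.Opens, (U : Set Γ.curve.left).Nonempty ∧ IsIso (ν ∣_ U))
    (hgen : (Models.curveGenus (FractionRing R) C f : ℤ) ≤
      1 - Curv2.euler k₀ Γ' (Coh.structureModule Γ')) :
    Models.HasGoodReduction R C f := by
  obtain ⟨g, hgg⟩ : ∃ g, IsPullback g f p jK := hX.1.2.2.2
  obtain ⟨X₀, p₀, g₀, b, hmin, hg₀, hbp, -, hb⟩ := exists_minimal_of_model hC hH0 _ X p g hX hgg rfl
  obtain ⟨hs, hflat, n, Δ, hΔ⟩ := model_surface hC hH0 hmin.1
  haveI := hs
  haveI := hflat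
  haveI : Flat (Over.mk p₀).hom := hflat
  obtain ⟨U, hU, hUiso⟩ := hbir
  obtain ⟨G, ν₀, V₀, hfin, hw₀, hV₀, hiso₀⟩ : ∃ (G₀ : ArSurf.VertComp R (Over.mk p₀)) (ν₀ : Γ' ⟶ G₀.curve.left)
      (V₀ : G₀.curve.left.Opens), IsFinite ν₀ ∧ ν₀ ≫ G₀.curve.hom = Γ' ↘ Spec (CommRingCat.of k₀) ∧
      (V₀ : Set G₀.curve.left).Nonempty ∧ IsIso (ν₀ ∣_ V₀) := by
    subst hbp
    exact exists_curve_below (Γ' := Γ') (by omega) hb p₀ Γ ν hν U hU hUiso
  haveI := G.isIntegral
  haveI := G.isClosedImmersion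
  haveI := hfin
  haveI := ArInt.isProper_curve_over G
  obtain ⟨hle, heq⟩ := euler_le_birational k₀ G.dim_eq.le ν₀ hw₀ V₀ (V₀.2.dense hV₀) hiso₀
  obtain ⟨i, hi⟩ := exists_component_eq Δ hΔ G
  haveI := (Δ i).isIntegral
  haveI := (Δ i).isClosedImmersion
  -- transport to the listed component
  have hk := ArInt.ker_eq_of_range_eq G (Δ i) hi
  haveI := IsClosedImmersion.isIso_lift (Δ i).ι G.ι hk.symm
  let τ : G.curve.left ⟶ (Δ i).curve.left := IsClosedImmersion.lift (Δ i).ι G.ι hk.symm.le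
  have hτ : τ ≫ (Δ i).ι = G.ι := IsClosedImmersion.lift_fac _ _ _
  haveI : IsClosedImmersion (Spec.map (CommRingCat.ofHom (IsLocalRing.residue R))) :=
    IsClosedImmersion.spec_of_surjective _ IsLocalRing.residue_surjective
  have hτw : τ ≫ (Δ i).curve.hom = G.curve.hom := by
    rw [← cancel_mono (Spec.map (CommRingCat.ofHom (IsLocalRing.residue R))), Category.assoc, ← (Δ i).w,
      reassoc_of% hτ, ← G.w]
  haveI := ArInt.isProper_curve_over (Δ i)
  have hχ : Curv2.euler k₀ (Δ i).curve.left (Coh.structureModule (Δ i).curve.left) =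
      Curv2.euler k₀ G.curve.left (Coh.structureModule G.curve.left) := by
    obtain ⟨h1, -⟩ := euler_le_birational k₀ (Δ i).dim_eq.le τ hτw ⊤ dense_univ inferInstance
    haveI : IsFinite (inv τ) := inferInstance
    obtain ⟨h2, -⟩ := euler_le_birational k₀ G.dim_eq.le (inv τ)
      ((IsIso.inv_comp_eq τ).2 hτw.symm) ⊤ dense_univ inferInstance
    omega
  -- the numerical type
  choose L hL₀ using fun i => H23.PicInv.exists_inverse (Big.isInvertible_ideal (ArInt.isEffCartier_ker (Δ i)))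
  have hL : ∀ i, ClSub.IsInverseOf (L i) (ClSub.idealMod (Δ i).ι.ker) := fun i =>
    ⟨(H23.PicMul.comm _ _).some ≪≫ (hL₀ i).2.some⟩
  obtain ⟨T, hTm, hTa, hTw, hTg, -⟩ := S3322.result R C X₀ f p₀ hC hH0 hmin.1 Δ hΔ L hL
  have hform := S3321.result R C X₀ f p₀ hC hH0 hmin.1 Δ hΔ L hL
  have hnum := (S3347.result R C X₀ f p₀ hC hH0 hmin.1 Δ hΔ L hL).1 hmin
  let t : Fin n → ℤ := fun l => 2 * ((Models.h1 R (Over.mk p₀) (Δ l) : ℤ) - (Models.wdeg R (Over.mk p₀) (Δ l) : ℤ)) -
    ArSurf.inter R (Over.mk p₀) (L l) (Δ l)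
  have hrow : ∀ l, T.m l * T.a l l + ∑ j ∈ Finset.univ.erase l, T.a l j * T.m j = 0 := fun l => by
    have h := congrFun T.mulVec_m l
    simp only [Matrix.mulVec, dotProduct, Pi.zero_apply] at h
    rw [← Finset.add_sum_erase _ _ (Finset.mem_univ l)] at h
    linarith
  have hdiag : ∀ l, T.a l l ≤ 0 ∧ (T.a l l = 0 → ∀ j, j = l) := fun l => by
    have hsum : 0 ≤ ∑ j ∈ Finset.univ.erase l, T.a l j * T.m j :=
      Finset.sum_nonneg fun j hj => mul_nonneg (T.offDiag_nonneg l j (Finset.ne_of_mem_erase hj).symm) (T.m_pos j).le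
    have hm := T.m_pos l
    refine ⟨by nlinarith [hrow l], fun h0 j => ?_⟩
    by_contra hjl
    have hI : ({l} : Finset (Fin n)) ≠ Finset.univ := fun h => hjl (Finset.mem_singleton.1 (h ▸ Finset.mem_univ j))
    obtain ⟨l', hl', j', hj', hne⟩ := T.connected {l} (Finset.singleton_nonempty l) hI
    rw [Finset.mem_singleton] at hl' hj'
    subst hl'
    have hz := hrow l'
    rw [h0, mul_zero, zero_add] at hz
    have := (Finset.sum_eq_zero_iff_of_nonneg fun j hj =>
      mul_nonneg (T.offDiag_nonneg l' j (Finset.ne_of_mem_erase hj).symm) (T.m_pos j).le).1 hz j'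
      (Finset.mem_erase.2 ⟨hj', Finset.mem_univ _⟩)
    rcases mul_eq_zero.1 this with h | h
    · exact hne h
    · exact (T.m_pos j').ne' h
  have ht : ∀ l, l ≠ i → 0 ≤ t l := fun l hl => by
    have hneg : T.a l l < 0 := lt_of_le_of_ne (hdiag l).1 fun h => hl ((hdiag l).2 h i).symm
    obtain ⟨c, hc⟩ := T.w_dvd l l
    have hw := T.w_pos l
    have hc0 : c ≤ -1 := by nlinarith
    have hnot : ¬ (T.g l = 0 ∧ c = -1) := fun ⟨h1, h2⟩ => hnum l ⟨by
      have := hTg l; rw [h1, mul_zero] at this; exact_mod_cast this.symm, by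
      rw [← hTa l l, ← hTw l, hc, h2]; ring⟩
    show 0 ≤ _ - _
    rw [← hTg l, ← hTw l, ← hTa l l, hc]
    have hg0 := T.g_nonneg l
    have : 0 ≤ 2 * T.g l - 2 - c := by omega
    nlinarith
  have hsum : (Models.mult R (Over.mk p₀) (Δ i) : ℤ) * t i ≤ 2 * (Models.curveGenus (FractionRing R) C f : ℤ) - 2 := by
    have h1 : (Models.mult R (Over.mk p₀) (Δ i) : ℤ) * t i ≤ ∑ l, (Models.mult R (Over.mk p₀) (Δ l) : ℤ) * t l :=
      Finset.single_le_sum (f := fun l => (Models.mult R (Over.mk p₀) (Δ l) : ℤ) * t l) (fun l _ => by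
        by_cases hl : l = i
        · subst hl
          refine mul_nonneg (Int.natCast_nonneg _) ?_
          have h2 := (hdiag l).1
          rw [hTa] at h2
          have h3 := euler_vertComp (Δ l)
          show 0 ≤ _ - _
          omega
        · exact mul_nonneg (Int.natCast_nonneg _) (ht l hl)) (Finset.mem_univ i)
    change 2 * _ = 2 + ∑ l, (Models.mult R (Over.mk p₀) (Δ l) : ℤ) * t l at hform
    omega
  have hti : 2 * ((Models.curveGenus (FractionRing R) C f : ℤ) - 1) - T.a i i ≤ t i := by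
    have h3 := euler_vertComp (Δ i)
    rw [hTa]
    show _ ≤ _ - _
    omega
  have hmi : (1 : ℤ) ≤ Models.mult R (Over.mk p₀) (Δ i) := by
    rw [← hTm]; exact T.m_pos i
  have hai := (hdiag i).1
  have hm1 : Models.mult R (Over.mk p₀) (Δ i) = 1 := by
    by_contra hne
    have : (2 : ℤ) ≤ Models.mult R (Over.mk p₀) (Δ i) := by omega
    nlinarith
  rw [hm1, Nat.cast_one, one_mul] at hsum
  have ha0 : T.a i i = 0 := by omega
  haveI : IsIso ν₀ := heq (by
    have h3 := euler_vertComp (Δ i)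
    show _ = _
    have : t i = 2 * ((Models.h1 R (Over.mk p₀) (Δ i) : ℤ) - (Models.wdeg R (Over.mk p₀) (Δ i) : ℤ)) -
      T.a i i := by rw [hTa]
    omega)
  have hcov : Models.specialFibreSet R (Over.mk p₀) ⊆ Set.range (Δ i).ι := fun z hz => by
    obtain ⟨j, hj⟩ := Set.mem_iUnion.1 (ArInt.cover _ Δ hΔ hz)
    rwa [(hdiag i).2 ha0 j] at hj
  obtain ⟨e, he⟩ := exists_iso_specialFibre (Z := Over.mk p₀) (Δ i) hcov hm1
  haveI : IsProper p₀ := hmin.1.2.1
  refine ⟨X₀, p₀, hmin.1.1, inferInstance, smooth_of_two_fibres p₀ ?_ ?_⟩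
  · haveI : Smooth f := hC.2.1
    rw [← hg₀.isoPullback_inv_snd]
    infer_instance
  · haveI : Smooth G.curve.hom := by
      rw [show G.curve.hom = inv ν₀ ≫ (Γ' ↘ Spec (CommRingCat.of k₀)) from
        ((IsIso.eq_inv_comp ν₀).2 hw₀)]
      infer_instance
    haveI : Smooth (Δ i).curve.hom := by
      rw [show (Δ i).curve.hom = inv τ ≫ G.curve.hom from (IsIso.eq_inv_comp τ).2 hτw]
      infer_instance
    exact he ▸ inferInstance

end Groth.Agent.ResolveX
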