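import Groth.Agent.ResolveX.ModelsMin
import Groth.Agent.ArInt.RatPoint
import Groth.Agent.FComplLib.IdealComap
import Groth.Agent.S2803
import Groth.Agent.S4806

/-!
# Minimal models of curves of genus zero
-/

set_option autoImplicit false
set_option linter.style.haveILetI false
set_option linter.unusedSectionVars false
set_option backward.isDefEq.respectTransparency false
set_option backward.isDefEq.respectTransparency.types false
set_option maxHeartbeats 1000000

universe u

open CategoryTheory CategoryTheory.Limits AlgebraicGeometry TopologicalSpace IsLocalRing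

attribute [local instance 2000] CategoryTheory.CategoryStruct.toQuiver

noncomputable section

namespace Groth.Agent.ResolveX

open Groth.Agent

variable {R : Type u} [CommRing R] [IsDomain R] [IsDiscreteValuationRing R]

local notation "jK" => Spec.map (CommRingCat.ofHom (algebraMap R (FractionRing R)))

/-- A rational point has closed immersion structure map. -/
theorem isClosedImmersion_ratPoint (X : Over (Spec (CommRingCat.of R))) (x : X.left)
    (hres : Function.Surjective ((X.left.residue x).hom.comp (Models.stalkHom R X x))) :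
    IsClosedImmersion (X.left.fromSpecResidueField x ≫ X.hom) := by
  rw [Scheme.fromSpecResidueField, Category.assoc, ArInt.fromSpecStalk_hom, ← Spec.map_comp]
  exact IsClosedImmersion.spec_of_surjective _ hres

/-- A curve meeting a contracted curve transversally at a rational point maps isomorphically. -/
theorem isClosedImmersion_contract {W Z : Over (Spec (CommRingCat.of R))} [ArInt.IsSurf W] [Flat W.hom]
    [IsSeparated Z.hom] [IsLocallyNoetherian Z.left] (b : W ⟶ Z) [IsProper b.left] (E F : ArSurf.VertComp R W)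
    (y : Z.left) (hy : IsClosed ({y} : Set Z.left))
    [IsIso (b.left ∣_ (⟨{y}ᶜ, hy.isOpen_compl⟩ : Z.left.Opens))]
    (hF : (Scheme.IdealSheafData.vanishingIdeal ⟨{y}, hy⟩).comap b.left = F.ι.ker)
    (x : W.left) (hx : IsClosed ({x} : Set W.left))
    (hsup : E.ι.ker ⊔ F.ι.ker = Scheme.IdealSheafData.vanishingIdeal ⟨closure {x}, isClosed_closure⟩)
    (hres : Function.Surjective ((W.left.residue x).hom.comp (Models.stalkHom R W x))) :
    IsClosedImmersion (E.ι ≫ b.left) := by
  haveI := E.isClosedImmersion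
  haveI := E.isIntegral
  let g := E.ι ≫ b.left
  haveI : IsProper g := inferInstanceAs (IsProper (E.ι ≫ b.left))
  haveI : LocallyOfFinitePresentation g := inferInstance
  refine (S4806.result g).2 fun z => ?_
  by_cases hz : z = y
  · subst hz
    let jy := Z.left.fromSpecResidueField z
    haveI : IsClosedImmersion jy :=
      IsClosedImmersion.of_isPreimmersion _ (by rw [Scheme.range_fromSpecResidueField]; exact hy)
    haveI : IsClosedImmersion (W.left.fromSpecResidueField x) :=
      IsClosedImmersion.of_isPreimmersion _ (by rw [Scheme.range_fromSpecResidueField]; exact hx)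
    let i := g.fiberι z ≫ E.ι
    haveI : IsClosedImmersion (g.fiberι z) := inferInstanceAs (IsClosedImmersion (pullback.fst g jy))
    haveI : IsClosedImmersion i := inferInstanceAs (IsClosedImmersion (g.fiberι z ≫ E.ι))
    have hjy : jy.ker = Scheme.IdealSheafData.vanishingIdeal ⟨{z}, hy⟩ := CurveDiv.ker_fromSpecResidueField z hy
    have hker : i.ker = (W.left.fromSpecResidueField x).ker := by
      rw [CurveDiv.ker_fromSpecResidueField x hx]
      show (pullback.fst g jy ≫ E.ι).ker = Scheme.IdealSheafData.vanishingIdeal ⟨{x}, hx⟩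
      rw [Scheme.Hom.ker_comp, Scheme.IdealSheafData.ker_fst_of_isClosedImmersion jy g, hjy,
        Scheme.IdealSheafData.comap_comp, hF, ArInt.map_comap_eq_sup, sup_comm, hsup]
      exact congrArg _ (Closeds.ext hx.closure_eq)
    haveI := IsClosedImmersion.isIso_lift (W.left.fromSpecResidueField x) i hker.symm
    haveI := isClosedImmersion_ratPoint W x hres
    let l := IsClosedImmersion.lift (W.left.fromSpecResidueField x) i hker.symm.le
    haveI : IsClosedImmersion (i ≫ W.hom) := by
      rw [show i = l ≫ W.left.fromSpecResidueField x from (IsClosedImmersion.lift_fac _ _ _).symm, Category.assoc]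
      infer_instance
    have hw : g.fiberToSpecResidueField z ≫ (jy ≫ Z.hom) = i ≫ W.hom := by
      rw [← Category.assoc, show g.fiberToSpecResidueField z ≫ jy = g.fiberι z ≫ g from pullback.condition.symm]
      simp only [g, i, Category.assoc, Over.w b]
    haveI : IsClosedImmersion (g.fiberToSpecResidueField z) := by
      haveI : IsClosedImmersion (g.fiberToSpecResidueField z ≫ (jy ≫ Z.hom)) := hw ▸ ‹IsClosedImmersion (i ≫ W.hom)›
      exact IsClosedImmersion.of_comp (g.fiberToSpecResidueField z) (jy ≫ Z.hom)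
    exact @FlatMisc.isEmpty_or_isIso_of_closedImmersion_field _ (Z.left.residueField z) _ (g.fiberToSpecResidueField z) ‹_›
  · let U : Z.left.Opens := ⟨{y}ᶜ, hy.isOpen_compl⟩
    haveI : IsClosedImmersion (g ∣_ U) := by
      rw [morphismRestrict_comp]
      infer_instance
    exact ((S2803.result g z).1 ⟨U, hz, inferInstance⟩).1

/-- A single component of multiplicity one is the closed fibre. -/
theorem exists_iso_specialFibre {Z : Over (Spec (CommRingCat.of R))} [ArInt.IsSurf Z] [Flat Z.hom]
    (E : ArSurf.VertComp R Z) (hcov : Models.specialFibreSet R Z ⊆ Set.range E.ι)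
    (hm : Models.mult R Z E = 1) :
    ∃ e : Models.specialFibre R Z.left Z.hom ≅ E.curve.left,
      e.hom ≫ E.curve.hom = pullback.snd Z.hom
        (Spec.map (CommRingCat.ofHom (algebraMap R (IsLocalRing.ResidueField R)))) := by
  let jk := Spec.map (CommRingCat.ofHom (IsLocalRing.residue R))
  haveI : IsClosedImmersion jk := IsClosedImmersion.spec_of_surjective _ IsLocalRing.residue_surjective
  haveI := E.isClosedImmersion
  have hfib := ArInt.fibreIdeal_eq_prod (fun _ : Fin 1 => E) (fun a b _ => Subsingleton.elim a b)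
    (fun _ => ArInt.dim_gen E) (hcov.trans (Set.subset_iUnion (fun _ : Fin 1 => Set.range E.ι.base) 0))
  rw [Fin.prod_univ_one, hm, pow_one] at hfib
  have hker : E.ι.ker = (pullback.fst Z.hom jk).ker := by
    rw [Scheme.IdealSheafData.ker_fst_of_isClosedImmersion jk Z.hom, ← hfib]
    rfl
  haveI := IsClosedImmersion.isIso_lift E.ι (pullback.fst Z.hom jk) hker
  let e : pullback Z.hom jk ≅ E.curve.left := asIso (IsClosedImmersion.lift E.ι (pullback.fst Z.hom jk) hker.le)
  refine ⟨e, (cancel_mono jk).1 ?_⟩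
  show (e.hom ≫ E.curve.hom) ≫ jk = pullback.snd Z.hom jk ≫ jk
  rw [Category.assoc, ← E.w, ← Category.assoc, asIso_hom, IsClosedImmersion.lift_fac, pullback.condition]

/-- A fibre component covering the fibre above two reduced components has multiplicity one. -/
theorem mult_eq_one_of_comap {W Z : Over (Spec (CommRingCat.of R))} [ArInt.IsSurf W] [Flat W.hom] [ArInt.IsSurf Z] [Flat Z.hom]
    (b : W ⟶ Z) (E : ArSurf.VertComp R Z) (hcov : Models.specialFibreSet R Z ⊆ Set.range E.ι)
    (Γ : ArSurf.VertComp R W) (hΓ : Models.mult R W Γ = 1) (hsub : b.left (Models.genPtOf R W Γ) ∈ Set.range E.ι) :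
    Models.mult R Z E = 1 := by
  haveI := E.isClosedImmersion
  have hfib := ArInt.fibreIdeal_eq_prod (fun _ : Fin 1 => E) (fun a b _ => Subsingleton.elim a b)
    (fun _ => ArInt.dim_gen E) (hcov.trans (Set.subset_iUnion (fun _ : Fin 1 => Set.range E.ι.base) 0))
  rw [Fin.prod_univ_one] at hfib
  have hm : 0 < Models.mult R Z E :=
    ArInt.mult_pos (fun _ : Fin 1 => E) (fun a b _ => Subsingleton.elim a b) 0
  by_contra hne
  let ξ := Models.genPtOf R W Γ
  let O := W.left.presheaf.stalk ξ
  haveI := ArInt.IsSurf.regular (X := W) ξ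
  haveI := RegLoc6.isDomain_of_isRegularLocalRing O
  have hdim : ringKrullDim O = 1 := ArInt.dim_gen Γ
  haveI := DimFormula.isPrincipalIdealRing_of_regular_dim_le_one hdim.le
  haveI : IsDiscreteValuationRing O :=
    { not_a_field' := fun h => by
        have h0 := ringKrullDim_eq_zero_of_isField (IsLocalRing.isField_iff_maximalIdeal_eq.2 h)
        rw [hdim] at h0
        exact absurd h0 one_ne_zero }
  let A := Div21Lib.stI (E.ι.ker.comap b.left) ξ
  have hA : A ≤ maximalIdeal O := by
    rw [ArInt.stI_le_maximal_iff, ← SetLike.mem_coe, Scheme.IdealSheafData.support_comap]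
    show b.left ξ ∈ (E.ι.ker.support : Set Z.left)
    rw [ArInt.support_ker]
    exact hsub
  have hpow : Div21Lib.stI (ArInt.fibreIdeal W) ξ = A ^ Models.mult R Z E := by
    rw [← ArInt.stI_pow, ← FComplLib.comap_pow, ← hfib, ArInt.fibreIdeal, ArInt.fibreIdeal,
      ← Scheme.IdealSheafData.comap_comp, Over.w b]
  have hle : Div21Lib.stI (ArInt.fibreIdeal W) ξ ≤ maximalIdeal O ^ 2 := by
    rw [hpow]
    exact (Ideal.pow_right_mono hA _).trans (Ideal.pow_le_pow_right (by omega))
  rw [ArInt.stI_fibreIdeal] at hle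
  unfold Models.mult at hΓ
  have hlen : (Module.length O (O ⧸ maximalIdeal O ^ 2)) ≤
      Module.length O (O ⧸ (maximalIdeal R).map (Models.stalkHom R W ξ)) :=
    Module.length_le_of_surjective (Submodule.factor hle) (Submodule.factor_surjective hle)
  rw [IsDiscreteValuationRing.length_quotient_pow_maximalIdeal] at hlen
  rcases eq_or_ne (Module.length O (O ⧸ (maximalIdeal R).map (Models.stalkHom R W ξ))) ⊤ with h | h
  · rw [h] at hΓ
    simp at hΓ
  · rw [(ENat.toNat_eq_iff one_ne_zero).1 hΓ] at hlen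
    exact absurd hlen (by norm_num)

variable {C X : Scheme.{u}} {f : C ⟶ Spec (CommRingCat.of (FractionRing R))} {p : X ⟶ Spec (CommRingCat.of R)}

/-- A contraction sequence out of a surface with irreducible closed fibre is an isomorphism. -/
theorem isIso_of_irreducible_fibre (hC : Curve.IsSmoothProperCurve (FractionRing R) C f) (hH0 : IsIso f.appTop)
    {Z : Scheme.{u}} {r : Z ⟶ X} (hr : Models.IsContractionSeq r)
    (hX : Models.IsRegularProperModel R X p C f) (E : ArSurf.VertComp R (Over.mk (r ≫ p)))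
    (hcov : Models.specialFibreSet R (Over.mk (r ≫ p)) ⊆ Set.range E.ι) : IsIso r := by
  cases hr with
  | iso e => infer_instance
  | @step _ Z₂ _ E₀ ι b r₂ hι hE₀ hb hr₂ =>
    exfalso
    haveI := hι
    obtain ⟨hXs, hXf, -⟩ := model_surface hC hH0 hX
    haveI := hXs; haveI := hXf
    obtain ⟨hZs, hZf⟩ := isSurf_of_seq (Models.IsContractionSeq.step ι b r₂ hι hE₀ hb hr₂) p
    obtain ⟨hZ₂s, hZ₂f⟩ := isSurf_of_seq hr₂ p
    haveI := hZs; haveI := hZ₂s
    haveI : Flat (Over.mk (r₂ ≫ p)).hom := hZ₂f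
    haveI : Flat (Over.mk ((b ≫ r₂) ≫ p)).hom := hZf
    obtain ⟨hnoe, hbp, y, hy, hry, hreg, hdy, hbl⟩ := hb
    haveI := hbp; haveI := hnoe; haveI := hreg
    haveI : IsProper (r₂ ≫ p) := hZ₂s.isProper
    haveI : IsIntegral Z₂ := hZ₂s.isIntegral
    obtain ⟨F, hFr, -⟩ := exists_vertComp_exc (Z := Over.mk ((b ≫ r₂) ≫ p)) ι hE₀ fun q => by
      show ((b ≫ r₂) ≫ p) (ι q) = _
      rw [Category.assoc, Scheme.Hom.comp_apply, show b (ι q) = y from hry.subset ⟨q, rfl⟩]
      exact hom_closed_point (r₂ ≫ p) hy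
    obtain ⟨g₀, hg₀⟩ : ∃ g₀, IsPullback g₀ f p jK := hX.1.2.2.2
    obtain ⟨g₂, -, hg₂⟩ := exists_lift_seq hr₂ p g₀ hg₀
    obtain ⟨-, -, n, Δ, hΔ⟩ := model_surface hC hH0 (isModel_of_isSurf (p := r₂ ≫ p) hZ₂f hg₂)
    haveI := F.isClosedImmersion
    haveI := F.isIntegral
    haveI := E.isClosedImmersion
    haveI := E.isIntegral
    have hgenF : F.ι (genericPoint F.curve.left) ∈ Set.range E.ι := hcov (ArInt.mem_specialFibre F _)
    have hFE : Set.range E.ι = Set.range F.ι := by
      rw [← ArInt.closure_gen F]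
      refine Set.Subset.antisymm ?_ (closure_minimal (by simpa using hgenF) E.ι.isClosedEmbedding.isClosed_range)
      rw [← ArInt.closure_gen E]
      by_contra hne
      obtain ⟨a, ha⟩ : ∃ a : F.curve.left, a ≠ genericPoint F.curve.left := by
        by_contra h
        push Not at h
        haveI : Subsingleton F.curve.left := ⟨fun a b => (h a).trans (h b).symm⟩
        have h0 : topologicalKrullDim F.curve.left ≤ 0 := topologicalKrullDim_zero_of_discreteTopology _
        rw [F.dim_eq] at h0
        exact absurd h0 (by norm_num)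
      obtain ⟨c, hc⟩ := hgenF
      refine ArInt.no_chain_four' ArInt.IsSurf.dim_eq
        (ArInt.lt_of_specializes_ne (((genericPoint_spec _).specializes (Set.mem_univ a)).map F.ι.continuous)
          fun e => ha (F.ι.isClosedEmbedding.injective e).symm)
        (ArInt.lt_of_specializes_ne (a := E.ι (genericPoint E.curve.left))
          (hc ▸ ((genericPoint_spec _).specializes (Set.mem_univ c)).map E.ι.continuous) fun e => hne (by rw [e]))
        (ArInt.lt_of_specializes_ne ((genericPoint_spec _).specializes (Set.mem_univ _)) fun e => ?_)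
      refine ArInt.gen_ne_closedPoint (X := Over.mk ((b ≫ r₂) ≫ p)) ?_
      rw [e]
      exact ArInt.mem_specialFibre E _
    have hall : ∀ z ∈ Models.specialFibreSet R (Over.mk (r₂ ≫ p)), z = y := fun z hz => by
      obtain ⟨w, rfl⟩ := surjective_point y hy hdy hbl z
      have hw : w ∈ Models.specialFibreSet R (Over.mk ((b ≫ r₂) ≫ p)) := by
        show ((b ≫ r₂) ≫ p) w = _
        rw [Category.assoc, Scheme.Hom.comp_apply]
        exact hz
      obtain ⟨c, hc⟩ := hFr.subset (hFE.subset (hcov hw))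
      rw [← hc]
      exact hry.subset ⟨c, rfl⟩
    rcases Nat.eq_zero_or_pos n with hn | hn
    · obtain ⟨j, -⟩ := Set.mem_iUnion.1 (ArInt.cover _ Δ hΔ (show y ∈ _ from hom_closed_point (r₂ ≫ p) hy))
      exact Fin.elim0 (hn ▸ j)
    · haveI := (Δ ⟨0, hn⟩).isClosedImmersion
      haveI : Subsingleton (Δ ⟨0, hn⟩).curve.left := ⟨fun a b => (Δ ⟨0, hn⟩).ι.isClosedEmbedding.injective
        ((hall _ (ArInt.mem_specialFibre _ a)).trans (hall _ (ArInt.mem_specialFibre _ b)).symm)⟩
      have h0 : topologicalKrullDim (Δ ⟨0, hn⟩).curve.left ≤ 0 := topologicalKrullDim_zero_of_discreteTopology _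
      rw [(Δ ⟨0, hn⟩).dim_eq] at h0
      exact absurd h0 (by norm_num)

/-- If an exceptional curve above a minimal model survives, the closed fibre is the projective line. -/
theorem exists_iso_P1_of_not_contracted (hC : Curve.IsSmoothProperCurve (FractionRing R) C f) (hH0 : IsIso f.appTop)
    {W : Scheme.{u}} {h : W ⟶ X} (hh : Models.IsContractionSeq h) :
    ∀ (p : X ⟶ Spec (CommRingCat.of R)), Models.IsMinimalModel R X p C f →
      ∀ E : ArSurf.VertComp R (Over.mk (h ≫ p)), Models.IsExcCurve E.ι →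
        (∃ x : X, Set.range ((E.ι ≫ h).base : E.curve.left → X) = {x}) ∨
        ∃ e : Models.specialFibre R X p ≅ CohB1.ProjSpace 1 (IsLocalRing.ResidueField R),
          e.hom ≫ CohB1.ProjSpace.toSpec 1 (IsLocalRing.ResidueField R) =
            pullback.snd p (Spec.map (CommRingCat.ofHom (algebraMap R (IsLocalRing.ResidueField R)))) := by
  induction hh with
  | @iso W X e =>
    intro p hp E hE
    obtain ⟨hs, hflat, -⟩ := model_surface hC hH0 hp.1
    haveI := hs
    haveI : Flat (Over.mk p).hom := hflat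
    haveI := hflat
    obtain ⟨hWs, hWf⟩ := isSurf_of_seq (Models.IsContractionSeq.iso e) p
    haveI := hWs
    haveI : Flat (Over.mk (e.hom ≫ p)).hom := hWf
    let b : Over.mk (e.hom ≫ p) ⟶ Over.mk p := Over.homMk e.hom rfl
    haveI : IsProper b.left := inferInstanceAs (IsProper e.hom)
    haveI : IsIso b.left := inferInstanceAs (IsIso e.hom)
    obtain ⟨E₁, -, hE₁⟩ := exists_image_exc b E hE ⊤ fun q => trivial
    exact absurd hE₁ (hp.2 E₁)
  | @step W Z X E₀ ι b r hι hE₀ hb hr ih =>
    intro p hp E hE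
    haveI := hι
    obtain ⟨hs, hflat, -⟩ := model_surface hC hH0 hp.1
    haveI := hs
    haveI := hflat
    obtain ⟨g₀, hg₀⟩ : ∃ g₀, IsPullback g₀ f p jK := hp.1.1.2.2.2
    obtain ⟨hZs, hZf⟩ := isSurf_of_seq hr p
    have hseq := Models.IsContractionSeq.step ι b r hι hE₀ hb hr
    obtain ⟨hWs, hWf⟩ := isSurf_of_seq hseq p
    haveI := hZs; haveI := hWs
    haveI : Flat (Over.mk (r ≫ p)).hom := hZf
    haveI : Flat (Over.mk ((b ≫ r) ≫ p)).hom := hWf
    obtain ⟨hnoe, hbp, y, hy, hry, hregy, hdy, hbl⟩ := hb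
    haveI := hnoe; haveI := hregy; haveI := hbp
    haveI : IsProper (r ≫ p) := hZs.isProper
    haveI : IsIntegral Z := hZs.isIntegral
    haveI : IsProper p := hs.isProper
    obtain ⟨F, hFr, hFexc⟩ := exists_vertComp_exc (Z := Over.mk ((b ≫ r) ≫ p)) ι hE₀ fun q => by
      show ((b ≫ r) ≫ p) (ι q) = _
      rw [Category.assoc, Scheme.Hom.comp_apply, show b (ι q) = y from hry.subset ⟨q, rfl⟩]
      exact hom_closed_point (r ≫ p) hy
    haveI := E.isClosedImmersion
    haveI := E.isIntegral
    haveI : IsIso (b ∣_ (⟨{y}ᶜ, hy.isOpen_compl⟩ : Z.Opens)) := BlowUpLib.isIso_restrict hbl _ fun z hz => by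
      show z ∉ ((Scheme.IdealSheafData.vanishingIdeal ⟨{y}, hy⟩).support : Set Z)
      rw [Scheme.IdealSheafData.coe_support_vanishingIdeal]; exact hz
    let b' : Over.mk ((b ≫ r) ≫ p) ⟶ Over.mk (r ≫ p) := Over.homMk b (Category.assoc b r p).symm
    haveI : IsProper b'.left := hbp
    haveI : IsIso (b'.left ∣_ (⟨{y}ᶜ, hy.isOpen_compl⟩ : Z.Opens)) := ‹IsIso (b ∣_ _)›
    have hfib : b ⁻¹' {y} = Set.range ι := (range_eq_fibre ι y hy hdy hbl hE₀ hry).symm
    by_cases heq : Set.range E.ι = Set.range F.ι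
    · refine Or.inl ⟨r y, ?_⟩
      show Set.range ((r ∘ b) ∘ E.ι) = {r y}
      rw [Set.range_comp, heq, hFr, Set.image_comp, ← Set.range_comp (g := b)]
      exact (congrArg (fun S => r '' S) (show Set.range (b ∘ ι) = {y} from hry)).trans Set.image_singleton
    by_cases hdis : Disjoint (Set.range E.ι) (Set.range F.ι)
    · obtain ⟨E₁, hE₁r, hE₁⟩ := exists_image_exc b' E hE ⟨{y}ᶜ, hy.isOpen_compl⟩ fun q (hq : b (E.ι q) = y) =>
        Set.disjoint_left.1 hdis ⟨q, rfl⟩ (hFr.ge (hfib.subset hq))
      rcases ih p hp E₁ hE₁ with ⟨x, hx⟩ | hiso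
      case inr => exact Or.inr hiso
      refine Or.inl ⟨x, ?_⟩
      rw [← hx]
      show Set.range (r ∘ b ∘ E.ι) = Set.range (r ∘ E₁.ι)
      rw [Set.range_comp r, Set.range_comp r, hE₁r, Set.range_comp b]
      rfl
    -- two exceptional curves meet
    refine Or.inr ?_
    obtain ⟨g', -, hg'⟩ := exists_lift_seq hseq p g₀ hg₀
    have hmodel := isModel_of_isSurf (p := (b ≫ r) ≫ p) hWf hg'
    obtain ⟨-, -, n, Γ, hΓ⟩ := model_surface hC hH0 hmodel
    obtain ⟨i, hi⟩ := exists_component_eq Γ hΓ E
    obtain ⟨j, hj⟩ := exists_component_eq Γ hΓ F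
    have hij : i ≠ j := fun h => heq (hi.trans (h ▸ hj.symm))
    obtain ⟨hn, hmult, hP1, ⟨x, hxr, hxI, hxres⟩, -⟩ := S3327.result R C W f ((b ≫ r) ≫ p) hC hH0 hmodel Γ hΓ i j hij
      (isExcCurve_of_range_eq E (Γ i) hi hE) (isExcCurve_of_range_eq F (Γ j) hj hFexc) (by
        intro hd
        exact hdis (hi ▸ hj ▸ hd))
    haveI := (Γ i).isClosedImmersion
    haveI := (Γ i).isIntegral
    haveI := (Γ j).isClosedImmersion
    have hjy : ∀ w ∈ Set.range (Γ j).ι, b w = y := fun w hw => by
      obtain ⟨c, rfl⟩ := (hj.symm.trans hFr).subset hw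
      exact hry.subset ⟨c, rfl⟩
    have hxc : IsClosed ({x} : Set W) := by
      rw [← hxr]
      exact (Γ i).ι.isClosedEmbedding.isClosed_range.inter (Γ j).ι.isClosedEmbedding.isClosed_range
    have hker : (Scheme.IdealSheafData.vanishingIdeal ⟨{y}, hy⟩).comap b = (Γ j).ι.ker := by
      obtain ⟨φ, hφ⟩ := exists_iso_exceptional (Γ j).ι y hy hdy hbl (isExcCurve_of_range_eq F (Γ j) hj hFexc) (by
        show Set.range (b ∘ (Γ j).ι) = {y}
        rw [Set.range_comp, ← hj, hFr, ← Set.range_comp]
        exact hry)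
      rw [← Scheme.Hom.ker_comp_of_isIso φ.hom (Γ j).ι, hφ, Scheme.IdealSheafData.ker_subschemeι]
    haveI : IsLocallyNoetherian (Over.mk (r ≫ p)).left := inferInstanceAs (IsLocallyNoetherian Z)
    haveI : IsSeparated (Over.mk (r ≫ p)).hom := inferInstanceAs (IsSeparated (r ≫ p))
    haveI hci : IsClosedImmersion ((Γ i).ι ≫ b) :=
      isClosedImmersion_contract b' (Γ i) (Γ j) y hy hker x hxc hxI hxres
    let E₁ : ArSurf.VertComp R (Over.mk (r ≫ p)) :=
      ⟨(Γ i).curve, (Γ i).ι ≫ b, hci, (Γ i).isIntegral, (Γ i).dim_eq, by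
        show ((Γ i).ι ≫ b) ≫ r ≫ p = _
        rw [← (Γ i).w]
        simp only [Category.assoc, Over.mk_hom]⟩
    have hall : ∀ l, l = i ∨ l = j := fun l => by
      have h1 := Fin.val_ne_of_ne hij
      have := l.isLt; have := i.isLt; have := j.isLt
      rcases (show l.val = i.val ∨ l.val = j.val by omega) with h | h
      · exact Or.inl (Fin.ext h)
      · exact Or.inr (Fin.ext h)
    have hcov : Models.specialFibreSet R (Over.mk (r ≫ p)) ⊆ Set.range E₁.ι := fun z hz => by
      obtain ⟨w, rfl⟩ := surjective_point y hy hdy hbl z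
      have hw : w ∈ Models.specialFibreSet R (Over.mk ((b ≫ r) ≫ p)) := by
        show ((b ≫ r) ≫ p) w = _
        rw [Category.assoc, Scheme.Hom.comp_apply]
        exact hz
      obtain ⟨l, hl⟩ := Set.mem_iUnion.1 (ArInt.cover _ Γ hΓ hw)
      rcases hall l with rfl | rfl
      · obtain ⟨c, rfl⟩ := hl
        exact ⟨c, rfl⟩
      · obtain ⟨c, hc⟩ := (hxr.ge (Set.mem_singleton x)).1
        refine ⟨c, ?_⟩
        show b ((Γ i).ι c) = b w
        rw [hjy w hl, hc]
        exact hjy x (hxr.ge (Set.mem_singleton x)).2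
    have hm1 : Models.mult R (Over.mk (r ≫ p)) E₁ = 1 :=
      mult_eq_one_of_comap b' E₁ hcov (Γ i) (hmult i) ⟨genericPoint (Γ i).curve.left, rfl⟩
    obtain ⟨e₁, he₁⟩ := exists_iso_specialFibre (Z := Over.mk (r ≫ p)) E₁ hcov hm1
    obtain ⟨e₂, he₂⟩ := hP1 i
    haveI := isIso_of_irreducible_fibre hC hH0 hr hp.1 E₁ hcov
    let jk := Spec.map (CommRingCat.ofHom (algebraMap R (IsLocalRing.ResidueField R)))
    let t : pullback p jk ⟶ pullback (r ≫ p) jk :=
      pullback.map p jk (r ≫ p) jk (inv r) (𝟙 _) (𝟙 _) (by simp) (by simp)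
    refine ⟨asIso t ≪≫ e₁ ≪≫ e₂, ?_⟩
    show (t ≫ e₁.hom ≫ e₂.hom) ≫ _ = pullback.snd p jk
    simp only [Category.assoc, he₂]
    rw [show e₁.hom ≫ (Γ i).curve.hom = pullback.snd (r ≫ p) jk from he₁]
    simp [t]

/-- Of two nonisomorphic minimal models each has the projective line as closed fibre. -/
theorem exists_iso_P1_of_ne (hC : Curve.IsSmoothProperCurve (FractionRing R) C f) (hH0 : IsIso f.appTop)
    {X' : Scheme.{u}} {p' : X' ⟶ Spec (CommRingCat.of R)}
    (hX : Models.IsMinimalModel R X p C f) (hX' : Models.IsMinimalModel R X' p' C f)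
    (g : C ⟶ X) (hg : IsPullback g f p jK) (g' : C ⟶ X') (hg' : IsPullback g' f p' jK)
    (hne : ∀ e : X' ≅ X, e.hom ≫ p = p' → g' ≫ e.hom ≠ g) :
    ∃ e : Models.specialFibre R X p ≅ CohB1.ProjSpace 1 (IsLocalRing.ResidueField R),
      e.hom ≫ CohB1.ProjSpace.toSpec 1 (IsLocalRing.ResidueField R) =
        pullback.snd p (Spec.map (CommRingCat.ofHom (algebraMap R (IsLocalRing.ResidueField R)))) := by
  refine (exists_hom_or hC hH0 hX hX'.1 g hg g' hg' _ (fun hh E hE =>
    exists_iso_P1_of_not_contracted hC hH0 hh p hX E hE)).resolve_right ?_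
  rintro ⟨⟨b, ⟨hbp, hbg⟩, -⟩, hseq⟩
  have hs := hseq b hbp hbg
  suffices hiso : IsIso b from hne (asIso b) hbp hbg
  cases hs with
  | iso e => infer_instance
  | @step _ Z _ E₀ ι b₁ r hι hE₀ hb₁ hr =>
    exfalso
    haveI := hι
    obtain ⟨hs', hf', -⟩ := model_surface hC hH0 hX'.1
    haveI := hs'
    haveI : Flat (Over.mk p').hom := hf'
    obtain ⟨hs₀, hf₀, -⟩ := model_surface hC hH0 hX.1
    haveI := hs₀; haveI := hf₀
    obtain ⟨-, hb₁p, y, hy, hry, -⟩ := hb₁
    obtain ⟨F, -, hF⟩ := exists_vertComp_exc (Z := Over.mk p') ι hE₀ fun q => by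
      show p' (ι q) = _
      haveI : IsProper (r ≫ p) := (isSurf_of_seq hr p).1.isProper
      rw [← hbp, Category.assoc, Scheme.Hom.comp_apply, show b₁ (ι q) = y from hry.subset ⟨q, rfl⟩]
      exact hom_closed_point (r ≫ p) hy
    exact hX'.2 F hF

end Groth.Agent.ResolveX
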