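import Groth.Agent.GeomLoci.NearPoint
import Groth.Agent.GeomLoci.Components
import Groth.Agent.GeomLoci.IrredDvr
import Groth.Agent.GeomLoci.ConnCount
import Groth.Agent.GeomField.Components
import Groth.Agent.GeomField.GlobalFunctions
import Groth.Agent.VarGeom.Normal

/-!
# Components of geometric fibres near a normal generic fibre

Over the generic point a proper normal integral scheme has pairwise disjoint geometric components, as it is
geometrically irreducible over its field of global functions. The numbers of geometric irreducible and connected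
components are constant near the generic point, so the same holds for almost all fibres.
-/

set_option autoImplicit false
set_option linter.style.haveILetI false
set_option linter.unusedSectionVars false
set_option backward.isDefEq.respectTransparency false
set_option backward.isDefEq.respectTransparency.types false
set_option maxHeartbeats 1000000

universe u

open CategoryTheory CategoryTheory.Limits AlgebraicGeometry TopologicalSpace

attribute [local instance 2000] CategoryTheory.CategoryStruct.toQuiver

noncomputable section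

namespace Groth.Agent.ResolveX.Ded

open Groth.Agent

/-- Two points with a common specialisation have a common generalisation: the irreducible components are
pairwise disjoint. -/
def HasMeetGen (T : Type*) [TopologicalSpace T] : Prop :=
  ∀ a b x : T, a ⤳ x → b ⤳ x → ∃ c : T, c ⤳ a ∧ c ⤳ b

section Top

variable {T : Type*} [TopologicalSpace T]

/-- A space with as many components as connected components, finitely many, has disjoint components. -/
theorem hasMeetGen_of_card [QuasiSober T] (hfin : ENat.card (_root_.ConnectedComponents T) ≠ ⊤)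
    (h : (irreducibleComponents T).encard = ENat.card (_root_.ConnectedComponents T)) : HasMeetGen T := by
  intro a b x ha hb
  let pt : irreducibleComponents T → T := fun Z => Z.2.1.nonempty.choose
  let φ : irreducibleComponents T → _root_.ConnectedComponents T := fun Z => (pt Z : _root_.ConnectedComponents T)
  have hφ : ∀ (Z : irreducibleComponents T) (z : T), z ∈ (Z : Set T) → φ Z = (z : _root_.ConnectedComponents T) :=
    fun Z z hz => ConnectedComponents.coe_eq_coe'.2
      (Z.2.1.isPreirreducible.isPreconnected.subset_connectedComponent hz Z.2.1.nonempty.choose_spec)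
  have hsurj : Function.Surjective φ := fun c => by
    obtain ⟨z, rfl⟩ := ConnectedComponents.surjective_coe c
    exact ⟨⟨irreducibleComponent z, irreducibleComponent_mem_irreducibleComponents z⟩,
      hφ _ z mem_irreducibleComponent⟩
  haveI : Finite (_root_.ConnectedComponents T) :=
    not_infinite_iff_finite.1 fun _ => hfin ENat.card_eq_top_of_infinite
  haveI : Finite (irreducibleComponents T) := by
    refine (Set.encard_ne_top_iff.1 ?_).to_subtype
    rw [h]; exact hfin
  have hinj : Function.Injective φ := by
    refine ((Nat.bijective_iff_surjective_and_card φ).2 ⟨hsurj, ?_⟩).1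
    have h2 : ((Nat.card (irreducibleComponents T) : ℕ) : ℕ∞) = Nat.card (_root_.ConnectedComponents T) := by
      rw [← ENat.card_eq_coe_natCard, ← ENat.card_eq_coe_natCard]
      exact h
    exact_mod_cast h2
  let Za : irreducibleComponents T := ⟨irreducibleComponent a, irreducibleComponent_mem_irreducibleComponents a⟩
  let Zb : irreducibleComponents T := ⟨irreducibleComponent b, irreducibleComponent_mem_irreducibleComponents b⟩
  have hab : Za = Zb := hinj
    ((hφ Za x (ha.mem_closed isClosed_irreducibleComponent mem_irreducibleComponent)).trans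
      (hφ Zb x (hb.mem_closed isClosed_irreducibleComponent mem_irreducibleComponent)).symm)
  obtain ⟨c, hc⟩ := QuasiSober.sober (isIrreducible_irreducibleComponent (x := a)) isClosed_irreducibleComponent
  exact ⟨c, hc.specializes mem_irreducibleComponent,
    hc.specializes ((congrArg Subtype.val hab).symm.subset mem_irreducibleComponent)⟩

/-- With irreducible fibres over a finite discrete space the components are the fibres. -/
theorem counts_of_irreducible_fibres {D : Type*} [TopologicalSpace D] [DiscreteTopology D] [Finite D] (π : T → D)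
    (hπ : Continuous π) (hfib : ∀ d, IsIrreducible (π ⁻¹' {d})) :
    (irreducibleComponents T).encard = ENat.card D ∧ ENat.card (_root_.ConnectedComponents T) = ENat.card D := by
  let C : D → Set T := fun d => π ⁻¹' {d}
  have hc : ∀ d, IsClosed (C d) := fun d => (isClosed_discrete {d}).preimage hπ
  have hcov : ⋃ d, C d = Set.univ := Set.eq_univ_of_forall fun x => Set.mem_iUnion.2 ⟨π x, rfl⟩
  refine ⟨GeomLoci.encard_irreducibleComponents_eq C hc hfib hcov fun i k h => ?_, ?_⟩
  · obtain ⟨x, hx⟩ := (hfib i).nonempty
    exact (show π x = i from hx).symm.trans (h hx)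
  · rw [GeomLoci.card_connectedComponents_eq_quot C hc (fun d => (hfib d).isPreirreducible.isPreconnected)
      (fun d => (hfib d).nonempty) hcov]
    refine ENat.card_congr ⟨Quot.lift id fun i k ⟨x, hi, hk⟩ => (show π x = i from hi).symm.trans hk, Quot.mk _,
      fun q => ?_, fun d => rfl⟩
    obtain ⟨d⟩ := q
    rfl

end Top

section Field

attribute [local instance] Curv2.resAlgebra GeomField.globalAlgebra

variable {k : Type u} [Field k] {X : Scheme.{u}} [IsIntegral X] (f : X ⟶ Spec (CommRingCat.of k)) [IsProper f]

include f in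
/-- A proper normal integral scheme is geometrically irreducible over its global functions. -/
theorem geometricallyIrreducible_toSpecΓ (hn : ∀ x : X, IsIntegrallyClosed (X.presheaf.stalk x)) :
    GeometricallyIrreducible X.toSpecΓ := by
  letI : X.Over (Spec (CommRingCat.of k)) := ⟨f⟩
  haveI : UniversallyClosed (X ↘ Spec (CommRingCat.of k)) := inferInstanceAs (UniversallyClosed f)
  letI hL : Field Γ(X, ⊤) := (GeomField.isField_globalFunctions k X).toField
  letI : X.Over (Spec (CommRingCat.of Γ(X, ⊤))) := ⟨X.toSpecΓ⟩
  haveI : Nonempty (⊤ : X.Opens) := ⟨⟨genericPoint X, trivial⟩⟩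
  refine (GeomField.geometricallyIrreducible_iff_separable (k := Γ(X, ⊤)) (X := X)).2 fun a ha => ?_
  obtain ⟨p, hp, hp0⟩ := ha.isIntegral
  let η := genericPoint X
  let res : X.functionField →+* X.residueField η := (X.residue η).hom
  have hinj : Function.Injective res := res.injective
  obtain ⟨c, hc⟩ : ∃ c : X.functionField, res c = a := IsLocalRing.residue_surjective a
  have hm : ∀ r : Γ(X, ⊤), algebraMap Γ(X, ⊤) (X.residueField η) r = res (X.germToFunctionField ⊤ r) := by
    intro r
    show res (X.presheaf.germ ⊤ η trivial (Coh.toGlobal X.toSpecΓ r)) = _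
    rw [show Coh.toGlobal X.toSpecΓ r = r by
      show X.toSpecΓ.appTop ((Scheme.ΓSpecIso Γ(X, ⊤)).inv r) = r
      rw [Scheme.toSpecΓ_appTop]
      exact ConcreteCategory.congr_hom (Scheme.ΓSpecIso Γ(X, ⊤)).inv_hom_id r]
  obtain ⟨s, hs⟩ := VarGeom.exists_global_of_isIntegral hn c ⟨p, hp, hinj (by
    rw [Polynomial.hom_eval₂, map_zero, hc, ← hp0]
    congr 1
    exact RingHom.ext fun r => (hm r).symm)⟩
  exact ⟨s, (hm s).trans (by rw [hs, hc])⟩

/-- The geometric components of a proper normal integral scheme are disjoint. -/
theorem counts_geometric (hn : ∀ x : X, IsIntegrallyClosed (X.presheaf.stalk x)) (t : Spec (CommRingCat.of k)) :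
    MoreMor.nGeomIrredComp f t = MoreMor.nGeomConnComp f t ∧ MoreMor.nGeomConnComp f t ≠ ⊤ := by
  letI : X.Over (Spec (CommRingCat.of k)) := ⟨f⟩
  haveI : UniversallyClosed (X ↘ Spec (CommRingCat.of k)) := inferInstanceAs (UniversallyClosed f)
  haveI : LocallyOfFiniteType (X ↘ Spec (CommRingCat.of k)) := inferInstanceAs (LocallyOfFiniteType f)
  haveI := GeomField.finite_globalFunctions k X
  haveI := geometricallyIrreducible_toSpecΓ f hn
  let Ω := SeparableClosure k
  let g : Spec (CommRingCat.of Ω) ⟶ Spec (CommRingCat.of k) := Spec.map (CommRingCat.ofHom (algebraMap k Ω))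
  let m : Spec Γ(X, ⊤) ⟶ Spec (CommRingCat.of k) := Spec.map (CommRingCat.ofHom (algebraMap k Γ(X, ⊤)))
  have hm : X.toSpecΓ ≫ m = f := by
    show _ ≫ Spec.map ((Scheme.ΓSpecIso (CommRingCat.of k)).inv ≫ f.appTop) = f
    rw [Spec.map_comp, ← Category.assoc, ← Scheme.toSpecΓ_naturality, Category.assoc]
    exact (congrArg (f ≫ ·) (toSpecΓ_SpecMap_ΓSpecIso_inv _)).trans (Category.comp_id f)
  haveI : IsFinite m := (IsFinite.SpecMap_iff _).2 (RingHom.finite_algebraMap.2 inferInstance)
  let T := pullback m g
  let π : pullback X.toSpecΓ (pullback.fst m g) ⟶ T := pullback.snd _ _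
  haveI : GeometricallyIrreducible π := inferInstance
  let z : Spec (CommRingCat.of Ω) := IsLocalRing.closedPoint Ω
  let q : T ⟶ Spec (CommRingCat.of Ω) := pullback.snd m g
  haveI : IsFinite q := inferInstance
  haveI : DiscreteTopology T := by
    rw [← isDiscrete_univ_iff]
    have h := q.isDiscrete_preimage_singleton z
    rwa [show (q ⁻¹' {z} : Set T) = Set.univ from Set.eq_univ_of_forall fun w => Subsingleton.elim (q w) z] at h
  haveI : CompactSpace T := QuasiCompact.compactSpace_of_compactSpace q
  haveI : Finite T := finite_of_compact_of_discrete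
  obtain ⟨h1, h2⟩ := counts_of_irreducible_fibres (π : _ → T) π.continuous fun d => by
    rw [← π.range_fiberι, ← Set.image_univ]
    exact (IrreducibleSpace.isIrreducible_univ _).image _ (π.fiberι d).continuous.continuousOn
  let e := ((IsPullback.of_hasPullback X.toSpecΓ (pullback.fst m g)).paste_vert
    (IsPullback.of_hasPullback m g)).isoPullback ≪≫ pullback.congrHom hm rfl
  have hz : g z = t := Subsingleton.elim (α := PrimeSpectrum k) _ _
  obtain ⟨c1, c2⟩ := GeomLoci.nGeom_eq_counts f g z
  rw [hz] at c1 c2
  have e1 : (irreducibleComponents ↥(pullback f g)).encard = ENat.card T :=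
    (GeomLoci.encard_irreducibleComponents_congr e.hom.homeomorph).symm.trans h1
  have e2 : ENat.card (_root_.ConnectedComponents ↥(pullback f g)) = ENat.card T :=
    (GeomLoci.card_connectedComponents_congr e.hom.homeomorph).symm.trans h2
  rw [c1, c2, e1, e2]
  exact ⟨rfl, by rw [ENat.card_eq_coe_natCard]; exact ENat.natCast_ne_top _⟩

end Field

/-- Disjointness of components descends from the geometric fibre. -/
theorem hasMeetGen_of_geomFiber {X Y : Scheme.{u}} (f : X ⟶ Y) (y : Y)
    (hfin : MoreMor.nGeomConnComp f y ≠ ⊤) (h : MoreMor.nGeomIrredComp f y = MoreMor.nGeomConnComp f y) :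
    ∀ a b x : X, f a = y → f b = y → f x = y → a ⤳ x → b ⤳ x → ∃ c : X, f c = y ∧ c ⤳ a ∧ c ⤳ b := by
  intro a b x ha hb hx hax hbx
  have hP : HasMeetGen ↥(MoreMor.geomFiber f y) := hasMeetGen_of_card hfin h
  let s := Spec.map (CommRingCat.ofHom (algebraMap (Y.residueField y) (SeparableClosure (Y.residueField y))))
  let p : MoreMor.geomFiber f y ⟶ f.fiber y := pullback.fst (f.fiberToSpecResidueField y) s
  haveI : Flat s := by
    rw [HasRingHomProperty.Spec_iff (P := @Flat)]
    exact RingHom.flat_algebraMap_iff.2 inferInstance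
  haveI : Surjective s := ⟨fun z => ⟨IsLocalRing.closedPoint _, Subsingleton.elim (α := PrimeSpectrum _) _ _⟩⟩
  haveI : Flat p := inferInstanceAs (Flat (pullback.fst (f.fiberToSpecResidueField y) s))
  haveI : Surjective p := inferInstanceAs (Surjective (pullback.fst (f.fiberToSpecResidueField y) s))
  obtain ⟨a₀, rfl⟩ : a ∈ Set.range (f.fiberι y) := by rw [f.range_fiberι]; exact ha
  obtain ⟨b₀, rfl⟩ : b ∈ Set.range (f.fiberι y) := by rw [f.range_fiberι]; exact hb
  obtain ⟨x₀, rfl⟩ : x ∈ Set.range (f.fiberι y) := by rw [f.range_fiberι]; exact hx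
  have hind := (f.fiberι y).isEmbedding.isInducing
  obtain ⟨x₁, rfl⟩ := p.surjective x₀
  obtain ⟨a₁, ha₁, rfl⟩ := Flat.generalizingMap p (hind.specializes_iff.1 hax)
  obtain ⟨b₁, hb₁, rfl⟩ := Flat.generalizingMap p (hind.specializes_iff.1 hbx)
  obtain ⟨c, hca, hcb⟩ := hP a₁ b₁ x₁ ha₁ hb₁
  refine ⟨f.fiberι y (p c), (f.range_fiberι y).le ⟨_, rfl⟩, hind.specializes_iff.2 (hca.map p.continuous),
    hind.specializes_iff.2 (hcb.map p.continuous)⟩

/-- The fibres near the generic point have disjoint components when the generic fibre is integral, normal and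
proper. -/
theorem exists_meetGen_nhds {X Y : Scheme.{u}} (f : X ⟶ Y) [IsProper f] [IrreducibleSpace Y]
    {k : Type u} [Field k] {C : Scheme.{u}} [IsIntegral C] (hn : ∀ x : C, IsIntegrallyClosed (C.presheaf.stalk x))
    {g : C ⟶ X} {π : C ⟶ Spec (CommRingCat.of k)} {j : Spec (CommRingCat.of k) ⟶ Y}
    (hg : IsPullback g π f j) (hj : ∀ t, j t = genericPoint Y) :
    ∃ V : Y.Opens, genericPoint Y ∈ V ∧ ∀ a b x : X, f x ∈ V → f a = f x → f b = f x → a ⤳ x → b ⤳ x →
      ∃ c : X, f c = f x ∧ c ⤳ a ∧ c ⤳ b := by
  haveI : IsProper π := MorphismProperty.of_isPullback hg inferInstance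
  obtain ⟨V, hV, hgV, hcount⟩ := GeomLoci.exists_nGeom_eq_nhds f (genericPoint Y)
  let t : Spec (CommRingCat.of k) := IsLocalRing.closedPoint k
  obtain ⟨h1, h2⟩ := counts_geometric π hn t
  obtain ⟨b1, b2⟩ := Triage.GeomCount.nGeom_baseChange f π g j hg t
  rw [hj] at b1 b2
  refine ⟨⟨V, hV⟩, hgV, fun a b x hx ha hb => ?_⟩
  obtain ⟨c1, c2⟩ := hcount (f x) ⟨by rw [genericPoint_closure]; trivial, hx⟩
  exact hasMeetGen_of_geomFiber f (f x) (by rw [c2, ← b2]; exact h2) (by rw [c1, c2, ← b1, ← b2]; exact h1)
    a b x ha hb rfl

end Groth.Agent.ResolveX.Ded
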