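import Groth.Agent.ResolveX.GenusZero
import Groth.Agent.S3338
import Groth.Agent.FlatMisc.Fibrewise
import Groth.Agent.H6PnSm.Basic
import Groth.Agent.CurveEmbed.Conic

/-!
# Minimal models of curves with good reduction
-/

set_option autoImplicit false
set_option linter.style.haveILetI false
set_option linter.unusedSectionVars false
set_option backward.isDefEq.respectTransparency false
set_option backward.isDefEq.respectTransparency.types false
set_option maxHeartbeats 1000000

universe u

open CategoryTheory CategoryTheory.Limits AlgebraicGeometry TopologicalSpace IsLocalRing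

attribute [local instance 2000] CategoryTheory.CategoryStruct.toQuiver

noncomputable section

namespace Groth.Agent.ResolveX

open Groth.Agent

variable {R : Type u} [CommRing R] [IsDomain R] [IsDiscreteValuationRing R]

local notation "jK" => Spec.map (CommRingCat.ofHom (algebraMap R (FractionRing R)))
local notation "jk" => Spec.map (CommRingCat.ofHom (algebraMap R (IsLocalRing.ResidueField R)))

/-- Flat with smooth fibres over a DVR is smooth. -/
theorem smooth_of_two_fibres {X : Scheme.{u}} (p : X ⟶ Spec (CommRingCat.of R)) [Flat p]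
    [LocallyOfFiniteType p] (h1 : Smooth (pullback.snd p jK)) (h2 : Smooth (pullback.snd p jk)) : Smooth p := by
  haveI : LocallyOfFinitePresentation (p ≫ 𝟙 _) := by rw [Category.comp_id]; infer_instance
  haveI : Flat (p ≫ 𝟙 _) := by rw [Category.comp_id]; infer_instance
  refine FlatMisc.smooth_of_smooth_fibres (𝟙 _) p fun t => ?_
  let e := pullback.snd (𝟙 _) ((Spec (CommRingCat.of R)).fromSpecResidueField t)
  suffices hfac : ∃ (T : Scheme.{u}) (j : T ⟶ Spec (CommRingCat.of R)) (l : _ ⟶ T),
      Smooth (pullback.snd p j) ∧ Scheme.Hom.fiberι (𝟙 (Spec (CommRingCat.of R))) t = l ≫ j by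
    obtain ⟨T, j, l, hj, hl⟩ := hfac
    suffices key : ∀ g' : Scheme.Hom.fiber (𝟙 (Spec (CommRingCat.of R))) t ⟶ _, g' = l ≫ j → Smooth (pullback.snd p g') from
      key _ hl
    rintro _ rfl
    rw [← pullbackLeftPullbackSndIso_inv_snd_snd p j l]
    haveI := hj
    infer_instance
  have hcomp : Scheme.Hom.fiberι (𝟙 (Spec (CommRingCat.of R))) t = e ≫ (Spec (CommRingCat.of R)).fromSpecResidueField t :=
    (Category.comp_id _).symm.trans pullback.condition
  by_cases ht : (t : PrimeSpectrum R) = closedPoint R
  · haveI : IsClosedImmersion jk := IsClosedImmersion.spec_of_surjective _ IsLocalRing.residue_surjective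
    have hcl : IsClosed ({t} : Set (Spec (CommRingCat.of R))) := by
      rw [ht]; exact IsLocalRing.isClosed_singleton_closedPoint R
    have hle : Scheme.Hom.ker jk ≤ ((Spec (CommRingCat.of R)).fromSpecResidueField t).ker := by
      rw [CurveDiv.ker_fromSpecResidueField t hcl]
      refine Scheme.IdealSheafData.le_support_iff_le_vanishingIdeal.1 ?_
      show ({t} : Set (Spec (CommRingCat.of R))) ⊆ ((ArInt.closedPtIdeal R).support : Set (Spec (CommRingCat.of R)))
      rw [ArInt.support_closedPtIdeal, ht]
    exact ⟨_, jk, e ≫ IsClosedImmersion.lift _ _ hle, h2,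
      by rw [Category.assoc, IsClosedImmersion.lift_fac, hcomp]⟩
  · haveI : IsOpenImmersion jK := ArInt.isOpenImmersion_genPt
    have hsub : Set.range ((Spec (CommRingCat.of R)).fromSpecResidueField t) ⊆ Set.range jK := by
      rw [Scheme.range_fromSpecResidueField]
      intro z hz
      rw [Set.mem_singleton_iff.1 hz]
      have hb : (t : PrimeSpectrum R).asIdeal = ⊥ := by
        by_contra hne
        exact ht (PrimeSpectrum.ext (IsLocalRing.eq_maximalIdeal ((PrimeSpectrum.isPrime t).isMaximal hne)))
      refine ⟨(⟨⊥, Ideal.isPrime_bot⟩ : PrimeSpectrum (FractionRing R)), PrimeSpectrum.ext ?_⟩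
      show Ideal.comap (algebraMap R (FractionRing R)) ⊥ = _
      rw [← RingHom.ker_eq_comap_bot, (RingHom.injective_iff_ker_eq_bot _).1
          (IsFractionRing.injective R (FractionRing R))]
      exact hb.symm
    exact ⟨_, jK, e ≫ IsOpenImmersion.lift _ _ hsub, h1,
      by rw [Category.assoc, IsOpenImmersion.lift_fac, hcomp]⟩

/-- The minimal model of a curve with good reduction is smooth. -/
theorem smooth_minimal_of_good {C X : Scheme.{u}} {f : C ⟶ Spec (CommRingCat.of (FractionRing R))}
    {p : X ⟶ Spec (CommRingCat.of R)} (hC : Curve.IsSmoothProperCurve (FractionRing R) C f) (hH0 : IsIso f.appTop)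
    (hgood : Models.HasGoodReduction R C f) (hX : Models.IsMinimalModel R X p C f) : Smooth p := by
  obtain ⟨Y, q, hY, hqp, hqs⟩ := hgood
  haveI := hqp; haveI := hqs
  have hYmin := S3338.result R C Y f q hC hH0 hY
  obtain ⟨g, hg⟩ : ∃ g, IsPullback g f p jK := hX.1.1.2.2.2
  obtain ⟨g', hg'⟩ : ∃ g', IsPullback g' f q jK := hY.2.2.2
  by_cases hne : ∀ e : Y ≅ X, e.hom ≫ p = q → g' ≫ e.hom ≠ g
  · obtain ⟨e, he⟩ := exists_iso_P1_of_ne hC hH0 hX hYmin g hg g' hg' hne
    haveI : Flat p := hX.1.1.1
    haveI : IsProper p := hX.1.2.1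
    haveI := CurveEmbed.smooth_toSpec 1 (IsLocalRing.ResidueField R)
    haveI : Smooth f := hC.2.1
    refine smooth_of_two_fibres p ?_ (he ▸ inferInstance)
    rw [← hg.isoPullback_inv_snd]
    infer_instance
  · push Not at hne
    obtain ⟨e, he, -⟩ := hne
    haveI : Smooth (e.hom ≫ p) := he ▸ hqs
    rw [show p = e.inv ≫ (e.hom ≫ p) by rw [Iso.inv_hom_id_assoc]]
    infer_instance

end Groth.Agent.ResolveX
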