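import Groth.Agent.ResolveX.FactorBlow
import Groth.Agent.ResolveX.BlowPic
import Groth.Agent.AlgSpDec.BirationalNormalScheme
import Groth.Agent.BlowUpLib.Glue
import Groth.Agent.S2348
import Groth.Agent.S0564

/-!
# A birational morphism with irreducible exceptional fibre is a blow-up
-/

set_option autoImplicit false
set_option linter.style.haveILetI false
set_option linter.unusedSectionVars false
set_option backward.isDefEq.respectTransparency false
set_option backward.isDefEq.respectTransparency.types false
set_option maxHeartbeats 1000000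

universe u

open CategoryTheory CategoryTheory.Limits AlgebraicGeometry TopologicalSpace IsLocalRing

attribute [local instance 2000] CategoryTheory.CategoryStruct.toQuiver

noncomputable section

namespace Groth.Agent.ResolveX

open Groth.Agent

variable {X Y : Scheme.{u}} [IsIntegral X] [IsNoetherian X] [IsIntegral Y] [IsLocallyNoetherian Y]
  (f : X ⟶ Y) [IsProper f] (y : Y) (hy : IsClosed ({y} : Set Y))
  (hY : ∀ p : Y, IsRegularLocalRing (Y.presheaf.stalk p)) (hdim : ringKrullDim (Y.presheaf.stalk y) = 2)
  (hX : ∀ x : X, IsRegularLocalRing (X.presheaf.stalk x)) (hX2 : topologicalKrullDim X ≤ 2)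
  (hiso : IsIso (f ∣_ off y hy)) (hirr : IsPreirreducible (f ⁻¹' {y}))
  (hbig : ∃ x x' : X, x ≠ x' ∧ f x = y ∧ f x' = y)

omit [IsProper f] in
/-- A point which is closed in a Noetherian space with closed points is one of finitely many. -/
theorem finite_of_closed_points {S : Set X} (hS : IsClosed S) (h : ∀ s ∈ S, IsClosed ({s} : Set X)) : S.Finite := by
  obtain ⟨T, hTf, hTc, hTi, rfl⟩ := NoetherianSpace.exists_finite_set_isClosed_irreducible hS
  refine hTf.sUnion fun C hC => ?_
  have hgen := (hTi C hC).isGenericPoint_genericPoint (hTc C hC)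
  refine (Set.finite_singleton (hTi C hC).genericPoint).subset fun c hc => ?_
  exact (hgen.specializes hc).mem_closed (h _ ⟨C, hC, hgen.mem⟩) rfl

include hY hdim hX hX2 hiso hirr hbig in
/-- A morphism which is an isomorphism off a point and has irreducible fibre over it is the blow-up of the point. -/
theorem isBlowUp_of_irreducible_fibre :
    BlowUp.IsBlowUp f (Scheme.IdealSheafData.vanishingIdeal ⟨{y}, hy⟩) := by
  haveI := hY y
  haveI := hiso
  let C := Scheme.IdealSheafData.vanishingIdeal (⟨{y}, hy⟩ : Closeds Y)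
  have hUne : (off y hy : Set Y).Nonempty := ⟨genericPoint Y, fun (h : genericPoint Y = y) => by
    haveI : UniqueFactorizationMonoid (Y.presheaf.stalk y) := (S2821.result _).2
    have h0 : ringKrullDim Y.functionField = 0 := ringKrullDim_eq_zero_of_field _
    have h2 : ∀ p : Y, p = y → ringKrullDim (Y.presheaf.stalk p) = 2 := fun p hp => hp ▸ hdim
    exact absurd ((h2 _ h).symm.trans h0) (by norm_num)⟩
  obtain ⟨Y', π, hπ⟩ := BlowUpLib.exists_blowUp (C := C)
  obtain ⟨g, hg⟩ := exists_lift_point f (off y hy) hUne hiso y hbig hy hdim hX hX2 hπ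
  haveI := isProper_point y hy hπ
  haveI : IsProper g := by
    haveI : IsProper (g ≫ π) := hg ▸ inferInstance
    exact IsProper.of_comp g π
  have hC : C ≠ ⊥ := fun h => by
    obtain ⟨p, hp⟩ := hUne
    have h1 : p ∈ ((⊥ : Y.IdealSheafData).support : Set Y) := by
      rw [Scheme.IdealSheafData.support_bot]; trivial
    rw [← h, Scheme.IdealSheafData.coe_support_vanishingIdeal] at h1
    exact hp h1
  obtain ⟨hY'int, -⟩ := S2348.result C hC π hπ
  haveI := hY'int
  haveI : IsClosedImmersion (Y.fromSpecResidueField y) :=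
    IsClosedImmersion.of_isPreimmersion _ (by rw [Scheme.range_fromSpecResidueField]; exact hy)
  have hY'reg : ∀ p : Y', IsRegularLocalRing (Y'.presheaf.stalk p) := BlowExc.regular_blowUp
    (Y.fromSpecResidueField y) hY (fun p => by
      haveI := S0564.result (Y.residueField y) p.asIdeal
      exact IsRegularLocalRing.of_ringEquiv (StructureSheaf.stalkIso (Y.residueField y) p).toRingEquiv)
    π (by rw [CurveDiv.ker_fromSpecResidueField y hy]; exact hπ)
  have hY'n : Pi1.IsNormalScheme Y' := fun p => by
    haveI := hY'reg p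
    haveI : UniqueFactorizationMonoid (Y'.presheaf.stalk p) := (S2821.result _).2
    exact ⟨(S2821.result _).1, inferInstance⟩
  -- birationality of the lift
  haveI := isIso_off y hy hπ
  haveI : IsIso ((g ≫ π) ∣_ off y hy) := by subst hg; exact hiso
  have hgiso : IsIso (g ∣_ (π ⁻¹ᵁ off y hy)) := by
    haveI : IsIso (g ∣_ (π ⁻¹ᵁ off y hy) ≫ π ∣_ off y hy) := by rw [← morphismRestrict_comp]; infer_instance
    exact IsIso.of_isIso_comp_right _ (π ∣_ off y hy)
  have hne' : ((π ⁻¹ᵁ off y hy : Y'.Opens) : Set Y').Nonempty := by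
    obtain ⟨p, hp⟩ := hUne
    obtain ⟨q, rfl⟩ := surjective_point y hy hdim hπ p
    exact ⟨q, hp⟩
  obtain ⟨hgη, hgbij⟩ := ArInt.birational_of_isIso_restrict g _ hne' hgiso
  have hsurj : Function.Surjective g := fun q =>
    ((genericPoint_spec Y').specializes trivial).mem_closed g.isClosedMap.isClosed_range ⟨_, hgη⟩
  -- the fibres are finite
  let F : Set X := f ⁻¹' {y}
  have hFc : IsClosed F := hy.preimage f.continuous
  have hFi : IsIrreducible F := ⟨by obtain ⟨x, -, -, hx, -⟩ := hbig; exact ⟨x, hx⟩, hirr⟩
  let ξ := hFi.genericPoint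
  have hξ : IsGenericPoint ξ F := hFi.isGenericPoint_genericPoint hFc
  have hξη : genericPoint X ≠ ξ := fun h => by
    have h1 : f (genericPoint X) = y := h ▸ hξ.mem
    obtain ⟨hfη, -⟩ := ArInt.birational_of_isIso_restrict f _ hUne hiso
    obtain ⟨p, hp⟩ := hUne
    exact hp (((genericPoint_spec Y).specializes (Set.mem_univ p)).mem_closed hy (hfη.symm.trans h1))
  have hclosed : ∀ z ∈ F, z ≠ ξ → IsClosed ({z} : Set X) := fun z hz hne => by
    refine closure_subset_iff_isClosed.1 fun w hw => ?_
    by_contra hwz
    have h1 : ξ < genericPoint X := ⟨(genericPoint_spec X).specializes trivial, fun h : ξ ⤳ genericPoint X =>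
      hξη (((genericPoint_spec X).specializes trivial).antisymm h).eq⟩
    have h2 : z < ξ := ⟨hξ.specializes hz, fun h : z ⤳ ξ => hne (h.antisymm (hξ.specializes hz)).eq⟩
    have hzw : z ⤳ w := specializes_iff_mem_closure.2 hw
    have h3 : w < z := ⟨hzw, fun h : w ⤳ z => hwz (h.antisymm hzw).eq⟩
    have h4 := Order.coheight_add_one_le h1
    have h5 := Order.coheight_add_one_le h2
    have h6 := Order.coheight_add_one_le h3
    have h7 : (Order.coheight w : WithBot ℕ∞) ≤ 2 := by
      refine (Order.coheight_le_krullDim w).trans ?_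
      rw [← Order.krullDim_eq_of_orderIso (irreducibleSetEquivPoints (α := X))]
      exact hX2
    have h8 : (1 : ℕ∞) + 1 + 1 ≤ 2 :=
      (add_le_add (le_trans (add_le_add (le_add_self.trans h4) le_rfl) h5) le_rfl).trans
        (h6.trans (WithBot.coe_le_coe.1 h7))
    exact absurd h8 (by norm_num)
  have hpt : ∀ {x : X}, π (g x) = f x := fun {x} => by rw [← Scheme.Hom.comp_apply, hg]
  have hE : π ⁻¹' {y} ⊆ closure {g ξ} := fun q hq => by
    obtain ⟨z, rfl⟩ := hsurj q
    exact ((hξ.specializes (show z ∈ F from hpt.symm.trans hq)).map g.continuous).mem_closure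
  have hgξ : ¬ IsClosed ({g ξ} : Set Y') := fun hc => by
    rw [hc.closure_eq] at hE
    obtain ⟨j, e, hj, hjy, -⟩ := exists_line_lift y hy hdim hπ
    haveI : IsClosedImmersion j := by rw [hj]; infer_instance
    haveI : Subsingleton (CohB1.ProjSpace 1 (Y.residueField y)) := ⟨fun a b =>
      j.isEmbedding.injective (((hE (hjy a)) : j a = g ξ).trans ((hE (hjy b)) : j b = g ξ).symm)⟩
    have h1 : topologicalKrullDim (CohB1.ProjSpace 1 (Y.residueField y)) = 1 := ArInt.dim_line _
    have h2 : topologicalKrullDim (CohB1.ProjSpace 1 (Y.residueField y)) ≤ 0 :=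
      topologicalKrullDim_zero_of_discreteTopology _
    rw [h1] at h2
    exact absurd h2 (by norm_num)
  haveI : LocallyQuasiFinite g := LocallyQuasiFinite.of_finite_preimage_singleton _ fun p => by
    by_cases hp : π p = y
    swap
    · refine Set.Subsingleton.finite fun a (ha : g a = p) b (hb : g b = p) => ?_
      have hfa : f a ≠ y := by rw [← hpt, ha]; exact hp
      have hfb : f b ≠ y := by rw [← hpt, hb]; exact hp
      have h' := (f ∣_ off y hy).homeomorph.injective (a₁ := (⟨a, hfa⟩ : ↥(f ⁻¹ᵁ off y hy))) (a₂ := ⟨b, hfb⟩) (Subtype.ext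
        ((morphismRestrict_base_coe f (off y hy) ⟨a, hfa⟩).trans ((show f a = f b by rw [← hpt, ← hpt, ha, hb]).trans
          (morphismRestrict_base_coe f (off y hy) ⟨b, hfb⟩).symm)))
      exact congrArg Subtype.val h'
    have hsub : ∀ z ∈ g ⁻¹' {p}, z ∈ F := fun z (hz : g z = p) =>
      show f z = y by rw [← hpt, hz, hp]
    by_cases hpξ : p = g ξ
    · refine (Set.finite_singleton ξ).subset fun z hz => ?_
      by_contra hne
      refine hgξ ?_
      rw [← hpξ, ← (hz : g z = p), ← Set.image_singleton]
      exact g.isClosedMap _ (hclosed z (hsub z hz) hne)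
    · rcases (g ⁻¹' {p}).eq_empty_or_nonempty with h | ⟨z, hz⟩
      · rw [h]; exact Set.finite_empty
      have hne : ∀ w ∈ g ⁻¹' {p}, w ≠ ξ := fun w (hw : g w = p) h => hpξ (hw.symm.trans (h ▸ rfl))
      have hpc : IsClosed ({p} : Set Y') := by
        rw [← (hz : g z = p), ← Set.image_singleton]
        exact g.isClosedMap _ (hclosed z (hsub z hz) (hne z hz))
      exact finite_of_closed_points (hpc.preimage g.continuous) fun w hw => hclosed w (hsub w hw) (hne w hw)
  haveI : IsFinite g := IsFinite.of_isProper_of_locallyQuasiFinite g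
  have hgen : ∀ (Z : Scheme.{u}) [IsIntegral Z], genericPoints Z = {genericPoint Z} := fun Z _ => by
    ext z
    show closure {z} ∈ irreducibleComponents Z ↔ z = genericPoint Z
    rw [irreducibleComponents_eq_singleton, Set.mem_singleton_iff]
    exact ⟨fun h => IsGenericPoint.eq h (genericPoint_spec Z), fun h => h ▸ (genericPoint_spec Z).def⟩
  haveI : IsIso g := AlgSpDec.BiratNormal.isIso_of_birational g hY'n
    (by rw [irreducibleComponents_eq_singleton]; exact Set.finite_singleton _)
    (by
      rw [hgen, hgen]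
      exact ⟨fun a ha => by rw [Set.mem_singleton_iff.1 ha]; exact hgη,
        Set.injOn_singleton _ _, fun b hb => ⟨_, rfl, hgη.trans (Set.mem_singleton_iff.1 hb).symm⟩⟩)
    fun x hx => by
      rw [hgen, Set.mem_singleton_iff] at hx
      subst hx
      haveI := BirNormal.isIso_stalkSpecializes_of_eq hgη (specializes_of_eq hgη)
      haveI := (ConcreteCategory.isIso_iff_bijective _).2 hgbij
      exact IsIso.of_isIso_comp_left (Y'.presheaf.stalkSpecializes (specializes_of_eq hgη)) _
  exact hg ▸ BlowUpLib.isBlowUp_iso_comp g hπ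

end Groth.Agent.ResolveX
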