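import Groth.Agent.ResolveX.ContractSeq
import Groth.Agent.AlgSpDec.BirationalNormalScheme

/-!
# A proper birational morphism onto a normal scheme is an isomorphism near a point with small fibre
-/

set_option autoImplicit false
set_option linter.style.haveILetI false
set_option linter.unusedSectionVars false
set_option backward.isDefEq.respectTransparency false
set_option backward.isDefEq.respectTransparency.types false
set_option maxHeartbeats 1000000

universe u

open CategoryTheory CategoryTheory.Limits AlgebraicGeometry TopologicalSpace IsLocalRing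

attribute [local instance 2000] CategoryTheory.CategoryStruct.toQuiver

noncomputable section

namespace Groth.Agent.ResolveX

open Groth.Agent

/-- The restriction of an isomorphism over an open is an isomorphism over any smaller open. -/
theorem isIso_restrict_of_le {X Y : Scheme.{u}} (f : X ⟶ Y) {U V : Y.Opens} (hVU : V ≤ U) [IsIso (f ∣_ U)] :
    IsIso (f ∣_ V) := by
  have hV : U.ι ''ᵁ (U.ι ⁻¹ᵁ V) = V := by
    rw [Scheme.Hom.image_preimage_eq_opensRange_inf, Scheme.Opens.opensRange_ι, inf_eq_right.2 hVU]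
  have h : (MorphismProperty.isomorphisms Scheme) (f ∣_ U ∣_ (U.ι ⁻¹ᵁ V)) :=
    (inferInstanceAs (IsIso (f ∣_ U ∣_ (U.ι ⁻¹ᵁ V))))
  rw [(MorphismProperty.isomorphisms Scheme).arrow_mk_iso_iff (morphismRestrictRestrict f U (U.ι ⁻¹ᵁ V)), hV] at h
  exact h

variable {X Y : Scheme.{u}} [IsIntegral X] [IsIntegral Y] (f : X ⟶ Y) [IsProper f] (U : Y.Opens)
  (hU : (U : Set Y).Nonempty) (hiso : IsIso (f ∣_ U)) (hY : Pi1.IsNormalScheme Y)

include hU hiso hY in
/-- A proper birational morphism onto a normal scheme is an isomorphism over an open containing every point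
whose fibre has at most one point. -/
theorem exists_iso_opens : ∃ V : Y.Opens, IsIso (f ∣_ V) ∧
    ∀ y : Y, (f ⁻¹' {y}).Subsingleton → y ∈ V := by
  let Q := f.quasiFiniteLocus
  let V : Y.Opens := ⟨(f '' (Q : Set X)ᶜ)ᶜ, (f.isClosedMap _ Q.2.isClosed_compl).isOpen_compl⟩
  have hmem : ∀ y : Y, (f ⁻¹' {y}).Subsingleton → y ∈ V := fun y hy => by
    rintro ⟨x, hxQ, rfl⟩
    refine hxQ (Scheme.Hom.quasiFiniteAt_iff_isOpen_singleton_asFiber.2 ?_)
    haveI : Subsingleton ↥(f ⁻¹' {f x}) := hy.coe_sort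
    haveI : Subsingleton ↥(f.fiber (f x)) := (f.fiberHomeo (f x)).injective.subsingleton
    exact isOpen_discrete _
  refine ⟨V, ?_, hmem⟩
  obtain ⟨hη, hbij⟩ := ArInt.birational_of_isIso_restrict f U hU hiso
  -- the generic point has a small fibre
  have hηU : genericPoint Y ∈ U := by
    obtain ⟨v, hv⟩ := hU
    exact ((genericPoint_spec Y).specializes (Set.mem_univ v)).mem_open U.2 hv
  have hηV : genericPoint Y ∈ V := hmem _ fun a ha b hb => by
    haveI := hiso
    have haU : a ∈ f ⁻¹ᵁ U := show f a ∈ U from (ha : f a = genericPoint Y) ▸ hηU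
    have hbU : b ∈ f ⁻¹ᵁ U := show f b ∈ U from (hb : f b = genericPoint Y) ▸ hηU
    exact congrArg Subtype.val ((f ∣_ U).homeomorph.injective (a₁ := (⟨a, haU⟩ : ↥(f ⁻¹ᵁ U))) (a₂ := ⟨b, hbU⟩)
      (Subtype.ext ((morphismRestrict_base_coe f U ⟨a, haU⟩).trans
        (((ha : f a = genericPoint Y).trans (hb : f b = genericPoint Y).symm).trans
          (morphismRestrict_base_coe f U ⟨b, hbU⟩).symm))))
  haveI : Nonempty (V : Scheme.{u}) := ⟨⟨_, hηV⟩⟩
  haveI : Nonempty (f ⁻¹ᵁ V : Scheme.{u}) := ⟨⟨genericPoint X, show f (genericPoint X) ∈ V from hη ▸ hηV⟩⟩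
  haveI : IsIntegral (V : Scheme.{u}) := inferInstance
  haveI : IsIntegral (f ⁻¹ᵁ V : Scheme.{u}) := inferInstance
  haveI : LocallyQuasiFinite (f ∣_ V) := by
    rw [← Scheme.Hom.quasiFiniteLocus_eq_top_iff]
    refine top_le_iff.1 fun z _ => ?_
    rw [Scheme.Hom.mem_quasiFiniteLocus, ← Scheme.Hom.quasiFiniteAt_comp_iff (g := V.ι), morphismRestrict_ι,
      Scheme.Hom.quasiFiniteAt_comp_iff_of_isOpenImmersion]
    by_contra hz
    exact z.2 ⟨_, hz, rfl⟩
  haveI : IsFinite (f ∣_ V) := IsFinite.of_isProper_of_locallyQuasiFinite _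
  haveI : IsIso ((f ∣_ V) ∣_ (V.ι ⁻¹ᵁ U)) := by
    have hV : V.ι ''ᵁ (V.ι ⁻¹ᵁ U) = V ⊓ U := by
      rw [Scheme.Hom.image_preimage_eq_opensRange_inf, Scheme.Opens.opensRange_ι]
    haveI := hiso
    have h : (MorphismProperty.isomorphisms Scheme) (f ∣_ (V ⊓ U)) := isIso_restrict_of_le f inf_le_right
    rw [← hV, ← (MorphismProperty.isomorphisms Scheme).arrow_mk_iso_iff (morphismRestrictRestrict f V (V.ι ⁻¹ᵁ U))] at h
    exact h
  obtain ⟨hη', hbij'⟩ := ArInt.birational_of_isIso_restrict (f ∣_ V) (V.ι ⁻¹ᵁ U) ⟨⟨_, hηV⟩, hηU⟩ inferInstance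
  refine BirNormal.isIso_of_isIntegralHom (f ∣_ V) (fun O _ hO => ?_) hη' hbij'
  refine AlgSpDec.BiratNormal.isIntegrallyClosed_sections (fun a => ?_) hO
  have := (hY (V.ι a)).1
  have := (hY (V.ι a)).2
  let e := (asIso (V.ι.stalkMap a)).commRingCatIsoToRingEquiv
  exact ⟨e.symm.toMulEquiv.isDomain, IsIntegrallyClosed.of_equiv e⟩

include hU hiso hY in
/-- A point with at most one preimage has an open neighbourhood over which the morphism is an isomorphism. -/
theorem exists_iso_nhd {y : Y} (hy : (f ⁻¹' {y}).Subsingleton) : ∃ V : Y.Opens, y ∈ V ∧ IsIso (f ∣_ V) := by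
  obtain ⟨V, hV, h⟩ := exists_iso_opens f U hU hiso hY
  exact ⟨V, h y hy, hV⟩

end Groth.Agent.ResolveX
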