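import Groth.Agent.ResolveX.BlowPoint
import Groth.Agent.ArInt.HenselSection
import Groth.Agent.ArInt.ExcCurve

/-!
# Blowing up a closed point of an arithmetic surface
-/

set_option autoImplicit false
set_option linter.style.haveILetI false
set_option linter.unusedSectionVars false
set_option backward.isDefEq.respectTransparency false
set_option backward.isDefEq.respectTransparency.types false
set_option maxHeartbeats 1000000

universe u

open CategoryTheory CategoryTheory.Limits AlgebraicGeometry TopologicalSpace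

attribute [local instance 2000] CategoryTheory.CategoryStruct.toQuiver

noncomputable section

namespace Groth.Agent.ResolveX

open Groth.Agent

variable {R : Type u} [CommRing R] [IsDomain R] [IsDiscreteValuationRing R]
  {Y : Over (Spec (CommRingCat.of R))}

theorem finite_fibre_trivial {C : Scheme.{u}} [IrreducibleSpace C] {S : Scheme.{u}} (g : C ⟶ S) [LocallyOfFiniteType g]
    (W : C.Opens) (hW : genericPoint C ∈ W) (hfin : {w : C | w ∈ W ∧ g w = g (genericPoint C)}.Finite)
    {w : C} (hw : g w = g (genericPoint C)) : w = genericPoint C := by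
  let s := g (genericPoint C)
  let φ := g.fiberHomeo s
  let η : g.fiber s := φ.symm ⟨genericPoint C, rfl⟩
  let G : Set (g.fiber s) := {p | (φ p).1 ∈ W}
  have hG : IsOpen G := (W.isOpen.preimage continuous_subtype_val).preimage φ.continuous
  have hGfin : G.Finite := by
    refine Set.Finite.of_finite_image (hfin.subset ?_) (Subtype.val_injective.comp φ.injective).injOn
    rintro _ ⟨p, hp, rfl⟩
    exact ⟨hp, (φ p).2⟩
  have hη : η ∈ G := by
    show (φ (φ.symm ⟨genericPoint C, rfl⟩)).1 ∈ W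
    rw [φ.apply_symm_apply]
    exact hW
  have hcl : IsClosed ({η} : Set (g.fiber s)) := by
    by_contra hne
    let G' := {p | p ∈ G ∧ IsClosed ({p} : Set (g.fiber s))}
    have hG' : IsClosed G' := by
      rw [← Set.biUnion_of_singleton G']
      exact (hGfin.subset fun p hp => hp.1).isClosed_biUnion fun p hp => hp.2
    obtain ⟨p, ⟨hp1, hp2⟩, hp3⟩ := nonempty_inter_closedPoints
      (show (G \ G').Nonempty from ⟨η, hη, fun h => hne h.2⟩) (hG.sdiff hG').isLocallyClosed
    exact hp2 ⟨hp1, hp3⟩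
  have h1 : (⟨genericPoint C, rfl⟩ : g ⁻¹' {s}) ⤳ ⟨w, hw⟩ :=
    (subtype_specializes_iff _ _).2 ((genericPoint_spec C).specializes trivial)
  have h2 : η ⤳ φ.symm ⟨w, hw⟩ := h1.map φ.symm.continuous
  have h3 : φ.symm ⟨w, hw⟩ = η := h2.mem_closed hcl rfl
  exact congrArg Subtype.val (φ.symm.injective h3)

/-- Between a closed point of the closed fibre and the generic point lies another point. -/
theorem exists_between [ArInt.IsSurf Y] [Flat Y.hom] {x : Y.left} (hx : IsClosed ({x} : Set Y.left))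
    (hxs : Y.hom x = IsLocalRing.closedPoint R) :
    ∃ η, x < η ∧ η < genericPoint Y.left := by
  classical
  by_contra hcon
  push Not at hcon
  haveI : IsLocallyNoetherian Y.left := LocallyOfFiniteType.isLocallyNoetherian Y.hom
  haveI : CompactSpace Y.left := QuasiCompact.compactSpace_of_compactSpace Y.hom
  haveI : IsNoetherian Y.left := {}
  have hgen : ∀ w : Y.left, w ≤ genericPoint Y.left := fun w => (genericPoint_spec Y.left).specializes trivial
  have hgs : ∀ w : Y.left, Y.hom w = IsLocalRing.closedPoint R → w ≠ genericPoint Y.left := fun w hw he =>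
    ArInt.closedPoint_ne_bot ((he ▸ hw : Y.hom (genericPoint Y.left) = _).symm.trans ArInt.hom_genericPoint)
  -- the point is isolated in the closed fibre
  obtain ⟨T, hTfin, hTcl, hTirr, hT⟩ := NoetherianSpace.exists_finite_set_isClosed_irreducible
    ((IsLocalRing.isClosed_singleton_closedPoint R).preimage Y.hom.continuous)
  have hT' : IsClosed (⋃₀ {t | t ∈ T ∧ x ∉ t}) :=
    Set.sUnion_eq_biUnion ▸ (hTfin.subset fun t ht => ht.1).isClosed_biUnion fun t ht => hTcl t ht.1
  let O : Y.left.Opens := ⟨(⋃₀ {t | t ∈ T ∧ x ∉ t})ᶜ, hT'.isOpen_compl⟩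
  have hxO : x ∈ O := fun ⟨t, ht, hxt⟩ => ht.2 hxt
  have hO : ∀ z ∈ O, Y.hom z = Y.hom x → z = x := fun z hzO hz => by
    obtain ⟨t, htT, hzt⟩ := hT.le (show Y.hom z = IsLocalRing.closedPoint R from hz.trans hxs)
    have hxt : x ∈ t := by
      by_contra h
      exact hzO ⟨t, ⟨htT, h⟩, hzt⟩
    obtain ⟨w, hw⟩ := QuasiSober.sober (hTirr t htT) (hTcl t htT)
    have hws : Y.hom w = IsLocalRing.closedPoint R := hT.ge ⟨t, htT, hw.mem⟩
    have hwx : w = x := by
      by_contra hne
      exact hcon w (ArInt.lt_of_specializes_ne (hw.specializes hxt) hne)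
        (ArInt.lt_of_specializes_ne (hgen w) (hgs w hws).symm)
    exact ((hwx ▸ hw).specializes hzt).mem_closed hx rfl
  -- so the morphism is quasi-finite nearby, hence on the generic fibre
  obtain ⟨W, hW, hxW, hWq⟩ := exists_isAffineOpen_mem_and_subset
    (show x ∈ Y.hom.quasiFiniteLocus from ArInt.quasiFiniteAt_of_isolated Y.hom O hxO hO)
  haveI : LocallyQuasiFinite (W.ι ≫ Y.hom) := by
    rw [← Y.left.homOfLE_ι hWq, Category.assoc]
    infer_instance
  haveI : IsAffine (W : Scheme.{u}) := hW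
  haveI : QuasiCompact (W.ι ≫ Y.hom) := inferInstance
  have hgfin : {w : Y.left | w ∈ W ∧ Y.hom w = Y.hom (genericPoint Y.left)}.Finite :=
    (((W.ι ≫ Y.hom).finite_preimage_singleton (Y.hom (genericPoint Y.left))).image W.ι).subset
      fun w hw => ⟨⟨w, hw.1⟩, hw.2, rfl⟩
  have hvert : ∀ w, w ≠ genericPoint Y.left → Y.hom w = IsLocalRing.closedPoint R := fun w hw =>
    (ArInt.spec_cases R (Y.hom w)).resolve_right fun h => hw (finite_fibre_trivial Y.hom W
      ((hgen x).mem_open W.isOpen hxW) hgfin (h.trans ArInt.hom_genericPoint.symm))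
  -- which contradicts dimension two
  obtain ⟨a, b, c, hab, hbc⟩ : ∃ a b c : Y.left, a < b ∧ b < c := by
    by_contra hc
    push Not at hc
    have h1 := ArInt.dim_le_one_of_no_chain (C := Y.left) fun a b d hab hbd => absurd hbd (hc a b d hab)
    rw [ArInt.IsSurf.dim_eq] at h1
    exact absurd h1 (by norm_num)
  obtain ⟨U, hU, haU, -⟩ := exists_isAffineOpen_mem_and_subset (show a ∈ (⊤ : Y.left.Opens) from trivial)
  haveI : IsNoetherianRing Γ(Y.left, U) := IsLocallyNoetherian.component_noetherian ⟨U, hU⟩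
  have hbU : b ∈ U := (show b ⤳ a from hab.le).mem_open U.isOpen haU
  haveI : Nonempty (U : Scheme.{u}) := ⟨⟨a, haU⟩⟩
  obtain ⟨ϖ, hϖ⟩ := IsDiscreteValuationRing.exists_irreducible R
  have hbgen : b ≠ genericPoint Y.left := fun h => hbc.not_ge (h ▸ hgen c)
  let p := hU.primeIdealOf ⟨a, haU⟩
  let q := hU.primeIdealOf ⟨b, hbU⟩
  have hinj : ∀ (w v : Y.left) (hw : w ∈ U) (hv : v ∈ U),
      hU.primeIdealOf ⟨w, hw⟩ = hU.primeIdealOf ⟨v, hv⟩ → w = v := fun w v hw hv h => by
    have h' := congrArg hU.fromSpec h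
    rwa [hU.fromSpec_primeIdealOf, hU.fromSpec_primeIdealOf] at h'
  have hspec : ∀ (w v : Y.left) (hw : w ∈ U) (hv : v ∈ U),
      (hU.primeIdealOf ⟨w, hw⟩).asIdeal ≤ (hU.primeIdealOf ⟨v, hv⟩).asIdeal → w ⤳ v :=
    fun w v hw hv hle => by
      have h := ((PrimeSpectrum.le_iff_specializes _ _).1 hle).map hU.fromSpec.continuous
      rwa [hU.fromSpec_primeIdealOf, hU.fromSpec_primeIdealOf] at h
  have hspec' : ∀ (w v : Y.left) (hw : w ∈ U) (hv : v ∈ U), w ⤳ v →
      (hU.primeIdealOf ⟨w, hw⟩).asIdeal ≤ (hU.primeIdealOf ⟨v, hv⟩).asIdeal := fun w v hw hv h => by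
    refine (PrimeSpectrum.le_iff_specializes _ _).2 ?_
    refine hU.fromSpec.isOpenEmbedding.isInducing.specializes_iff.1 ?_
    rwa [hU.fromSpec_primeIdealOf, hU.fromSpec_primeIdealOf]
  let π : Γ(Y.left, U) := AModX.resR (le_top : U ≤ ⊤) (Y.hom.appTop ((Scheme.ΓSpecIso (CommRingCat.of R)).inv ϖ))
  have hπ : ∀ w (hw : w ∈ U), Y.hom w = IsLocalRing.closedPoint R → π ∈ (hU.primeIdealOf ⟨w, hw⟩).asIdeal := by
    intro w hw hws
    rw [ArInt.mem_prime_iff hU hw]
    intro hb
    have hb' : w ∈ Y.left.basicOpen (Y.left.presheaf.map (homOfLE (le_top : U ≤ ⊤)).op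
        (Y.hom.appTop ((Scheme.ΓSpecIso (CommRingCat.of R)).inv ϖ))) := hb
    rw [Y.left.basicOpen_res, ← Scheme.preimage_basicOpen_top] at hb'
    have h2 : Y.hom w ∈ (Spec (CommRingCat.of R)).basicOpen ((Scheme.ΓSpecIso (CommRingCat.of R)).inv ϖ) := hb'.2
    rw [basicOpen_eq_of_affine, hws] at h2
    exact h2 ((IsLocalRing.mem_maximalIdeal _).2 hϖ.not_isUnit)
  have hnz : ∀ P : Ideal Γ(Y.left, U), P.IsPrime → P ≠ ⊥ → π ∈ P := fun P hP hP0 => by
    obtain ⟨w, hw, hwP⟩ := QCoh.exists_point hU ⟨P, hP⟩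
    have hwg : w ≠ genericPoint Y.left := by
      intro he
      obtain ⟨w0, hw0, hw0P⟩ := QCoh.exists_point hU ⟨⊥, Ideal.isPrime_bot⟩
      have h1 : w0 ⤳ w := hspec w0 w hw0 hw (by rw [hw0P, hwP]; exact bot_le)
      rw [he] at h1
      have h2 : w0 = genericPoint Y.left := (hgen w0).antisymm h1
      obtain rfl : w = w0 := he.trans h2.symm
      exact hP0 (congrArg PrimeSpectrum.asIdeal (hwP.symm.trans hw0P))
    have := hπ w hw (hvert w hwg)
    rwa [hwP] at this
  have hq0 : q.asIdeal ≠ ⊥ := fun h => by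
    have hgU : genericPoint Y.left ∈ U := (hgen a).mem_open U.isOpen haU
    exact hbgen ((hspec b (genericPoint Y.left) hbU hgU (show q.asIdeal ≤ _ from h ▸ bot_le)).antisymm (hgen b)).eq
  have hqp : q.asIdeal < p.asIdeal := lt_of_le_of_ne (hspec' b a hbU haU hab.le)
    fun h => hab.ne (hinj a b haU hbU (PrimeSpectrum.ext h.symm))
  have hfinM : ((Ideal.span {π}).minimalPrimes).Finite := Ideal.finite_minimalPrimes_of_isNoetherianRing _ _
  obtain ⟨g, hgp, hgM⟩ : ∃ g, g ∈ p.asIdeal ∧ ∀ P ∈ (Ideal.span {π}).minimalPrimes, g ∉ P := by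
    by_contra hc
    push Not at hc
    have hsub : (p.asIdeal : Set Γ(Y.left, U)) ⊆ ⋃ P ∈ (hfinM.toFinset : Set (Ideal Γ(Y.left, U))), (P : Set Γ(Y.left, U)) :=
      fun g hg => by
        obtain ⟨P, hP, hgP⟩ := hc g hg
        exact Set.mem_biUnion (hfinM.mem_toFinset.2 hP) hgP
    obtain ⟨P, hP, hle⟩ := (Ideal.subset_union_prime (f := id) (⊥ : Ideal Γ(Y.left, U)) ⊥
      (fun i hi _ _ => (hfinM.mem_toFinset.1 hi).1.1)).1 hsub
    have hP' := hfinM.mem_toFinset.1 hP
    have := hP'.2 ⟨q.2, (Ideal.span_singleton_le_iff_mem _).2 (hnz _ q.2 hq0)⟩ (hqp.le.trans hle)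
    exact hqp.not_ge (hle.trans this)
  obtain ⟨P, hP, hPp⟩ := Ideal.exists_minimalPrimes_le ((Ideal.span_singleton_le_iff_mem p.asIdeal).2 hgp)
  haveI := hP.1.1
  have hP1 : P.height ≤ 1 := Ideal.height_le_one_of_isPrincipal_of_mem_minimalPrimes _ _ hP
  have hP0 : P ≠ ⊥ := by
    rintro rfl
    obtain ⟨m, hm, -⟩ := Ideal.exists_minimalPrimes_le
      ((Ideal.span_singleton_le_iff_mem p.asIdeal).2 (hπ a haU (hvert a fun h => hab.not_ge (h ▸ hgen b))))
    exact hgM m hm ((Ideal.mem_bot.1 (hP.1.2 (Ideal.mem_span_singleton_self g))).symm ▸ m.zero_mem)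
  obtain ⟨P₀, hP₀, hP₀le⟩ := Ideal.exists_minimalPrimes_le
    ((Ideal.span_singleton_le_iff_mem P).2 (hnz P hP.1.1 hP0))
  haveI := hP₀.1.1
  rcases hP₀le.lt_or_eq with hlt | rfl
  · have hP₀0 : P₀ = ⊥ := by
      by_contra h0
      have h1 := Ideal.height_add_one_le_of_lt_of_isPrime (bot_lt_iff_ne_bot.2 h0)
      have h2 := Ideal.height_add_one_le_of_lt_of_isPrime hlt
      have h3 : (1 : ℕ∞) + 1 ≤ 1 := (add_le_add (le_add_self.trans h1) le_rfl).trans (h2.trans hP1)
      exact absurd h3 (by norm_num)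
    subst hP₀0
    have hπ0 : π = 0 := Ideal.mem_bot.1 (hP₀.1.2 (Ideal.mem_span_singleton_self π))
    -- the uniformizer is not zero
    have hgU : genericPoint Y.left ∈ U := (hgen a).mem_open U.isOpen haU
    have h4 : π ∉ (hU.primeIdealOf ⟨genericPoint Y.left, hgU⟩).asIdeal := by
      rw [ArInt.mem_prime_iff hU hgU, not_not]
      show genericPoint Y.left ∈ Y.left.basicOpen (Y.left.presheaf.map (homOfLE (le_top : U ≤ ⊤)).op
        (Y.hom.appTop ((Scheme.ΓSpecIso (CommRingCat.of R)).inv ϖ)))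
      rw [Y.left.basicOpen_res, ← Scheme.preimage_basicOpen_top]
      refine ⟨hgU, ?_⟩
      show Y.hom (genericPoint Y.left) ∈ (Spec (CommRingCat.of R)).basicOpen _
      rw [basicOpen_eq_of_affine, ArInt.hom_genericPoint]
      exact fun h => hϖ.ne_zero (Ideal.mem_bot.1 h)
    exact h4 (hπ0 ▸ zero_mem _)
  · exact hgM P₀ hP₀ (hP.1.2 (Ideal.mem_span_singleton_self g))

theorem dim_stalk_closedPoint [ArInt.IsSurf Y] [Flat Y.hom] {y : Y.left} (hy : IsClosed ({y} : Set Y.left))
    (hys : Y.hom y = IsLocalRing.closedPoint R) : ringKrullDim (Y.left.presheaf.stalk y) = 2 := by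
  obtain ⟨η, h1, h2⟩ := exists_between hy hys
  rw [ringKrullDim_stalk_eq_coheight]
  refine le_antisymm ?_ ?_
  · refine (Order.coheight_le_krullDim y).trans (le_of_eq ?_)
    exact (Order.krullDim_eq_of_orderIso (irreducibleSetEquivPoints (α := Y.left))).symm.trans ArInt.IsSurf.dim_eq
  · have h0 : 1 ≤ Order.coheight η :=
      le_trans le_add_self (Order.coheight_add_one_le h2)
    have h3 : (2 : ℕ∞) ≤ Order.coheight y :=
      le_trans (by rw [show (2 : ℕ∞) = 1 + 1 from rfl]; exact add_le_add h0 le_rfl) (Order.coheight_add_one_le h1)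
    exact WithBot.coe_le_coe.mpr h3

variable {X : Scheme.{u}} {f : X ⟶ Y.left}

/-- The reduced exceptional fibre is the exceptional divisor. -/
theorem ker_eq_exceptional [ArInt.IsSurf Y] [Flat Y.hom] {y : Y.left} (hy : IsClosed ({y} : Set Y.left))
    (hys : Y.hom y = IsLocalRing.closedPoint R)
    (hf : BlowUp.IsBlowUp f (Scheme.IdealSheafData.vanishingIdeal ⟨{y}, hy⟩))
    {E : Scheme.{u}} [IsReduced E] (ι : E ⟶ X) [IsClosedImmersion ι] (hE : Set.range ι = f ⁻¹' {y}) :
    ι.ker = (Scheme.IdealSheafData.vanishingIdeal ⟨{y}, hy⟩).comap f := by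
  set K := (Scheme.IdealSheafData.vanishingIdeal ⟨{y}, hy⟩).comap f
  haveI := ArInt.IsSurf.regular (X := Y) y
  obtain ⟨e, -, -⟩ := exists_projLine_exceptional_point y hy (dim_stalk_closedPoint hy hys) hf
  haveI : IsIntegral (CohB1.ProjSpace 1 (Y.left.residueField y)) := H23.PnChart.isIntegral_projSpace 1 _
  haveI : IsReduced K.subscheme := isReduced_of_isOpenImmersion e.inv
  have hS : Set.range K.subschemeι = (K.support : Set X) := Scheme.IdealSheafData.range_subschemeι _
  have h1 := CanonDual.ker_eq_vanishingIdeal K.subschemeι (S := K.support) hS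
  have h2 := CanonDual.ker_eq_vanishingIdeal ι (S := K.support) (by
    rw [hE, support_exceptional_point y hy])
  rw [Scheme.IdealSheafData.ker_subschemeι] at h1
  rw [h2, ← h1]

end Groth.Agent.ResolveX
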