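import Groth.Agent.ResolveX.IsoNhd
import Groth.Agent.ResolveX.SurfPoint
import Groth.Agent.S7907
import Groth.Agent.ArInt.ConstField
import Groth.Agent.ArInt.ExcCurve
import Groth.Agent.ArInt.ContractExist
import Groth.Agent.CurveFinMap.Degree
import Groth.Agent.CurveGenusMono.Basic
import Groth.Agent.Triage.SchDense
import Groth.Agent.CanonDual.DegSub

/-!
# An exceptional curve contracted by a morphism to a surface without contracted exceptional curves
-/

set_option autoImplicit false
set_option linter.style.haveILetI false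
set_option linter.unusedSectionVars false
set_option backward.isDefEq.respectTransparency false
set_option backward.isDefEq.respectTransparency.types false
set_option maxHeartbeats 1000000

universe u

open CategoryTheory CategoryTheory.Limits AlgebraicGeometry TopologicalSpace IsLocalRing

attribute [local instance 2000] CategoryTheory.CategoryStruct.toQuiver

noncomputable section

namespace Groth.Agent.ResolveX

open Groth.Agent Groth.Agent.H23.PicMul

/-- An invertible module has an inverse. -/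
theorem exists_inverseOf {W : Scheme.{u}} {M : W.Modules} (hM : PicF.IsInvertible M) :
    ∃ L : W.Modules, PicF.IsInvertible L ∧ ClSub.IsInverseOf L M := by
  obtain ⟨D, hD, ⟨ε⟩⟩ := H23.PicInv.exists_inverse hM
  refine ⟨D, hD, cl_eq_iff.1 ?_⟩
  rw [cl_tensor, mul_comm, ← cl_tensor]
  exact cl_eq_iff.2 ⟨ε⟩

/-- The stalk map over a point of dimension one is surjective for a birational morphism. -/
theorem surjective_stalkMap_of_dim_one {X Y : Scheme.{u}} [IsIntegral X] [IsIntegral Y] (f : X ⟶ Y) (U : Y.Opens)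
    (hU : (U : Set Y).Nonempty) (hiso : IsIso (f ∣_ U)) (x : X) [IsRegularLocalRing (Y.presheaf.stalk (f x))]
    (hd : ringKrullDim (Y.presheaf.stalk (f x)) = 1) : Function.Surjective (f.stalkMap x).hom := fun v => by
  haveI : UniqueFactorizationMonoid (Y.presheaf.stalk (f x)) := (S2821.result _).2
  haveI : Ring.KrullDimLE 1 (Y.presheaf.stalk (f x)) := Ring.krullDimLE_iff.2 (by rw [hd]; rfl)
  haveI : Ring.DimensionLEOne (Y.presheaf.stalk (f x)) := ⟨fun {P} hP0 hP =>
    Ideal.IsPrime.isMaximal_of_ne_bot hP hP0⟩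
  haveI : IsDedekindDomain (Y.presheaf.stalk (f x)) := {}
  obtain ⟨hinj, hfr⟩ := birational_stalkMap f U hU hiso x
  obtain ⟨a, s, hs, has⟩ := hfr v
  have hne : ∀ {t}, t ≠ 0 → (f.stalkMap x).hom t ≠ 0 := fun ht h => ht (hinj (h.trans (map_zero _).symm))
  rcases ValuationRing.dvd_total s a with ⟨w, hw⟩ | ⟨w, hw⟩
  · refine ⟨w, mul_right_cancel₀ (hne hs) ?_⟩
    rw [has, hw, map_mul, mul_comm]
  · by_cases ha : a = 0
    · subst ha
      rw [map_zero] at has
      exact ⟨0, by rw [map_zero, (mul_eq_zero.1 has).resolve_right (hne hs)]⟩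
    rw [hw, map_mul] at has
    have h1 : v * (f.stalkMap x).hom w = 1 := mul_left_cancel₀ (hne ha) (by linear_combination has)
    obtain ⟨w', hw'⟩ := (isUnit_map_iff (f.stalkMap x).hom w).1 (IsUnit.of_mul_eq_one_right _ h1)
    refine ⟨(w'⁻¹ : (Y.presheaf.stalk (f x))ˣ), ?_⟩
    refine mul_right_cancel₀ (b := (f.stalkMap x).hom w) (fun h0 => by rw [h0, mul_zero] at h1; exact zero_ne_one h1) ?_
    rw [h1, ← map_mul, ← hw', Units.inv_mul, map_one]

variable {R : Type u} [CommRing R] [IsDomain R] [IsDiscreteValuationRing R]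

/-- The generic point of a vertical curve is not closed, and the other points are. -/
theorem isClosed_of_mem_ne_gen {Z : Over (Spec (CommRingCat.of R))} [ArInt.IsSurf Z] (E : ArSurf.VertComp R Z)
    {p : Z.left} (hp : p ∈ Set.range E.ι) (hne : p ≠ E.ι (genericPoint E.curve.left)) :
    IsClosed ({p} : Set Z.left) := by
  obtain ⟨q, rfl⟩ := hp
  rw [← Set.image_singleton]
  refine E.ι.isClosedEmbedding.isClosedMap _ (GmDiv.isClosed_singleton_of_dim E.dim_eq.le fun h => hne ?_)
  rw [h _ ((genericPoint_spec _).specializes (Set.mem_univ q))]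

/-- A finite preconnected set of closed points has at most one point. -/
theorem subsingleton_of_finite_preconnected {W : Type*} [TopologicalSpace W] {F : Set W} (hF : F.Finite)
    (hc : _root_.IsPreconnected F) (hcl : ∀ p ∈ F, IsClosed ({p} : Set W)) : F.Subsingleton := by
  intro a ha b hb
  by_contra hne
  have h2 : IsClosed (F \ {a}) := by
    rw [← Set.biUnion_of_singleton (F \ {a})]
    exact (hF.subset Set.sdiff_subset).isClosed_biUnion fun p hp => hcl p hp.1
  obtain ⟨t, -, h1, h3⟩ := isPreconnected_closed_iff.1 hc {a} (F \ {a}) (hcl a ha) h2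
    (fun p hp => (em (p = a)).imp id fun h => ⟨hp, h⟩) ⟨a, ha, rfl⟩ ⟨b, hb, hb, Ne.symm hne⟩
  exact h3.2 h1

set_option maxHeartbeats 4000000 in
/-- An exceptional curve over a point of the base goes to a point of a surface without contracted exceptional
curves. -/
theorem exists_point_image (Y : Over (Spec (CommRingCat.of R))) [IsIntegral Y.left]
    (hnor : ∀ y : Y.left, IsIntegrallyClosed (Y.left.presheaf.stalk y))
    (hdim : topologicalKrullDim Y.left = 2) [Flat Y.hom] (hproj : Neron.IsProjectiveOver R Y)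
    (X : Over (Spec (CommRingCat.of R))) (hX : ArSurf.IsArithSurface R X) (g : X ⟶ Y)
    (Ug : Y.left.Opens) (hUg : (Ug : Set Y.left).Nonempty) (hisog : IsIso (g.left ∣_ Ug))
    (hexc : ∀ (E : Scheme.{u}) (ι : E ⟶ X.left) [IsClosedImmersion ι], Models.IsExcCurve ι →
      ¬ ∃ y : Y.left, Set.range ((ι ≫ g.left).base : E → Y.left) = {y})
    (Z : Over (Spec (CommRingCat.of R))) [ArInt.IsSurf Z] [Flat Z.hom] (h : Z ⟶ X)
    (Uh : X.left.Opens) (hUh : (Uh : Set X.left).Nonempty) (hisoh : IsIso (h.left ∣_ Uh))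
    (E : ArSurf.VertComp R Z) (hE : Models.IsExcCurve E.ι) (y : Y.left) (hy : IsClosed ({y} : Set Y.left))
    (hEy : ∀ p, g.left (h.left (E.ι p)) = y) :
    ∃ x : X.left, Set.range ((E.ι ≫ h.left).base : E.curve.left → X.left) = {x} := by
  haveI := ArInt.isSurf_of_isArithSurface hX
  haveI : Flat X.hom := hX.2.2.2.1
  haveI : IsProper h.left := by
    haveI : IsProper (h.left ≫ X.hom) := by rw [Over.w h]; infer_instance
    exact IsProper.of_comp h.left X.hom
  haveI := E.isClosedImmersion
  haveI := E.isIntegral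
  let ηE : Z.left := E.ι (genericPoint E.curve.left)
  let c : X.left := h.left ηE
  have hspE : ∀ p, c ⤳ h.left (E.ι p) := fun p =>
    (((genericPoint_spec _).specializes (Set.mem_univ p)).map E.ι.continuous).map h.left.continuous
  by_cases hc : IsClosed ({c} : Set X.left)
  · exact ⟨c, Set.eq_singleton_iff_unique_mem.2 ⟨⟨genericPoint _, rfl⟩, by
      rintro x ⟨p, rfl⟩
      exact (hspE p).mem_closed hc rfl⟩⟩
  exfalso
  -- the image curve
  have hcF : c ∈ Models.specialFibreSet R X := by
    show X.hom (h.left ηE) = _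
    rw [← Scheme.Hom.comp_apply, Over.w h]
    exact ArInt.mem_specialFibre E _
  obtain ⟨w, hwc, hwne⟩ : ∃ w, c ⤳ w ∧ w ≠ c := by
    by_contra hcon
    push Not at hcon
    exact hc (closure_subset_iff_isClosed.1 fun w hw => hcon w (specializes_iff_mem_closure.2 hw))
  obtain ⟨C, hC⟩ := ArInt.exists_vertComp_closure hX.2.2.1 hcF
    (ArInt.lt_of_specializes_ne hwc hwne.symm)
  haveI := C.isClosedImmersion
  haveI := C.isIntegral
  have hCgen : C.ι (genericPoint C.curve.left) = c :=
    (show IsGenericPoint (C.ι (genericPoint C.curve.left)) (closure {c}) from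
      (ArInt.closure_gen C).trans hC).eq isGenericPoint_closure
  have hgc : g.left c = y := hEy _
  have hCy : Set.range ((C.ι ≫ g.left).base : C.curve.left → Y.left) = {y} := by
    refine Set.eq_singleton_iff_unique_mem.2 ⟨⟨genericPoint _, ?_⟩, ?_⟩
    · show (C.ι ≫ g.left) (genericPoint _) = y
      rw [Scheme.Hom.comp_apply, hCgen, hgc]
    · rintro z ⟨p, rfl⟩
      have h1 : c ⤳ C.ι p := by
        rw [← hCgen]; exact ((genericPoint_spec _).specializes (Set.mem_univ p)).map C.ι.continuous
      exact (h1.map g.left.continuous).mem_closed hy hgc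
  obtain ⟨LC, hLC, hLCi⟩ := exists_inverseOf (Big.isInvertible_ideal (ArInt.isEffCartier_ker C))
  have haneg : ArSurf.inter R X LC C < 0 := by
    have := S7907.result R X hX Y hnor hdim hproj g ⟨Ug, hUg, hisog⟩ y hy (fun _ : Fin 1 => C)
      (fun a b _ => Subsingleton.elim a b) (fun _ => hCy) (fun _ => LC) (fun _ => hLCi) (fun _ => 1)
      (fun h0 => one_ne_zero (congrFun h0 0))
    simpa using this
  -- the map of curves
  have hkerC : C.ι.ker = Scheme.IdealSheafData.vanishingIdeal ⟨closure {c}, isClosed_closure⟩ :=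
    CanonDual.ker_eq_vanishingIdeal C.ι hC
  have hle : C.ι.ker ≤ (E.ι ≫ h.left).ker := by
    rw [hkerC]
    refine le_trans ?_ (Triage.SchDense.vanishingIdeal_le_ker _)
    rw [← Scheme.IdealSheafData.le_support_iff_le_vanishingIdeal, ← SetLike.coe_subset_coe,
      Scheme.IdealSheafData.coe_support_vanishingIdeal]
    intro z hz
    refine closure_minimal ?_ isClosed_closure hz
    rintro z ⟨p, rfl⟩
    exact specializes_iff_mem_closure.1 (hspE p)
  let φ := IsClosedImmersion.lift C.ι (E.ι ≫ h.left) hle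
  have hφ : φ ≫ C.ι = E.ι ≫ h.left := IsClosedImmersion.lift_fac _ _ _
  have hφk : φ ≫ C.curve.hom = E.curve.hom := by
    haveI : IsClosedImmersion (Spec.map (CommRingCat.ofHom (IsLocalRing.residue R))) :=
      IsClosedImmersion.spec_of_surjective _ IsLocalRing.residue_surjective
    rw [← cancel_mono (Spec.map (CommRingCat.ofHom (IsLocalRing.residue R))), Category.assoc, ← C.w,
      reassoc_of% hφ, Over.w h, E.w]
  have hφη : φ (genericPoint E.curve.left) = genericPoint C.curve.left := by
    refine C.ι.isClosedEmbedding.injective ?_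
    rw [hCgen, ← Scheme.Hom.comp_apply, hφ]
    rfl
  haveI : IsFinite φ :=
    CurveFinMap.isFinite_of_generic (k := ResidueField R) E.dim_eq C.dim_eq φ hφk hφη
  -- the pulled back divisor
  have hcη : genericPoint X.left ∉ (C.ι.ker.support : Set X.left) := by
    rw [ArInt.support_ker, hC]
    intro hm
    have h1 := (specializes_iff_mem_closure.2 hm).antisymm ((genericPoint_spec _).specializes (Set.mem_univ c))
    exact ArInt.gen_ne_closedPoint (X := X) (h1.eq ▸ hcF)
  obtain ⟨hhη, -⟩ := ArInt.birational_of_isIso_restrict h.left Uh hUh hisoh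
  let K := C.ι.ker.comap h.left
  have hK : BlowUp.IsEffCartierIdeal K := Big.isEffCartier_comap h.left (ArInt.isEffCartier_ker C) (hhη ▸ hcη)
  have hKE : K ≤ E.ι.ker := by
    rw [← Scheme.IdealSheafData.le_map_iff_comap_le, Scheme.IdealSheafData.map_ker]
    exact hle
  have hEc := ArInt.isEffCartier_ker E
  obtain ⟨Q, hQE⟩ : ∃ Q, Q * E.ι.ker = K := ⟨_, ModPairLib.colon_mul hEc hKE⟩
  have hQc : BlowUp.IsEffCartierIdeal Q := ModPairLib.isEffCartier_of_mul hEc (hQE ▸ hK)
  have hQη : ηE ∉ (Q.support : Set Z.left) := by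
    rw [SetLike.mem_coe, ← ArInt.stI_eq_top_iff]
    have hmC : Div21Lib.stI C.ι.ker c = maximalIdeal (X.left.presheaf.stalk c) := hCgen ▸ ArInt.stI_ker_gen C
    haveI := ArInt.IsSurf.regular (X := X) c
    have hd1 : ringKrullDim (X.left.presheaf.stalk c) = 1 := hCgen ▸ ArInt.dim_gen C
    have hsurj := surjective_stalkMap_of_dim_one h.left Uh hUh hisoh ηE hd1
    have hmK : Div21Lib.stI K ηE = maximalIdeal (Z.left.presheaf.stalk ηE) := by
      rw [Div21Lib.stI_comap, hmC]
      refine ((Ideal.map_eq_top_or_isMaximal_of_surjective _ hsurj inferInstance).resolve_left fun ht => ?_) |>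
        IsLocalRing.eq_maximalIdeal
      exact (maximalIdeal.isMaximal _).ne_top (top_le_iff.1 (ht.symm.le.trans
        (IsLocalRing.map_maximalIdeal_le (h.left.stalkMap ηE).hom)))
    rw [← hQE, ArInt.stI_mul, show Div21Lib.stI E.ι.ker ηE = _ from ArInt.stI_ker_gen E] at hmK
    by_contra hne
    haveI := ArInt.IsSurf.regular (X := Z) ηE
    have h2 : maximalIdeal (Z.left.presheaf.stalk ηE) ≤ maximalIdeal _ * maximalIdeal _ :=
      hmK.symm.le.trans (Ideal.mul_mono_left (le_maximalIdeal hne))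
    have h3 := Submodule.eq_bot_of_le_smul_of_le_jacobson_bot _ _ (IsNoetherian.noetherian _) h2
      (maximalIdeal_le_jacobson _)
    have hdE : ringKrullDim (Z.left.presheaf.stalk ηE) = 1 := ArInt.dim_gen E
    haveI : IsDomain (Z.left.presheaf.stalk ηE) := (ArInt.ufd ηE).1
    have hf : IsField (Z.left.presheaf.stalk ηE) := IsLocalRing.isField_iff_maximalIdeal_eq.2 h3
    exact absurd ((ringKrullDim_eq_zero_of_isField hf).symm.trans hdE) (by norm_num)
  -- degrees
  obtain ⟨LE, hLE, hLEi⟩ := exists_inverseOf (Big.isInvertible_ideal hEc)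
  obtain ⟨LQ, hLQ, hLQi⟩ := exists_inverseOf (Big.isInvertible_ideal hQc)
  let LK := (Scheme.Modules.pullback h.left).obj LC
  have hLK : PicF.IsInvertible LK := PicClLib.isInvertible_pullback h.left hLC
  have hcl : PicF.cl LK = PicF.cl (CohB1.tensorMod LE LQ) := by
    have h1 : PicF.cl LK * PicF.cl (ClSub.idealMod K) = 1 := by
      rw [← Big.cl_idealMod_comap h.left C.ι.ker (ArInt.isEffCartier_ker C) hK]
      show PicF.pullCl h.left (PicF.cl LC) * PicF.pullCl h.left (PicF.cl (ClSub.idealMod C.ι.ker)) = 1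
      rw [← pullCl_mul, Big.cl_mul_eq_one hLCi, pullCl_one]
    have h2 : PicF.cl (ClSub.idealMod K) * PicF.cl (CohB1.tensorMod LE LQ) = 1 := by
      rw [← hQE, SurfRR.cl_idealMod_mul hQc hEc, cl_tensor]
      have hE1 := Big.cl_mul_eq_one hLEi
      have hQ1 := Big.cl_mul_eq_one hLQi
      calc _ = (PicF.cl LE * PicF.cl (ClSub.idealMod E.ι.ker)) * (PicF.cl LQ * PicF.cl (ClSub.idealMod Q)) := by ac_rfl
        _ = 1 := by rw [hE1, hQ1, one_mul]
    exact left_inv_eq_right_inv h1 h2
  have hb1 : ArSurf.inter R Z LK E = -(Models.wdeg R Z E : ℤ) + ArSurf.inter R Z LQ E := by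
    rw [ArInt.inter_congr E hLK (isInvertible_tensor hLE hLQ) hcl, ArInt.inter_tensor E hLE hLQ,
      (ArInt.numbers_of_isExcCurve E hLEi hE).2]
  have hb2 : ArSurf.inter R Z LK E < 0 := by
    rw [ArInt.inter_eq_deg E hLK]
    have hLC' := PicClLib.isInvertible_pullback C.ι hLC
    obtain ⟨e⟩ : Nonempty ((Scheme.Modules.pullback E.ι).obj LK ≅
        (Scheme.Modules.pullback φ).obj ((Scheme.Modules.pullback C.ι).obj LC)) := cl_eq_iff.1 (by
      show PicF.pullCl E.ι (PicF.pullCl h.left (PicF.cl LC)) = PicF.pullCl φ (PicF.pullCl C.ι (PicF.cl LC))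
      rw [PicClLib.pullCl_comp, PicClLib.pullCl_comp, hφ])
    rw [CurveRR.deg_congr _ e 1, CurveFinMap.deg_pullback (k := ResidueField R) φ C.dim_eq hφk hφη
      (InvEnd.isFinLocFreeOfRank_one hLC'), ← ArInt.inter_eq_deg C hLC]
    exact mul_neg_of_pos_of_neg (by exact_mod_cast CurveGenusMono.residueDegree_pos φ _) haneg
  obtain ⟨hQlen, hQdis⟩ := ArInt.inter_eq_length E hQc hQη hLQi
  have hQ0 : ArSurf.inter R Z LQ E = 0 := by
    obtain ⟨m, hm⟩ := ArInt.wdeg_dvd_inter (Γ := E) hLK
    have hnn : 0 ≤ ArSurf.inter R Z LQ E := hQlen ▸ Int.natCast_nonneg _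
    have hw : (0 : ℤ) ≤ Models.wdeg R Z E := Int.natCast_nonneg _
    have hm' : m < 0 := by
      by_contra hm'
      push Not at hm'
      nlinarith
    nlinarith
  have hdis := hQdis.1 hQ0
  -- the preimage of the curve
  have hsupp : h.left ⁻¹' closure {c} = (Q.support : Set Z.left) ∪ Set.range E.ι := by
    rw [← ArInt.support_ker E, ← hC, ← ArInt.support_ker C]
    have h1 : (K.support : Set Z.left) = h.left ⁻¹' (C.ι.ker.support : Set X.left) := by
      rw [Scheme.IdealSheafData.support_comap]; rfl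
    rw [← h1, ← hQE, Scheme.IdealSheafData.support_mul]
    rfl
  have hhE : ∀ x ∈ closure ({c} : Set X.left), ∃ p ∈ Set.range E.ι, h.left p = x := fun x hx => by
    obtain ⟨p, hp, hpx⟩ := (specializes_iff_mem_closure.2 hx).mem_closed
      (h.left.isClosedMap _ E.ι.isClosedEmbedding.isClosed_range) ⟨ηE, ⟨_, rfl⟩, rfl⟩
    exact ⟨p, hp, hpx⟩
  have hXn : Pi1.IsNormalScheme X.left := fun p => by
    haveI := ArInt.IsSurf.regular (X := X) p
    haveI : UniqueFactorizationMonoid (X.left.presheaf.stalk p) := (S2821.result _).2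
    exact ⟨(S2821.result _).1, inferInstance⟩
  have hconn : ∀ x : X.left, _root_.IsPreconnected (h.left ⁻¹' {x}) := fun x => by
    haveI := (hXn x).2
    haveI := preconnected_fibre h.left Uh hUh hisoh x
    rw [← h.left.range_fiberι x]
    exact isPreconnected_range (h.left.fiberι x).continuous
  have hfibE : h.left ⁻¹' closure {c} ⊆ Set.range E.ι := fun p hp => by
    by_contra hpE
    obtain ⟨p', hp', hpp'⟩ := hhE _ hp
    obtain ⟨t, -, h1, h2⟩ := isPreconnected_closed_iff.1 (hconn (h.left p)) _ _ Q.support.isClosed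
      E.ι.isClosedEmbedding.isClosed_range
      (fun q (hq : h.left q = h.left p) => hsupp.subset (show h.left q ∈ closure {c} from hq ▸ hp))
      ⟨p, rfl, (hsupp.subset hp).resolve_right hpE⟩ ⟨p', hpp', hp'⟩
    exact Set.disjoint_left.1 hdis h2 h1
  have hQtop : Q = ⊤ := by
    rw [← Scheme.IdealSheafData.support_eq_bot_iff]
    refine SetLike.coe_injective ?_
    rw [Closeds.coe_bot, Set.eq_empty_iff_forall_notMem]
    exact fun p hp => Set.disjoint_left.1 hdis (hfibE (hsupp.ge (Or.inl hp))) hp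
  have hKeq : K = E.ι.ker := by rw [← hQE, hQtop, Scheme.IdealSheafData.top_mul]
  have hfib : ∀ x ∈ closure ({c} : Set X.left), (h.left ⁻¹' {x}).Subsingleton := fun x hx => by
    have hsub : h.left ⁻¹' {x} ⊆ Set.range E.ι := fun p (hp : h.left p = x) => hfibE (show h.left p ∈ _ from hp ▸ hx)
    by_cases hxc : x = c
    · subst hxc
      suffices key : ∀ p, h.left p = c → p = ηE from fun a ha b hb => (key a ha).trans (key b hb).symm
      intro p hp
      by_contra hne
      refine hc ?_
      rw [← hp, ← Set.image_singleton]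
      exact h.left.isClosedMap _ (isClosed_of_mem_ne_gen E (hsub hp) hne)
    · have hcl : ∀ p ∈ h.left ⁻¹' {x}, IsClosed ({p} : Set Z.left) := fun p hp =>
        isClosed_of_mem_ne_gen E (hsub hp) fun he => hxc ((Set.mem_singleton_iff.1 hp).symm.trans (he ▸ rfl))
      have hxcl : IsClosed (h.left ⁻¹' {x}) := by
        refine IsClosed.preimage h.left.continuous ?_
        obtain ⟨p, hp, hpx⟩ := hhE x hx
        rw [← hpx, ← Set.image_singleton]
        exact h.left.isClosedMap _ (hcl p hpx)
      exact subsingleton_of_finite_preconnected (finite_of_closed_points hxcl hcl) (hconn x) hcl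
  obtain ⟨W, hW, hWmem⟩ := exists_iso_opens h.left Uh hUh hisoh hXn
  have hCW : Set.range C.ι ⊆ Set.range W.ι := by
    rw [Scheme.Opens.range_ι]
    intro x hx
    exact hWmem x (hfib x (hC.subset hx))
  let ψ : C.curve.left ⟶ Z.left :=
    IsOpenImmersion.lift W.ι C.ι hCW ≫ inv (h.left ∣_ W) ≫ (h.left ⁻¹ᵁ W).ι
  have hψ : ψ ≫ h.left = C.ι := by
    simp only [ψ, Category.assoc, ← morphismRestrict_ι, IsIso.inv_hom_id_assoc, IsOpenImmersion.lift_fac]
  haveI : IsClosedImmersion ψ := by
    haveI : IsClosedImmersion (ψ ≫ h.left) := hψ ▸ inferInstance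
    exact IsClosedImmersion.of_comp ψ h.left
  have hψr : Set.range ψ = Set.range E.ι := by
    refine subset_antisymm ?_ ?_
    · rintro _ ⟨q, rfl⟩
      refine hfibE ?_
      show h.left (ψ q) ∈ closure {c}
      rw [← Scheme.Hom.comp_apply, hψ]
      exact hC.subset ⟨q, rfl⟩
    · rintro p hp
      have hpc : h.left p ∈ closure ({c} : Set X.left) := by
        obtain ⟨q, rfl⟩ := hp
        exact specializes_iff_mem_closure.1 (hspE q)
      obtain ⟨q, hq⟩ := hC.ge hpc
      refine ⟨q, hfib _ hpc ?_ rfl⟩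
      show h.left (ψ q) = _
      rw [← Scheme.Hom.comp_apply, hψ]
      exact hq
  have hker : ψ.ker = E.ι.ker := by
    rw [CanonDual.ker_eq_vanishingIdeal ψ (S := ⟨_, E.ι.isClosedEmbedding.isClosed_range⟩) hψr,
      CanonDual.ker_eq_vanishingIdeal E.ι (S := ⟨_, E.ι.isClosedEmbedding.isClosed_range⟩) rfl]
  let σ := IsClosedImmersion.lift ψ E.ι hker.le
  haveI : IsIso σ := IsClosedImmersion.isIso_lift _ _ hker
  obtain ⟨-, k, _, e, ⟨τ⟩⟩ := hE
  refine hexc C.curve.left C.ι ⟨ArInt.isEffCartier_ker C, k, inferInstance, e ≪≫ asIso σ, ?_⟩ ⟨y, hCy⟩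
  have hcomp : (e ≪≫ asIso σ).hom ≫ C.ι = (e.hom ≫ E.ι) ≫ h.left := by
    rw [← hψ, Iso.trans_hom, asIso_hom]
    simp only [Category.assoc]
    rw [reassoc_of% (IsClosedImmersion.lift_fac ψ E.ι hker.le)]
  obtain ⟨i⟩ : Nonempty ((Scheme.Modules.pullback ((e ≪≫ asIso σ).hom ≫ C.ι)).obj (ClSub.idealMod C.ι.ker) ≅
      (Scheme.Modules.pullback (e.hom ≫ E.ι)).obj (ClSub.idealMod E.ι.ker)) := cl_eq_iff.1 (by
    show PicF.pullCl _ (PicF.cl (ClSub.idealMod C.ι.ker)) = PicF.pullCl _ (PicF.cl (ClSub.idealMod E.ι.ker))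
    rw [hcomp, ← PicClLib.pullCl_comp]
    congr 1
    show PicF.cl ((Scheme.Modules.pullback h.left).obj (ClSub.idealMod C.ι.ker)) = _
    rw [Big.cl_idealMod_comap h.left C.ι.ker (ArInt.isEffCartier_ker C) hK]
    exact congrArg (fun J => PicF.cl (ClSub.idealMod J)) hKeq)
  exact ⟨i ≪≫ τ⟩

end Groth.Agent.ResolveX
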