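import Groth.Agent.ResolveX.DesingMin
import Groth.Agent.ArInt.HenselContract
import Groth.Agent.ArInt.GGDivisor
import Groth.Agent.ArInt.ArtinContract
import Groth.Agent.QCoh.Devissage
import Groth.Agent.S7893

/-!
# Proper regular flat surfaces over a discrete valuation ring are projective
-/

set_option autoImplicit false
set_option linter.style.haveILetI false
set_option linter.unusedSectionVars false
set_option backward.isDefEq.respectTransparency false
set_option backward.isDefEq.respectTransparency.types false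
set_option maxHeartbeats 1000000

universe u

open CategoryTheory CategoryTheory.Limits AlgebraicGeometry TopologicalSpace IsLocalRing

attribute [local instance 2000] CategoryTheory.CategoryStruct.toQuiver

noncomputable section

namespace Groth.Agent.ResolveX

open Groth.Agent Groth.Agent.H23.PicMul

variable {R : Type u} [CommRing R] [IsDomain R] [IsDiscreteValuationRing R]
  {X : Over (Spec (CommRingCat.of R))} [ArInt.IsSurf X] [Flat X.hom]

/-- Primes of a stalk as points. -/
theorem fromSpecStalk_props (x : X.left) (P : PrimeSpectrum (X.left.presheaf.stalk x)) :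
    X.left.fromSpecStalk x P ⤳ x ∧
      (P.asIdeal ≠ maximalIdeal (X.left.presheaf.stalk x) → X.left.fromSpecStalk x P ≠ x) ∧
      (P.asIdeal ≠ ⊥ → X.left.fromSpecStalk x P ≠ genericPoint X.left) := by
  haveI : IsDomain (X.left.presheaf.stalk x) := (ArInt.ufd x).1
  let A := X.left.presheaf.stalk x
  have h0 : X.left.fromSpecStalk x (closedPoint A) = x := Scheme.fromSpecStalk_closedPoint
  refine ⟨?_, fun hne h => hne ?_, fun hne h => hne ?_⟩
  · have := (IsLocalRing.specializes_closedPoint P).map (X.left.fromSpecStalk x).continuous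
    rwa [h0] at this
  · exact congrArg PrimeSpectrum.asIdeal ((X.left.fromSpecStalk x).isEmbedding.injective (h.trans h0.symm))
  · let o : Spec A := (⟨⊥, Ideal.isPrime_bot⟩ : PrimeSpectrum A)
    have ho : o ⤳ P := (PrimeSpectrum.le_iff_specializes o P).1 bot_le
    have h1 : X.left.fromSpecStalk x P ⤳ X.left.fromSpecStalk x o := by
      rw [h]; exact (genericPoint_spec X.left).specializes (Set.mem_univ _)
    exact (congrArg PrimeSpectrum.asIdeal
      (((X.left.fromSpecStalk x).isEmbedding.isInducing.specializes_iff.1 h1).antisymm ho).eq :)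

/-- The uniformiser cuts out the closed fibre. -/
theorem mem_iff_specialFibre (x : X.left) (P : PrimeSpectrum (X.left.presheaf.stalk x)) {ϖ : R} (hϖ : Irreducible ϖ) :
    X.hom (X.left.fromSpecStalk x P) = IsLocalRing.closedPoint R ↔ Models.stalkHom R X x ϖ ∈ P.asIdeal := by
  have h : ∀ a : R, a ∈ (X.hom (X.left.fromSpecStalk x P) : PrimeSpectrum R).asIdeal ↔
      Models.stalkHom R X x a ∈ P.asIdeal := fun a => by
    rw [← Scheme.Hom.comp_apply, fromSpecStalk_comp_hom]; rfl
  rw [← h]
  rcases ArInt.spec_cases R (X.hom (X.left.fromSpecStalk x P)) with e | e <;> rw [e]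
  · exact iff_of_true rfl hϖ.not_isUnit
  · exact iff_of_false (fun h' => ArInt.closedPoint_ne_bot h'.symm) fun h' => hϖ.ne_zero (Ideal.mem_bot.1 h')

/-- Through every closed point passes a curve of the closed fibre. -/
theorem exists_vertical_point {x : X.left} (hx : IsClosed ({x} : Set X.left)) :
    ∃ η : X.left, x < η ∧ η < genericPoint X.left ∧ X.hom η = IsLocalRing.closedPoint R := by
  have hxs := hom_closed_point X.hom hx
  obtain ⟨ϖ, hϖ⟩ := IsDiscreteValuationRing.exists_irreducible R
  let A := X.left.presheaf.stalk x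
  haveI := ArInt.IsSurf.regular (X := X) x
  have hdim : ringKrullDim A = 2 := dim_stalk_closedPoint hx hxs
  obtain ⟨q, hq, -⟩ := Ideal.exists_minimalPrimes_le ((Ideal.span_singleton_le_iff_mem _).2
    ((mem_iff_specialFibre x (closedPoint A) hϖ).1 (by rw [Scheme.fromSpecStalk_closedPoint]; exact hxs)))
  haveI := hq.1.1
  let P : PrimeSpectrum A := ⟨q, hq.1.1⟩
  have hs : X.hom (X.left.fromSpecStalk x P) = IsLocalRing.closedPoint R :=
    (mem_iff_specialFibre x P hϖ).2 (hq.1.2 (Ideal.mem_span_singleton_self _))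
  refine ⟨_, ArInt.lt_of_specializes_ne (fromSpecStalk_props x P).1 ((fromSpecStalk_props x P).2.1 fun he => ?_),
    ArInt.lt_of_specializes_ne ((genericPoint_spec X.left).specializes (Set.mem_univ _)) fun h =>
      ArInt.closedPoint_ne_bot ((h ▸ hs : X.hom (genericPoint X.left) = _).symm.trans ArInt.hom_genericPoint), hs⟩
  have hh := Ideal.height_le_one_of_isPrincipal_of_mem_minimalPrimes _ q hq
  rw [show q = maximalIdeal A from he] at hh
  have h3 : ((maximalIdeal A).height : WithBot ℕ∞) ≤ 1 := WithBot.coe_le_coe.2 hh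
  rw [IsLocalRing.maximalIdeal_height_eq_ringKrullDim, hdim] at h3
  exact absurd h3 (by norm_num)

/-- A horizontal point of codimension one above every closed point. -/
theorem exists_horizontal_point {x : X.left} (hx : IsClosed ({x} : Set X.left)) :
    ∃ η : X.left, η ⤳ x ∧ X.hom η ≠ IsLocalRing.closedPoint R ∧ η ≠ genericPoint X.left ∧ η ≠ x := by
  classical
  have hxs := hom_closed_point X.hom hx
  obtain ⟨ϖ, hϖ⟩ := IsDiscreteValuationRing.exists_irreducible R
  let A := X.left.presheaf.stalk x
  haveI := ArInt.IsSurf.regular (X := X) x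
  haveI : IsDomain A := (ArInt.ufd x).1
  have hdim : ringKrullDim A = 2 := dim_stalk_closedPoint hx hxs
  have hpt := fun P => fromSpecStalk_props (X := X) x P
  let π : A := Models.stalkHom R X x ϖ
  have hsp : ∀ P : PrimeSpectrum A, X.hom (X.left.fromSpecStalk x P) = IsLocalRing.closedPoint R → π ∈ P.asIdeal :=
    fun P hP => (mem_iff_specialFibre x P hϖ).1 hP
  have hπ0 : π ≠ 0 := fun h0 => by
    let o : Spec A := (⟨⊥, Ideal.isPrime_bot⟩ : PrimeSpectrum A)
    have hgen : X.left.fromSpecStalk x o = genericPoint X.left := by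
      obtain ⟨P, hP⟩ : genericPoint X.left ∈ Set.range (X.left.fromSpecStalk x) := by
        rw [Scheme.range_fromSpecStalk]
        exact (genericPoint_spec X.left).specializes (Set.mem_univ x)
      by_contra hne
      refine (hpt P).2.2 (fun hb => hne ?_) hP
      rw [← hP]
      exact congrArg _ (PrimeSpectrum.ext hb.symm)
    have h1 : π ∈ (⊥ : Ideal A) := h0 ▸ zero_mem _
    have h2 : ϖ ∈ (X.hom (X.left.fromSpecStalk x o) : PrimeSpectrum R).asIdeal := by
      rw [← Scheme.Hom.comp_apply, fromSpecStalk_comp_hom]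
      exact h1
    rw [hgen, ArInt.hom_genericPoint] at h2
    exact hϖ.ne_zero h2
  have hm : ∀ q ∈ (Ideal.span {π}).minimalPrimes, q ≠ maximalIdeal A := fun q hq he => by
    have h1 := Ideal.height_le_one_of_isPrincipal_of_mem_minimalPrimes _ q hq
    rw [he] at h1
    have h3 : ((maximalIdeal A).height : WithBot ℕ∞) ≤ 1 := WithBot.coe_le_coe.2 h1
    rw [IsLocalRing.maximalIdeal_height_eq_ringKrullDim, hdim] at h3
    exact absurd h3 (by norm_num)
  have hfin := Ideal.finite_minimalPrimes_of_isNoetherianRing A (Ideal.span {π})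
  obtain ⟨f, hfm, hf⟩ : ∃ f ∈ maximalIdeal A, ∀ q ∈ hfin.toFinset, f ∉ q := by
    by_contra hcon
    push Not at hcon
    have hsub : (maximalIdeal A : Set A) ⊆ ⋃ q ∈ (hfin.toFinset : Set (Ideal A)), (q : Set A) :=
      fun a ha => by
        obtain ⟨q, hq, haq⟩ := hcon a ha
        exact Set.mem_biUnion (Finset.mem_coe.2 hq) haq
    obtain ⟨q, hq, hle⟩ := (Ideal.subset_union_prime (f := id) (⊥ : Ideal A) ⊥
      (fun i hi _ _ => (hfin.mem_toFinset.1 hi).1.1)).1 hsub
    have hq' := hfin.mem_toFinset.1 hq
    exact hm q hq' (le_antisymm (le_maximalIdeal hq'.1.1.ne_top) hle)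
  have hf0 : f ≠ 0 := fun h => by
    obtain ⟨q, hq, -⟩ := Ideal.exists_minimalPrimes_le ((Ideal.span_singleton_le_iff_mem _).2
      (show π ∈ maximalIdeal A from hsp (closedPoint A) (by rw [Scheme.fromSpecStalk_closedPoint]; exact hxs)))
    exact hf q (hfin.mem_toFinset.2 hq) (h ▸ zero_mem _)
  obtain ⟨q, hq, hqm⟩ := Ideal.exists_minimalPrimes_le ((Ideal.span_singleton_le_iff_mem _).2 hfm)
  have hfq : f ∈ q := hq.1.2 (Ideal.mem_span_singleton_self f)
  have hh := Ideal.height_le_one_of_isPrincipal_of_mem_minimalPrimes _ q hq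
  haveI := hq.1.1
  have hqne : q ≠ maximalIdeal A := fun he => by
    rw [he] at hh
    have h3 : ((maximalIdeal A).height : WithBot ℕ∞) ≤ 1 := WithBot.coe_le_coe.2 hh
    rw [IsLocalRing.maximalIdeal_height_eq_ringKrullDim, hdim] at h3
    exact absurd h3 (by norm_num)
  have hπq : π ∉ q := fun h => by
    obtain ⟨q', hq', hle⟩ := Ideal.exists_minimalPrimes_le ((Ideal.span_singleton_le_iff_mem _).2 h)
    haveI := hq'.1.1
    have hq'0 : q' ≠ ⊥ := fun h0 => hπ0 (Ideal.mem_bot.1 (h0 ▸ hq'.1.2 (Ideal.mem_span_singleton_self π)))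
    have hlt : q' < q := lt_of_le_of_ne hle fun he => hf q' (hfin.mem_toFinset.2 hq') (he ▸ hfq)
    have h1 : (⊥ : Ideal A).height + 1 ≤ q'.height := Ideal.height_add_one_le_of_lt_of_isPrime (bot_lt_iff_ne_bot.2 hq'0)
    have h2 : q'.height + 1 ≤ q.height := Ideal.height_add_one_le_of_lt_of_isPrime hlt
    have h3 : (1 : ℕ∞) + 1 ≤ 1 := le_trans (add_le_add (le_trans le_add_self h1) le_rfl) (h2.trans hh)
    exact absurd h3 (by norm_num)
  let P : PrimeSpectrum A := ⟨q, hq.1.1⟩
  exact ⟨_, (hpt P).1, fun h => hπq (hsp P h), (hpt P).2.2 fun h0 => hf0 (Ideal.mem_bot.1 (h0 ▸ hfq)), (hpt P).2.1 hqne⟩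

/-- The closure of a point of codimension one is an effective Cartier divisor. -/
theorem isEffCartier_closure_point {η c : X.left} (hc : η ⤳ c) (hne : c ≠ η) (hη : η ≠ genericPoint X.left) :
    BlowUp.IsEffCartierIdeal (Scheme.IdealSheafData.vanishingIdeal (Closeds.closure {η})) := by
  let I := Scheme.IdealSheafData.vanishingIdeal (Closeds.closure {η})
  haveI : IsIntegral I.subscheme := QCoh.isIntegral_closure_point η
  have hr : Set.range I.subschemeι = closure {η} := H23.RedSub.range_vanishingIdeal _
  have hgen : I.subschemeι (genericPoint I.subscheme) = η := by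
    refine (show IsGenericPoint _ (closure {η}) from ?_).eq isGenericPoint_closure
    rw [IsGenericPoint, ← Set.image_singleton, I.subschemeι.isClosedEmbedding.closure_image_eq, genericPoint_closure,
      Set.image_univ, hr]
  refine DivX.isEffCartier_of_codim_one I ?_ fun x _ => ArInt.ufd x
  rw [hgen, ringKrullDim_stalk_eq_coheight]
  have h1 : η < genericPoint X.left :=
    ArInt.lt_of_specializes_ne ((genericPoint_spec X.left).specializes (Set.mem_univ η)) hη.symm
  have h2 : c < η := ArInt.lt_of_specializes_ne hc hne.symm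
  have hle : Order.coheight η ≤ (1 : ℕ∞) := by
    have h3 : Order.coheight η + 1 ≤ 2 := by
      refine (Order.coheight_add_one_le h2).trans (WithBot.coe_le_coe.1 ?_)
      refine (Order.coheight_le_krullDim c).trans ?_
      rw [← Order.krullDim_eq_of_orderIso (irreducibleSetEquivPoints (α := X.left))]
      exact ArInt.IsSurf.dim_eq.le
    rw [show (2 : ℕ∞) = 1 + 1 from rfl] at h3
    exact (WithTop.add_le_add_iff_right (by exact WithTop.one_ne_top)).1 h3
  rw [le_antisymm hle (le_trans le_add_self (Order.coheight_add_one_le h1))]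
  rfl

variable (X) in
/-- A proper regular flat surface over a discrete valuation ring is projective. -/
theorem isProjectiveOver_of_isSurf : Neron.IsProjectiveOver R X := by
  classical
  haveI : IsLocallyNoetherian X.left := LocallyOfFiniteType.isLocallyNoetherian X.hom
  haveI : CompactSpace X.left := QuasiCompact.compactSpace_of_compactSpace X.hom
  haveI : IsNoetherian X.left := {}
  -- finitely many vertical curves
  have hfin := ArInt.finite_vertComp_ranges (X := X) ArInt.IsSurf.dim_eq
  choose Γ hΓ using fun s : {s // s ∈ hfin.toFinset} => hfin.mem_toFinset.1 s.2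
  have hclosed : ∀ s, ∃ x : X.left, IsClosed ({x} : Set X.left) ∧ x ∈ Set.range (Γ s).ι := fun s => by
    haveI := (Γ s).isClosedImmersion
    haveI := (Γ s).isIntegral
    obtain ⟨p, hp⟩ : ∃ p : (Γ s).curve.left, p ≠ genericPoint (Γ s).curve.left := by
      by_contra h
      push Not at h
      haveI : Subsingleton (Γ s).curve.left := ⟨fun a b => (h a).trans (h b).symm⟩
      have h0 : topologicalKrullDim (Γ s).curve.left ≤ 0 := topologicalKrullDim_zero_of_discreteTopology _
      rw [(Γ s).dim_eq] at h0
      exact absurd h0 (by norm_num)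
    exact ⟨_, isClosed_of_mem_ne_gen (Γ s) ⟨p, rfl⟩ fun h => hp ((Γ s).ι.isClosedEmbedding.injective h), p, rfl⟩
  choose x hx hxΓ using hclosed
  -- a vertical curve exists
  obtain ⟨E₀⟩ : Nonempty (ArSurf.VertComp R X) := by
    obtain ⟨x₀, hx₀⟩ : ∃ x₀ : X.left, IsClosed ({x₀} : Set X.left) := by
      obtain ⟨x₀, -, hx₀⟩ := IsClosed.exists_closed_singleton (isClosed_univ (X := X.left)) Set.univ_nonempty
      exact ⟨x₀, hx₀⟩
    obtain ⟨η, hη⟩ : ∃ η, x₀ < η ∧ η < genericPoint X.left ∧ X.hom η = IsLocalRing.closedPoint R := by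
      exact exists_vertical_point hx₀
    obtain ⟨E, -⟩ := ArInt.exists_vertComp_closure ArInt.IsSurf.dim_eq hη.2.2 hη.1
    exact ⟨E⟩
  choose η hηx hηs hηg hηne using fun s => exists_horizontal_point (X := X) (hx s)
  let D : X.left.IdealSheafData := ∏ s, Scheme.IdealSheafData.vanishingIdeal (Closeds.closure {η s})
  have hD : BlowUp.IsEffCartierIdeal D :=
    Finset.prod_induction _ _ (fun a b => ModPairLib.isEffCartier_mul) (by
      rw [Scheme.IdealSheafData.one_eq_top]; exact ArInt.isEffCartier_top _)
      fun s _ => isEffCartier_closure_point (hηx s) (hηne s).symm (hηg s)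
  have hsupp : (D.support : Set X.left) = ⋃ s, closure {η s} := by
    have key : ∀ T : Finset {s // s ∈ hfin.toFinset},
        ((∏ s ∈ T, Scheme.IdealSheafData.vanishingIdeal (Closeds.closure {η s}) : X.left.IdealSheafData).support :
          Set X.left) = ⋃ s ∈ T, closure {η s} := fun T => by
      induction T using Finset.induction_on with
      | empty => simp [Scheme.IdealSheafData.one_eq_top]
      | @insert a T ha ih =>
        rw [Finset.prod_insert ha, Scheme.IdealSheafData.support_mul, Closeds.coe_sup, ih,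
          Scheme.IdealSheafData.coe_support_vanishingIdeal, Finset.set_biUnion_insert]
        rfl
    simpa [D] using key Finset.univ
  let d := D.subschemeι
  have hdr : Set.range d = ⋃ s, closure {η s} := by rw [D.range_subschemeι, hsupp]
  have hhor : ∀ p : D.subscheme, ∃ q : D.subscheme, q ⤳ p ∧ ((d ≫ X.hom).base q).asIdeal = ⊥ := fun p => by
    obtain ⟨s, hs⟩ := Set.mem_iUnion.1 (hdr.subset ⟨p, rfl⟩)
    obtain ⟨q, hq⟩ := hdr.ge (Set.mem_iUnion.2 ⟨s, subset_closure rfl⟩)
    refine ⟨q, d.isEmbedding.isInducing.specializes_iff.1 (hq ▸ specializes_iff_mem_closure.2 hs), ?_⟩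
    rw [Scheme.Hom.comp_apply, hq, (ArInt.spec_cases R (X.hom (η s))).resolve_left (hηs s)]
  obtain ⟨L, hL, hLi⟩ := exists_inverseOf (Big.isInvertible_ideal hD)
  obtain ⟨m, hm1, hm⟩ := ArInt.globallyGenerated_pow (IsDiscreteValuationRing.not_isField R) ArInt.IsSurf.dim_eq d
    (by rw [D.ker_subschemeι]; exact hD) hhor (L := L) (by rw [D.ker_subschemeι]; exact hLi)
  let M := CohB1.tensorPow L m
  have hM : PicF.IsInvertible M := InvX.isInvertible_tensorPow hL m
  have hpos : ∀ E : ArSurf.VertComp R X, 0 < ArSurf.inter R X M E := fun E => by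
    haveI := E.isClosedImmersion
    haveI := E.isIntegral
    rw [ArInt.inter_tensorPow hL E m]
    refine mul_pos (by exact_mod_cast hm1) ?_
    have hEη : E.ι (genericPoint E.curve.left) ∉ (D.support : Set X.left) := by
      rw [hsupp]
      intro h
      obtain ⟨s, hs⟩ := Set.mem_iUnion.1 h
      have h1 : η s ⤳ E.ι (genericPoint _) := specializes_iff_mem_closure.2 hs
      have hne : η s ≠ E.ι (genericPoint _) := fun e => hηs s (e ▸ ArInt.mem_specialFibre E _)
      obtain ⟨p, hp⟩ : ∃ p, p ≠ genericPoint E.curve.left := by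
        by_contra h
        push Not at h
        haveI : Subsingleton E.curve.left := ⟨fun a b => (h a).trans (h b).symm⟩
        have h0 : topologicalKrullDim E.curve.left ≤ 0 := topologicalKrullDim_zero_of_discreteTopology _
        rw [E.dim_eq] at h0
        exact absurd h0 (by norm_num)
      exact ArInt.no_chain_four' ArInt.IsSurf.dim_eq
        (ArInt.lt_of_specializes_ne (((genericPoint_spec _).specializes (Set.mem_univ p)).map E.ι.continuous)
          fun e => hp (E.ι.isClosedEmbedding.injective e).symm)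
        (ArInt.lt_of_specializes_ne h1 hne)
        (ArInt.lt_of_specializes_ne ((genericPoint_spec X.left).specializes (Set.mem_univ _)) (hηg s).symm)
    obtain ⟨hlen, hdis⟩ := ArInt.inter_eq_length E hD hEη hLi
    refine lt_of_le_of_ne (hlen ▸ Int.natCast_nonneg _) fun h0 => ?_
    obtain ⟨s, hs⟩ : ∃ s, Set.range (Γ s).ι.base = Set.range E.ι.base :=
      ⟨⟨_, hfin.mem_toFinset.2 ⟨E, rfl⟩⟩, hΓ _⟩
    refine Set.disjoint_left.1 (hdis.1 h0.symm) (show x s ∈ Set.range E.ι from hs.subset (hxΓ s)) ?_
    rw [hsupp]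
    exact Set.mem_iUnion.2 ⟨s, specializes_iff_mem_closure.1 (hηx s)⟩
  -- the morphism to projective space
  obtain ⟨k, t, ht⟩ := CurveReg.exists_fin_cover hM (hm m le_rfl)
  obtain ⟨n, rfl⟩ : ∃ n, k = n + 1 := by
    obtain ⟨i, -⟩ := ht (genericPoint X.left)
    exact ⟨k - 1, (Nat.sub_add_cancel (Nat.one_le_iff_ne_zero.2 fun h => (h ▸ i).elim0)).symm⟩
  obtain ⟨q, hq, τ, -⟩ := S3572.result n X.hom M hM t (AVAmple.generatedBy_of_locus t ht)
  let p := CohB1.ProjSpace.toSpec n R
  haveI hp : IsProper p := PnCoh.Chow.isProper_toSpec n R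
  haveI : IsProper q := by
    haveI : IsProper (q ≫ p) := hq ▸ inferInstance
    exact IsProper.of_comp q p
  let Ts : Finset (MvPolynomial (Fin (n + 1)) R) := Finset.univ.image MvPolynomial.X
  have hamp : CohB1.IsAmple (Twist.twistProjSpace n R 1) := by
    refine AmpleX.isAmple_twist_one _ Ts (fun g hg => ?_) ?_
    · obtain ⟨i, -, rfl⟩ := Finset.mem_image.1 hg
      exact ProjPt.X_mem i
    · refine Proj.iSup_basicOpen_eq_top _ _ ((SegreX.irrelevant_le_span n R).trans ?_)
      refine Ideal.span_mono ?_
      rintro _ ⟨i, rfl⟩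
      exact ⟨⟨_, Finset.mem_image.2 ⟨i, Finset.mem_univ _, rfl⟩⟩, rfl⟩
  have hconst : ∀ (E : ArSurf.VertComp R X) y, ¬ ∀ c, (E.ι ≫ q) c = y := fun E y hy => by
    obtain ⟨τ'⟩ : H23.TrivBasic.Triv ((Scheme.Modules.pullback E.ι).obj M) :=
      H23.TrivBasic.Triv.of_iso ((Scheme.Modules.pullbackComp E.ι q).symm.app _ ≪≫
        (Scheme.Modules.pullback E.ι).mapIso τ) (ArInt.triv_of_const (E.ι ≫ q) hamp.1 y hy)
    have h := hpos E
    unfold ArSurf.inter ArSurf.curveDeg at h
    rw [JacTangent.eulerCharLE_iso τ' 1, sub_self] at h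
    exact lt_irrefl 0 h
  have hover : ∀ z, p (q z) = X.hom z := fun z => by rw [← Scheme.Hom.comp_apply, hq]
  have hqs : ∀ a b : X.left, a ⤳ b → q a = q b → a = b := fun a b hab he => by
    by_contra hne
    have hX : X.hom a = X.hom b := by rw [← hover a, ← hover b, he]
    rcases ArInt.spec_cases R (X.hom a) with ha | ha
    · obtain ⟨E, hE⟩ := ArInt.exists_vertComp_closure ArInt.IsSurf.dim_eq (η := a) ha (ArInt.lt_of_specializes_ne hab hne)
      haveI := E.isClosedImmersion
      haveI := E.isIntegral
      have hbc : IsClosed ({b} : Set X.left) := by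
        refine isClosed_of_mem_ne_gen E (hE.ge (specializes_iff_mem_closure.1 hab)) fun hb => hne ?_
        rw [hb]
        exact isGenericPoint_closure.eq (show IsGenericPoint _ (closure {a}) from (ArInt.closure_gen E).trans hE)
      refine hconst E (q b) fun c => ?_
      have h1 : a ⤳ E.ι c := specializes_iff_mem_closure.2 (hE.subset ⟨c, rfl⟩)
      have h2 := q.isClosedMap _ hbc
      rw [Set.image_singleton] at h2
      exact ((he ▸ h1.map q.continuous) : q b ⤳ q (E.ι c)).mem_closed h2 rfl
    · -- everything would be in the image of a horizontal curve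
      have hbs : X.hom b ≠ IsLocalRing.closedPoint R := by
        rw [← hX, ha]; exact ArInt.closedPoint_ne_bot.symm
      have haη : a = genericPoint X.left := by
        by_contra haη
        obtain ⟨c, hc, hc'⟩ := (IsLocalRing.specializes_closedPoint (X.hom b)).mem_closed
          (X.hom.isClosedMap _ (isClosed_closure (s := ({b} : Set X.left)))) ⟨b, subset_closure rfl, rfl⟩
        exact ArInt.no_chain_four' ArInt.IsSurf.dim_eq
          (ArInt.lt_of_specializes_ne (specializes_iff_mem_closure.2 hc) fun e => hbs (e ▸ hc'))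
          (ArInt.lt_of_specializes_ne hab hne)
          (ArInt.lt_of_specializes_ne ((genericPoint_spec X.left).specializes (Set.mem_univ a)) fun e => haη e.symm)
      let S : Set X.left := closure {b} ∩ X.hom ⁻¹' {IsLocalRing.closedPoint R}
      have hSc : IsClosed S := isClosed_closure.inter ((IsLocalRing.isClosed_singleton_closedPoint R).preimage X.hom.continuous)
      have hSpt : ∀ c ∈ S, IsClosed ({c} : Set X.left) := fun c hc => by
        refine closure_subset_iff_isClosed.1 fun v hv => ?_
        by_contra hvc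
        exact ArInt.no_chain_four' ArInt.IsSurf.dim_eq
          (ArInt.lt_of_specializes_ne (specializes_iff_mem_closure.2 hv) (Ne.symm hvc))
          (ArInt.lt_of_specializes_ne (specializes_iff_mem_closure.2 hc.1) fun e => hbs (e ▸ hc.2))
          (ArInt.lt_of_specializes_ne ((genericPoint_spec X.left).specializes (Set.mem_univ b))
            fun e => hne (haη.trans e))
      have hSfin := CurveCohLib.finite_of_closedPoints hSc hSpt
      haveI := E₀.isClosedImmersion
      haveI := E₀.isIntegral
      obtain ⟨c, hc, hcq⟩ : ∃ c ∈ S, q c = q (E₀.ι (genericPoint E₀.curve.left)) := by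
        obtain ⟨c, hc, hcq⟩ := (show q b ⤳ q (E₀.ι (genericPoint E₀.curve.left)) from he ▸ haη ▸
          ((genericPoint_spec X.left).specializes (Set.mem_univ _)).map q.continuous).mem_closed
          (q.isClosedMap _ (isClosed_closure (s := ({b} : Set X.left)))) ⟨b, subset_closure rfl, rfl⟩
        refine ⟨c, ⟨hc, ?_⟩, hcq⟩
        show X.hom c = _
        rw [← hover c, hcq, hover]
        exact ArInt.mem_specialFibre E₀ _
      have h2 := q.isClosedMap _ (hSpt c hc)
      rw [Set.image_singleton] at h2
      refine hconst E₀ (q c) fun e => ?_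
      exact (hcq ▸ ((((genericPoint_spec _).specializes (Set.mem_univ e)).map E₀.ι.continuous).map q.continuous) :
        q c ⤳ q (E₀.ι e)).mem_closed h2 rfl
  haveI : IsLocallyNoetherian (CohB1.ProjSpace n R) := LocallyOfFiniteType.isLocallyNoetherian p
  haveI : LocallyQuasiFinite q := LocallyQuasiFinite.of_finite_preimage_singleton q fun w =>
    ArInt.SmoothRelMin.finite_of_no_specializations q w fun a b ha hb hab => hqs a b hab (ha.trans hb.symm)
  haveI : IsFinite q := IsFinite.of_isProper_of_locallyQuasiFinite q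
  have hqa : Mor2.IsQuasiAffine q := ⟨inferInstance, fun V hV => by
    haveI : IsAffine (q ⁻¹ᵁ V) := hV.preimage q
    infer_instance⟩
  have hA : CohB1.IsAmple ((Scheme.Modules.pullback q).obj (Twist.twistProjSpace n R 1)) :=
    (AmpleX.isRelAmple_iff_isAmple (q ≫ p) _).1
      (AmpleX.isRelAmple_pullback_quasiAffine p q hqa ((AmpleX.isRelAmple_iff_isAmple p _).2 hamp))
  obtain ⟨N', i, hi, -, hiw⟩ := AmpleX.exists_immersion_projSpaceOver X.hom hA
  haveI := hi
  haveI : IsProper i := by
    haveI : IsProper (i ≫ CohB1.ProjSpaceOver.toBase N' (Spec (CommRingCat.of R))) := hiw ▸ inferInstance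
    exact IsProper.of_comp i (CohB1.ProjSpaceOver.toBase N' (Spec (CommRingCat.of R)))
  exact ⟨N', i, IsClosedImmersion.of_isPreimmersion i i.isClosedMap.isClosed_range, hiw⟩

end Groth.Agent.ResolveX
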