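import Groth.Agent.ResolveX.BlowPic
import Groth.Agent.ResolveX.BlowLine

/-!
# The closed point of a regular local scheme
-/

set_option autoImplicit false
set_option linter.style.haveILetI false
set_option backward.isDefEq.respectTransparency false
set_option backward.isDefEq.respectTransparency.types false
set_option maxHeartbeats 1000000

universe u

open CategoryTheory CategoryTheory.Limits AlgebraicGeometry TopologicalSpace IsLocalRing

noncomputable section

namespace Groth.Agent.ResolveX

open Groth.Agent

variable (A : Type u) [CommRing A] [IsRegularLocalRing A]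

/-- The reduced ideal of the closed point is the maximal ideal. -/
theorem vanishingIdeal_closedPoint
    (hc : IsClosed ({closedPoint A} : Set (Spec (CommRingCat.of A)))) :
    Scheme.IdealSheafData.vanishingIdeal (X := Spec (CommRingCat.of A)) ⟨{closedPoint A}, hc⟩ =
      BlowUpLib.centre (maximalIdeal A) := by
  let jk := Spec.map (CommRingCat.ofHom (Ideal.Quotient.mk (maximalIdeal A)))
  haveI : IsClosedImmersion jk := IsClosedImmersion.spec_of_surjective _ Ideal.Quotient.mk_surjective
  haveI : IsDomain (A ⧸ maximalIdeal A) := Ideal.Quotient.isDomain _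
  haveI : IsReduced (Spec (CommRingCat.of (A ⧸ maximalIdeal A))) := inferInstance
  rw [← BlowExc.ker_SpecMap_mk]
  refine (CanonDual.ker_eq_vanishingIdeal jk ?_).symm
  ext p
  constructor
  · rintro ⟨w, rfl⟩
    show jk w = closedPoint A
    refine PrimeSpectrum.ext ((maximalIdeal.isMaximal A).eq_of_le (jk w).isPrime.ne_top fun r hr => ?_).symm
    show Ideal.Quotient.mk (maximalIdeal A) r ∈ (w : PrimeSpectrum _).asIdeal
    rw [Ideal.Quotient.eq_zero_iff_mem.2 hr]
    exact zero_mem _
  · rintro (hp : p = closedPoint A)
    obtain ⟨w⟩ : Nonempty (PrimeSpectrum (A ⧸ maximalIdeal A)) := inferInstance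
    refine ⟨w, hp ▸ PrimeSpectrum.ext ((maximalIdeal.isMaximal A).eq_of_le (jk w).isPrime.ne_top fun r hr => ?_).symm⟩
    show Ideal.Quotient.mk (maximalIdeal A) r ∈ (w : PrimeSpectrum _).asIdeal
    rw [Ideal.Quotient.eq_zero_iff_mem.2 hr]
    exact zero_mem _

/-- The stalk at the closed point is the ring. -/
theorem stalk_closedPoint :
    IsRegularLocalRing ((Spec (CommRingCat.of A)).presheaf.stalk (closedPoint A)) ∧
      ringKrullDim ((Spec (CommRingCat.of A)).presheaf.stalk (closedPoint A)) = ringKrullDim A := by
  let p : PrimeSpectrum A := closedPoint A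
  have hsub : (p.asIdeal.primeCompl : Submonoid A) ≤ IsUnit.submonoid A := fun x hx =>
    notMem_maximalIdeal.1 hx
  let σ : A ≃+* Localization.AtPrime p.asIdeal := (IsLocalization.atUnits A _ hsub).toRingEquiv
  let e := σ.trans (StructureSheaf.stalkIso A p).toRingEquiv
  exact ⟨IsRegularLocalRing.of_ringEquiv e, (ringKrullDim_eq_of_ringEquiv e).symm⟩

/-- The class of every invertible module on the blow-up of a regular local surface is a power of the exceptional ideal. -/
theorem exists_pow_local {X : Scheme.{u}} (hA : ringKrullDim A = 2) {b : X ⟶ Spec (CommRingCat.of A)}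
    (hb : BlowUp.IsBlowUp b (BlowUpLib.centre (maximalIdeal A))) {L : X.Modules} (hL : PicF.IsInvertible L) :
    open Groth.Agent.H23.PicMul in
    ∃ i j : ℕ, PicF.cl L * PicF.cl (ClSub.idealMod ((BlowUpLib.centre (maximalIdeal A)).comap b)) ^ i =
      PicF.cl (ClSub.idealMod ((BlowUpLib.centre (maximalIdeal A)).comap b)) ^ j := by
  obtain ⟨hreg, hdim⟩ := stalk_closedPoint A
  have hc : IsClosed ({closedPoint A} : Set (Spec (CommRingCat.of A))) := isClosed_singleton_closedPoint A
  have hv := vanishingIdeal_closedPoint A hc
  rw [← hv] at hb ⊢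
  exact exists_pow_global (Y := Spec (CommRingCat.of A)) (closedPoint A) hc (hdim.trans hA) hb
    (fun V hV => top_le_iff.1 fun p _ => (IsLocalRing.specializes_closedPoint p).mem_open V.isOpen hV) hL

end Groth.Agent.ResolveX
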