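import Groth.Agent.ResolveX.Lichtenbaum
import Groth.Agent.ResolveX.ExcTransfer
import Groth.Agent.ResolveX.ContractExc
import Groth.Agent.ArInt.RedFibre
import Groth.Agent.S3327
import Groth.Agent.S1416
import Groth.Agent.AssDimLoci.RkLoci
import Groth.Agent.AssDimLoci.Ring

/-!
# Contractions between regular proper models over a discrete valuation ring
-/

set_option autoImplicit false
set_option linter.style.haveILetI false
set_option linter.unusedSectionVars false
set_option backward.isDefEq.respectTransparency false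
set_option backward.isDefEq.respectTransparency.types false
set_option maxHeartbeats 1000000

universe u

open CategoryTheory CategoryTheory.Limits AlgebraicGeometry TopologicalSpace IsLocalRing

attribute [local instance 2000] CategoryTheory.CategoryStruct.toQuiver

noncomputable section

namespace Groth.Agent.ResolveX

open Groth.Agent

variable {R : Type u} [CommRing R] [IsDomain R] [IsDiscreteValuationRing R]

/-- A proper regular flat surface is an arithmetic surface. -/
theorem isArithSurface_of_isSurf (X : Over (Spec (CommRingCat.of R))) [ArInt.IsSurf X] [Flat X.hom] :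
    ArSurf.IsArithSurface R X := by
  obtain ⟨n, i, hi, hiw⟩ := isProjectiveOver_of_isSurf X
  exact ⟨ArInt.IsSurf.regular, inferInstance, ArInt.IsSurf.dim_eq, inferInstance, n, i, hi, hiw⟩

local notation "jK" => Spec.map (CommRingCat.ofHom (algebraMap R (FractionRing R)))

theorem isClosed_fibre_gen (y : Spec (CommRingCat.of (FractionRing R))) :
    (jK y : PrimeSpectrum R) ≠ IsLocalRing.closedPoint R := fun h => by
  have h0 : (jK y : PrimeSpectrum R).asIdeal = ⊥ := by
    show Ideal.comap (algebraMap R (FractionRing R)) (PrimeSpectrum.asIdeal y) = ⊥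
    rw [(Ideal.eq_bot_or_top (PrimeSpectrum.asIdeal y)).resolve_right (PrimeSpectrum.isPrime _).ne_top,
      ← RingHom.ker_eq_comap_bot, (RingHom.injective_iff_ker_eq_bot _).1
        (IsFractionRing.injective R (FractionRing R))]
  rw [h] at h0
  exact IsDiscreteValuationRing.not_a_field R h0

variable {C X Z : Scheme.{u}} {f : C ⟶ Spec (CommRingCat.of (FractionRing R))} {p : X ⟶ Spec (CommRingCat.of R)}
  {g : C ⟶ X}

/-- The generic fibre lifts along a map which is an isomorphism outside a point of the closed fibre. -/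
theorem exists_generic_lift (hg : IsPullback g f p jK) (b : Z ⟶ X) (y : X) (hy : IsClosed ({y} : Set X))
    (hiso : IsIso (b ∣_ (⟨{y}ᶜ, hy.isOpen_compl⟩ : X.Opens))) (hys : p y = IsLocalRing.closedPoint R) :
    ∃ g' : C ⟶ Z, g' ≫ b = g ∧ IsPullback g' f (b ≫ p) jK := by
  haveI := hiso
  obtain ⟨ψ, hψ⟩ := exists_isPullback_of_range b ⟨{y}ᶜ, hy.isOpen_compl⟩ g (by
    rintro _ ⟨c, rfl⟩ (h : g c = y)
    refine isClosed_fibre_gen (f c) ?_
    rw [← hys, ← h, ← Scheme.Hom.comp_apply, ← hg.w, Scheme.Hom.comp_apply])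
  refine ⟨ψ, by rw [hψ.w, Category.id_comp], ?_⟩
  have h := hψ.paste_vert hg
  rwa [Category.id_comp] at h

/-- The generic fibre descends along a map which is an isomorphism outside a point of the closed fibre. -/
theorem isPullback_descend {g : C ⟶ Z} (b : Z ⟶ X) (hg : IsPullback g f (b ≫ p) jK) (y : X)
    (hy : IsClosed ({y} : Set X))
    (hiso : IsIso (b ∣_ (⟨{y}ᶜ, hy.isOpen_compl⟩ : X.Opens))) (hys : p y = IsLocalRing.closedPoint R) :
    IsPullback (g ≫ b) f p jK := by
  obtain ⟨ψ, hψb, hψ⟩ := exists_generic_lift (IsPullback.of_hasPullback p jK) b y hy hiso hys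
  let e := hg.isoIsPullback _ _ hψ
  have he1 : e.hom ≫ ψ = g := hg.isoIsPullback_hom_fst _ _ hψ
  have he2 : e.hom ≫ pullback.snd p jK = f := hg.isoIsPullback_hom_snd _ _ hψ
  refine IsPullback.of_iso_pullback ⟨by rw [Category.assoc, hg.w]⟩ e ?_ he2
  rw [← he1, Category.assoc, hψb]

/-- The closed fibre of a regular proper model has dimension at most one. -/
theorem dim_specialFibre_le (hC : Curve.IsSmoothProperCurve (FractionRing R) C f)
    (hX : Models.IsRegularProperModel R X p C f) :
    topologicalKrullDim ↥(pullback p (Spec.map (CommRingCat.ofHom (IsLocalRing.residue R)))) ≤ 1 := by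
  obtain ⟨-, g', hgd, hgi, hg'⟩ := ArInt.model_facts hC hX.1
  haveI := hX.2.1
  haveI := hX.1.1
  haveI : IsLocallyNoetherian X := LocallyOfFiniteType.isLocallyNoetherian p
  haveI : IrreducibleSpace ↥(Spec (CommRingCat.of R)) := inferInstance
  have hη : genericPoint ↥(Spec (CommRingCat.of R)) = (⟨⊥, Ideal.isPrime_bot⟩ : PrimeSpectrum R) := by
    refine (genericPoint_spec _).eq ?_
    rw [IsGenericPoint]
    exact Set.eq_univ_of_forall fun t => specializes_iff_mem_closure.1
      ((PrimeSpectrum.le_iff_specializes (⟨⊥, Ideal.isPrime_bot⟩ : PrimeSpectrum R) t).1 bot_le)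
  have hS : Set.univ ⊆ CohB1.support (Coh.structureModule X) := fun x _ => AssDimLoci.mem_support_structureModule x
  have hgen : p ⁻¹' {genericPoint ↥(Spec (CommRingCat.of R))} ∩ CohB1.support (Coh.structureModule X) = Set.range g' := by
    ext z
    rw [hg' z, hη]
    refine ⟨fun h e => ArInt.closedPoint_ne_bot (e.symm.trans h.1), fun h => ⟨?_, hS trivial⟩⟩
    exact (ArInt.spec_cases R (p z)).resolve_left h
  have hle : topologicalKrullDim ↥(p ⁻¹' {IsLocalRing.closedPoint R} ∩ CohB1.support (Coh.structureModule X)) ≤ 1 :=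
    S1416.result p _ QCoh.isCoh_structureModule' (AssDimLoci.isFlatOver_structureModule (f := p)) 1 (by
      rw [hgen, ← IsHomeomorph.topologicalKrullDim_eq _ hgi.isEmbedding.toHomeomorph.isHomeomorph]
      exact hC.2.2.2.le) _
  let jk := Spec.map (CommRingCat.ofHom (IsLocalRing.residue R))
  haveI : IsClosedImmersion jk := IsClosedImmersion.spec_of_surjective _ IsLocalRing.residue_surjective
  let j := pullback.fst p jk
  have hr : Set.range j = p ⁻¹' {IsLocalRing.closedPoint R} ∩ CohB1.support (Coh.structureModule X) := by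
    rw [Scheme.Pullback.range_fst, Set.inter_eq_left.2 ((Set.subset_univ _).trans hS)]
    refine congrArg (p ⁻¹' ·) (Set.ext fun t => ⟨?_, fun ht => ⟨IsLocalRing.closedPoint _, ?_⟩⟩)
    · rintro ⟨w, rfl⟩
      rw [Set.mem_singleton_iff, Subsingleton.elim w (IsLocalRing.closedPoint (IsLocalRing.ResidueField R))]
      exact IsLocalRing.comap_closedPoint (IsLocalRing.residue R)
    · rw [Set.mem_singleton_iff] at ht
      rw [ht]
      exact IsLocalRing.comap_closedPoint (IsLocalRing.residue R)
  rw [IsHomeomorph.topologicalKrullDim_eq _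
    (j.isEmbedding.toHomeomorph.trans (Homeomorph.setCongr hr)).isHomeomorph]
  exact hle

/-- A regular proper model is a regular surface. -/
theorem isSurf_of_model (hC : Curve.IsSmoothProperCurve (FractionRing R) C f)
    (hX : Models.IsRegularProperModel R X p C f) : ArInt.IsSurf (Over.mk p) := by
  obtain ⟨hXi, g', hgd, hgi, hg'⟩ := ArInt.model_facts hC hX.1
  haveI := hXi
  haveI := hX.2.1
  haveI : IsIntegral C := hC.2.2.1
  haveI := ArInt.isRegModel hC hX.1 hX.2.2
  haveI : IsLocallyNoetherian (Over.mk p).left := LocallyOfFiniteType.isLocallyNoetherian p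
  haveI : Flat (Over.mk p).hom := hX.1.1
  refine ⟨inferInstanceAs (IsIntegral X), inferInstanceAs (IsProper p), hX.2.2, ?_⟩
  show topologicalKrullDim X = 2
  rw [show topologicalKrullDim X = Order.krullDim X from Order.krullDim_eq_of_orderIso (irreducibleSetEquivPoints (α := X))]
  let F := Models.specialFibreSet R (Over.mk p)
  have hdown : ∀ {a b : X}, a ≤ b → b ∈ F → a ∈ F := fun {a b} hab hb =>
    Specializes.mem_closed hab (Models.isClosed_specialFibreSet R (Over.mk p)) hb
  let jk := Spec.map (CommRingCat.ofHom (IsLocalRing.residue R))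
  let j := pullback.fst p jk
  haveI : IsClosedImmersion jk := IsClosedImmersion.spec_of_surjective _ IsLocalRing.residue_surjective
  have hmemF : ∀ z ∈ F, z ∈ Set.range j := fun z hz => by
    rw [Scheme.Pullback.range_fst]
    exact ⟨IsLocalRing.closedPoint _, (IsLocalRing.comap_closedPoint (IsLocalRing.residue R)).trans (Eq.symm hz)⟩
  have hchain : ∀ {a b c : X}, a < b → b < c → c ∈ F → False := fun {a b c} hab hbc hc =>
    ArInt.false_of_chain (dim_specialFibre_le hC hX) j j.isEmbedding.isInducing hab hbc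
      (hmemF _ (hdown (hab.trans hbc).le hc)) (hmemF _ (hdown hbc.le hc)) (hmemF _ hc)
  refine le_antisymm (iSup_le fun s => ?_) ?_
  · by_contra hs
    push Not at hs
    have hlen : 3 ≤ s.length := by
      have : (2 : ℕ) < s.length := by exact_mod_cast hs
      omega
    let x : ℕ → X := fun i => s.toFun ⟨min i s.length, by omega⟩
    have h01 : x 0 < x 1 := s.strictMono (Fin.mk_lt_mk.2 (by omega))
    have h12 : x 1 < x 2 := s.strictMono (Fin.mk_lt_mk.2 (by omega))
    have h23 : x 2 < x 3 := s.strictMono (Fin.mk_lt_mk.2 (by omega))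
    by_cases h2F : x 2 ∈ F
    · exact hchain h01 h12 h2F
    have hnF : ∀ {b : X}, x 2 ≤ b → b ∉ F := fun {b} hb h => h2F (hdown hb h)
    by_cases h1F : x 1 ∈ F
    · have hco : Order.coheight (x 1) ≤ 1 :=
        ArInt.coheight_le_one (X := Over.mk p) h1F fun y hy hs => by
          by_contra hne
          exact hchain h01 (ArInt.lt_of_specializes_ne hs hne) hy
      have h3 : (2 : ℕ∞) ≤ Order.coheight (x 1) :=
        Order.length_le_coheight (p := RelSeries.cons ((RelSeries.singleton _ (x 3)).cons (x 2) h23) (x 1) h12)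
          (by simp)
      exact absurd (h3.trans hco) (by norm_num)
    · exact ArInt.false_of_chain hC.2.2.2.le g' hgi h12 h23 ((hg' _).2 h1F) ((hg' _).2 h2F)
        ((hg' _).2 (hnF h23.le))
  · obtain ⟨c₀, hc₀⟩ : ∃ c₀ : C, c₀ ≠ genericPoint C := by
      by_contra h
      push Not at h
      haveI : Subsingleton C := ⟨fun a b => (h a).trans (h b).symm⟩
      have h0 : topologicalKrullDim C ≤ 0 := topologicalKrullDim_zero_of_discreteTopology _
      rw [hC.2.2.2] at h0
      exact absurd h0 (by norm_num)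
    have hP : p (g' c₀) ≠ IsLocalRing.closedPoint R := (hg' _).1 ⟨_, rfl⟩
    obtain ⟨z, hz, hz'⟩ := (IsLocalRing.specializes_closedPoint (p (g' c₀))).mem_closed
      (p.isClosedMap _ (isClosed_closure (s := ({g' c₀} : Set X)))) ⟨_, subset_closure rfl, rfl⟩
    have h1 : z < g' c₀ := ArInt.lt_of_specializes_ne (specializes_iff_mem_closure.2 hz) fun h => hP (h ▸ hz')
    have h2 : g' c₀ < g' (genericPoint C) := by
      refine ArInt.lt_of_specializes_ne (((genericPoint_spec C).specializes (Set.mem_univ c₀)).map g'.continuous)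
        fun h => hc₀ ?_
      exact ((hgi.isEmbedding).injective h).symm
    have h3 : (2 : ℕ∞) ≤ Order.coheight z := by
      rw [show (2 : ℕ∞) = 1 + 1 from rfl]
      exact le_trans (add_le_add (le_trans le_add_self (Order.coheight_add_one_le h2)) le_rfl)
        (Order.coheight_add_one_le h1)
    exact (WithBot.coe_le_coe.2 h3).trans (Order.coheight_le_krullDim z)

/-- A regular proper model is an arithmetic surface. -/
theorem model_surface (hC : Curve.IsSmoothProperCurve (FractionRing R) C f) (hH0 : IsIso f.appTop)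
    (hX : Models.IsRegularProperModel R X p C f) :
    ArInt.IsSurf (Over.mk p) ∧ Flat p ∧
      ∃ (n : ℕ) (Γ : Fin n → ArSurf.VertComp R (Over.mk p)), Models.IsComponentList R (Over.mk p) Γ := by
  haveI := isSurf_of_model hC hX
  haveI : Flat (Over.mk p).hom := hX.1.1
  obtain ⟨n, Γ, hΓ⟩ := ArInt.exists_componentList (X := Over.mk p) (ArInt.isConnected_fibre hC hH0 hX)
  exact ⟨inferInstance, hX.1.1, n, Γ, hΓ⟩

theorem isModel_of_isSurf [hs : ArInt.IsSurf (Over.mk p)] (hflat : Flat p) (hg : IsPullback g f p jK) :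
    Models.IsRegularProperModel R X p C f := by
  haveI : IsProper p := hs.isProper
  exact ⟨⟨hflat, inferInstance, inferInstance, g, hg⟩, inferInstance, hs.regular⟩

/-- A model of a sequence of point blow-ups. -/
theorem exists_lift_seq {W : Scheme.{u}} {r : W ⟶ X} (hr : Models.IsContractionSeq r) :
    ∀ (q : X ⟶ Spec (CommRingCat.of R)) [ArInt.IsSurf (Over.mk q)] [Flat q] (g₀ : C ⟶ X),
      IsPullback g₀ f q jK → ∃ g' : C ⟶ W, g' ≫ r = g₀ ∧ IsPullback g' f (r ≫ q) jK := by
  induction hr with
  | @iso W X e =>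
    intro q _ _ g₀ hg
    refine ⟨g₀ ≫ e.inv, by simp, IsPullback.of_iso hg (Iso.refl _) e.symm (Iso.refl _) (Iso.refl _) ?_ ?_ ?_ ?_⟩ <;>
      simp
  | @step W Z X E ι b r hι hE hb hr ih =>
    intro q hq _ g₀ hg
    obtain ⟨g₁, hg₁r, hg₁⟩ := ih q g₀ hg
    obtain ⟨hZs, hZf⟩ := isSurf_of_seq hr q
    haveI : IsProper (r ≫ q) := hZs.isProper
    obtain ⟨-, hbp, y, hy, -, -, -, hbl⟩ := hb
    obtain ⟨g', hg'b, hg'⟩ := exists_generic_lift hg₁ b y hy (BlowUpLib.isIso_restrict hbl _ fun z hz => by
      show z ∉ ((Scheme.IdealSheafData.vanishingIdeal ⟨{y}, hy⟩).support : Set Z)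
      rw [Scheme.IdealSheafData.coe_support_vanishingIdeal]; exact hz) (hom_closed_point _ hy)
    exact ⟨g', by rw [reassoc_of% hg'b, hg₁r], by rw [Category.assoc]; exact hg'⟩

variable (R) in
/-- The nonclosed points of the closed fibre. -/
def curvePts (p : X ⟶ Spec (CommRingCat.of R)) : Set X :=
  {z | ¬ IsClosed ({z} : Set X) ∧ p z = IsLocalRing.closedPoint R}

theorem finite_curvePts [hs : ArInt.IsSurf (Over.mk p)] (hflat : Flat p) : (curvePts R p).Finite := by
  haveI : Flat (Over.mk p).hom := hflat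
  haveI : IsProper p := hs.isProper
  have hfin := ArInt.finite_vertComp_ranges (X := Over.mk p) hs.dim_eq
  refine Set.Finite.of_finite_image (f := fun z : X => closure ({z} : Set X)) (hfin.subset ?_) fun a _ b _ h => ?_
  · rintro _ ⟨z, ⟨hz, hzs⟩, rfl⟩
    obtain ⟨w, hw, hne⟩ : ∃ w, z ⤳ w ∧ w ≠ z := by
      by_contra hcon
      push Not at hcon
      exact hz (closure_subset_iff_isClosed.1 fun w hw => hcon w (specializes_iff_mem_closure.2 hw))
    obtain ⟨E, hE⟩ := ArInt.exists_vertComp_closure (X := Over.mk p) hs.dim_eq (η := z) hzs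
      (ArInt.lt_of_specializes_ne hw hne.symm)
    exact ⟨E, hE⟩
  · exact (show IsGenericPoint a (closure {a}) from isGenericPoint_closure).eq
      ((show closure ({a} : Set X) = closure {b} from h) ▸ isGenericPoint_closure)

/-- Repeatedly contracting exceptional curves reaches a minimal model. -/
theorem exists_minimal_of_model (hC : Curve.IsSmoothProperCurve (FractionRing R) C f) (hH0 : IsIso f.appTop) :
    ∀ (N : ℕ) (Y : Scheme.{u}) (q : Y ⟶ Spec (CommRingCat.of R)) (gY : C ⟶ Y),
      Models.IsRegularProperModel R Y q C f → IsPullback gY f q jK → (curvePts R q).ncard = N →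
      ∃ (X : Scheme.{u}) (p : X ⟶ Spec (CommRingCat.of R)) (gX : C ⟶ X) (b : Y ⟶ X),
        Models.IsMinimalModel R X p C f ∧ IsPullback gX f p jK ∧ b ≫ p = q ∧ gY ≫ b = gX ∧
          Models.IsContractionSeq b := by
  intro N
  induction N using Nat.strong_induction_on with
  | _ N ih =>
    intro Y q gY hY hgY hN
    by_cases hexc : ∀ Γ : ArSurf.VertComp R (Over.mk q), ¬ Models.IsExcCurve Γ.ι
    · exact ⟨Y, q, gY, 𝟙 Y, ⟨hY, hexc⟩, hgY, Category.id_comp _, Category.comp_id _, Models.IsContractionSeq.iso (Iso.refl Y)⟩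
    push Not at hexc
    obtain ⟨E, hE⟩ := hexc
    obtain ⟨hYs, hYf, -⟩ := model_surface hC hH0 hY
    haveI := hYs
    haveI : Flat (Over.mk q).hom := hYf
    haveI := E.isClosedImmersion
    haveI := E.isIntegral
    obtain ⟨X₁, b, y₁, hy₁, hX₁, hbp, hd₁, hEy, hfib, hiso, hbl⟩ :=
      exists_contraction (Over.mk q) (isArithSurface_of_isSurf (Over.mk q)) E hE
    haveI : ArInt.IsSurf (Over.mk X₁.hom) := ArInt.isSurf_of_isArithSurface hX₁
    haveI : IsProper X₁.hom := ArInt.IsSurf.isProper (X := Over.mk X₁.hom)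
    haveI := hX₁.1 y₁
    haveI := hbp
    haveI : IsLocallyNoetherian X₁.left := LocallyOfFiniteType.isLocallyNoetherian X₁.hom
    haveI : IsNoetherian X₁.left :=
      { toIsLocallyNoetherian := inferInstance
        toCompactSpace := QuasiCompact.compactSpace_of_compactSpace X₁.hom }
    have hw : b.left ≫ X₁.hom = q := Over.w b
    have hg₁ : IsPullback (gY ≫ b.left) f X₁.hom jK :=
      isPullback_descend b.left (by rw [hw]; exact hgY) y₁ hy₁ hiso (hom_closed_point _ hy₁)
    have hmodel := isModel_of_isSurf (p := X₁.hom) hX₁.2.2.2.1 hg₁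
    have hlt : (curvePts R X₁.hom).ncard < N := by
      have hηy : b.left (E.ι (genericPoint E.curve.left)) = y₁ := hEy.subset ⟨_, rfl⟩
      have hη : E.ι (genericPoint E.curve.left) ∈ curvePts R q := by
        refine ⟨fun hc => ?_, ArInt.mem_specialFibre E _⟩
        have h1 := ArInt.closure_gen E
        rw [IsClosed.closure_eq (s := ({E.ι (genericPoint E.curve.left)} : Set Y)) hc] at h1
        haveI : Subsingleton E.curve.left := ⟨fun a c => E.ι.isClosedEmbedding.injective
          ((Set.mem_singleton_iff.1 (h1.ge ⟨a, rfl⟩)).trans (Set.mem_singleton_iff.1 (h1.ge ⟨c, rfl⟩)).symm)⟩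
        have h0 : topologicalKrullDim E.curve.left ≤ 0 := topologicalKrullDim_zero_of_discreteTopology _
        rw [E.dim_eq] at h0
        exact absurd h0 (by norm_num)
      have hfin := finite_curvePts (p := q) hYf
      refine lt_of_le_of_lt ((Set.ncard_le_ncard (t := b.left '' (curvePts R q \ {E.ι (genericPoint E.curve.left)})) ?_
        ((hfin.subset Set.sdiff_subset).image _)).trans (Set.ncard_image_le (hfin.subset Set.sdiff_subset)))
        (hN ▸ Set.ncard_sdiff_singleton_lt_of_mem hη hfin)
      rintro z ⟨hz, hzs⟩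
      obtain ⟨x, rfl⟩ := surjective_point y₁ hy₁ hd₁ hbl z
      refine ⟨x, ⟨⟨fun hc => hz ?_, ?_⟩, ?_⟩, rfl⟩
      · rw [← Set.image_singleton]; exact b.left.isClosedMap _ hc
      · rw [← hw, Scheme.Hom.comp_apply]; exact hzs
      · rintro (rfl : x = E.ι (genericPoint E.curve.left))
        exact hz (hηy.symm ▸ hy₁)
    obtain ⟨X, p, gX, c, hmin, hgX, hcp, hgc, hc⟩ := ih _ hlt X₁.left X₁.hom (gY ≫ b.left) hmodel hg₁ rfl
    refine ⟨X, p, gX, b.left ≫ c, hmin, hgX, by rw [Category.assoc, hcp, hw], by rw [← Category.assoc, hgc],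
      Models.IsContractionSeq.step E.ι b.left c inferInstance hE
        ⟨inferInstance, hbp, y₁, hy₁, hEy, inferInstance, hd₁, hbl⟩ hc⟩

end Groth.Agent.ResolveX
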