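import Mathlib

/-!
# The extension of the maximal ideal of a regular surface ring to a birational factorial extension
-/

set_option autoImplicit false
set_option linter.style.haveILetI false
set_option maxHeartbeats 1000000

universe u

open IsLocalRing

namespace Groth.Agent.ResolveX

variable {B : Type u} [CommRing B] [IsDomain B] [IsLocalRing B]

/-- Coefficients of a vanishing form in coprime elements of the maximal ideal are non-units. -/
theorem coeff_mem_of_eq_zero {x y : B} (hx : x ∈ maximalIdeal B) (hy0 : y ≠ 0) (hy : y ∈ maximalIdeal B)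
    (hcop : IsRelPrime y x) [UniqueFactorizationMonoid B] :
    ∀ (d : ℕ) (c : ℕ → B), ∑ i ∈ Finset.range (d + 1), c i * x ^ i * y ^ (d - i) = 0 →
      ∀ i ≤ d, c i ∈ maximalIdeal B := by
  classical
  intro d
  induction d with
  | zero =>
    intro c h i hi
    obtain rfl : i = 0 := Nat.le_zero.1 hi
    simp only [zero_add, Finset.range_one, Finset.sum_singleton, pow_zero, Nat.sub_zero, mul_one] at h
    rw [h]; exact zero_mem _
  | succ d ih =>
    intro c h
    have hsplit : (∑ i ∈ Finset.range (d + 1), c i * x ^ i * y ^ (d - i)) * y + c (d + 1) * x ^ (d + 1) = 0 := by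
      rw [Finset.sum_range_succ, Nat.sub_self, pow_zero, mul_one] at h
      rw [Finset.sum_mul]
      refine (congrArg (· + _) (Finset.sum_congr rfl fun i hi => ?_)).trans h
      rw [Finset.mem_range] at hi
      rw [mul_assoc, ← pow_succ, show d - i + 1 = d + 1 - i by omega]
    have hdvd : y ∣ c (d + 1) * x ^ (d + 1) := ⟨-∑ i ∈ Finset.range (d + 1), c i * x ^ i * y ^ (d - i), by
      linear_combination hsplit⟩
    obtain ⟨e, he⟩ := (hcop.pow_right : IsRelPrime y (x ^ (d + 1))).dvd_of_dvd_mul_right hdvd
    let c' : ℕ → B := fun i => if i = d then c i + x * e else c i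
    have h' : ∑ i ∈ Finset.range (d + 1), c' i * x ^ i * y ^ (d - i) = 0 := by
      refine (mul_eq_zero.1 (?_ : _ * y = 0)).resolve_right hy0
      rw [Finset.sum_range_succ, Nat.sub_self, pow_zero, mul_one] at hsplit ⊢
      rw [show (∑ i ∈ Finset.range d, c' i * x ^ i * y ^ (d - i)) = ∑ i ∈ Finset.range d, c i * x ^ i * y ^ (d - i) from
        Finset.sum_congr rfl fun i hi => by rw [show c' i = c i from if_neg (Finset.mem_range.1 hi).ne],
        show c' d = c d + x * e from if_pos rfl]
      rw [he] at hsplit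
      linear_combination hsplit
    intro i hi
    rcases Nat.lt_or_eq_of_le hi with hlt | rfl
    · have h1 := ih c' h' i (Nat.lt_succ_iff.1 hlt)
      by_cases hid : i = d
      · rw [show c' i = c i + x * e from if_pos hid] at h1
        have := Ideal.sub_mem _ h1 (Ideal.mul_mem_right e _ hx)
        rwa [add_sub_cancel_right] at this
      · rwa [show c' i = c i from if_neg hid] at h1
    · rw [he]; exact Ideal.mul_mem_right e _ hy

/-- A nonzero element of a local Noetherian ring generated by two elements is a primitive form in them. -/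
theorem exists_primitive_form {A : Type u} [CommRing A] [IsLocalRing A] [IsNoetherianRing A] {t u : A}
    (hm : maximalIdeal A = Ideal.span {t, u}) {a : A} (ha : a ≠ 0) :
    ∃ (d : ℕ) (c : ℕ → A), a = ∑ i ∈ Finset.range (d + 1), c i * t ^ i * u ^ (d - i) ∧
      ∃ i ≤ d, IsUnit (c i) := by
  classical
  obtain ⟨d, hd, hd'⟩ : ∃ d, a ∈ maximalIdeal A ^ d ∧ a ∉ maximalIdeal A ^ (d + 1) := by
    by_contra hcon
    push Not at hcon
    have hall : ∀ n, a ∈ maximalIdeal A ^ n := fun n => by
      induction n with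
      | zero => rw [pow_zero, Ideal.one_eq_top]; trivial
      | succ n ih => exact hcon n ih
    have h0 : a ∈ (⊥ : Ideal A) := by
      rw [← Ideal.iInf_pow_eq_bot_of_isLocalRing (maximalIdeal A) (maximalIdeal.isMaximal A).ne_top]
      exact Ideal.mem_iInf.2 hall
    exact ha (Ideal.mem_bot.1 h0)
  have hform : ∀ (n : ℕ), ∀ b ∈ maximalIdeal A ^ n,
      ∃ c : ℕ → A, b = ∑ i ∈ Finset.range (n + 1), c i * t ^ i * u ^ (n - i) := by
    intro n
    induction n with
    | zero => exact fun b _ => ⟨fun _ => b, by simp⟩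
    | succ n ih =>
      intro b hb
      rw [pow_succ] at hb
      refine Submodule.mul_induction_on hb (fun p hp q hq => ?_) fun p q ⟨c, hc⟩ ⟨c', hc'⟩ => ?_
      · obtain ⟨c, rfl⟩ := ih p hp
        rw [hm, Ideal.mem_span_pair] at hq
        obtain ⟨α, β, rfl⟩ := hq
        refine ⟨fun i => (if i = 0 then 0 else α * c (i - 1)) + (if i ≤ n then β * c i else 0), ?_⟩
        simp only [add_mul, Finset.sum_add_distrib]
        rw [mul_add]
        congr 1
        · rw [Finset.sum_range_succ' _ (n + 1)]
          simp only [if_neg (Nat.succ_ne_zero _), ↓reduceIte, zero_mul, add_zero, Nat.succ_sub_succ, Nat.sub_zero, Finset.sum_mul]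
          exact Finset.sum_congr rfl fun i _ => by rw [pow_succ]; ring
        · rw [Finset.sum_range_succ _ (n + 1), if_neg (by omega), zero_mul, zero_mul, add_zero, Finset.sum_mul]
          refine Finset.sum_congr rfl fun i hi => ?_
          rw [Finset.mem_range] at hi
          rw [if_pos (by omega), show n + 1 - i = n - i + 1 by omega, pow_succ]
          ring
      · exact ⟨fun i => c i + c' i, by rw [hc, hc', ← Finset.sum_add_distrib]; simp only [add_mul]⟩
  obtain ⟨c, hc⟩ := hform d a hd
  refine ⟨d, c, hc, ?_⟩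
  by_contra hcon
  push Not at hcon
  apply hd'
  rw [hc]
  refine Ideal.sum_mem _ fun i hi => ?_
  rw [Finset.mem_range] at hi
  have ht : t ∈ maximalIdeal A := by rw [hm]; exact Ideal.subset_span (by simp)
  have hu : u ∈ maximalIdeal A := by rw [hm]; exact Ideal.subset_span (by simp)
  rw [mul_assoc, pow_succ']
  refine Ideal.mul_mem_mul ((mem_maximalIdeal _).2 (hcon i (by omega))) ?_
  have h1 := Ideal.mul_mem_mul (Ideal.pow_mem_pow ht i) (Ideal.pow_mem_pow hu (d - i))
  rwa [← pow_add, show i + (d - i) = d by omega] at h1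

variable [IsNoetherianRing B] [UniqueFactorizationMonoid B]

/-- The extended maximal ideal is principal, or only the maximal ideal lies over it. -/
theorem principal_or_primary {A : Type u} [CommRing A] [IsLocalRing A] [IsNoetherianRing A] {t u : A}
    (hm : maximalIdeal A = Ideal.span {t, u}) (ht0 : t ≠ 0) (hu0 : u ≠ 0) (φ : A →+* B)
    (hloc : IsLocalHom φ) (hinj : Function.Injective φ) (hB : ringKrullDim B ≤ 2)
    (hbir : ∀ b : B, ∃ a s : A, s ≠ 0 ∧ b * φ s = φ a) :
    (∃ g : B, g ≠ 0 ∧ (maximalIdeal A).map φ = Ideal.span {g}) ∨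
      ((2 : WithBot ℕ∞) ≤ ringKrullDim B ∧
        ∀ P : Ideal B, P.IsPrime → (maximalIdeal A).map φ ≤ P → P = maximalIdeal B) := by
  classical
  haveI := hloc
  have hT : φ t ≠ 0 := fun h => ht0 (hinj (h.trans (map_zero φ).symm))
  obtain ⟨T, U, g, hcop, hgT, hgU⟩ := UniqueFactorizationMonoid.exists_reduced_factors (φ t) hT (φ u)
  have hmap : (maximalIdeal A).map φ = Ideal.span {φ t, φ u} := by
    rw [hm, Ideal.map_span, Set.image_insert_eq, Set.image_singleton]
  by_cases hTU : IsUnit T ∨ IsUnit U
  · left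
    refine ⟨g, fun h => hT (by rw [← hgT, h, zero_mul]), hmap.trans (le_antisymm ?_ ?_)⟩
    · rw [Ideal.span_le]
      rintro _ (rfl | rfl)
      · exact Ideal.mem_span_singleton.2 ⟨T, hgT.symm⟩
      · exact Ideal.mem_span_singleton.2 ⟨U, hgU.symm⟩
    · rw [Ideal.span_singleton_le_iff_mem]
      rcases hTU with hu' | hu'
      · obtain ⟨v, rfl⟩ := hu'
        have : g = φ t * ↑v⁻¹ := by rw [← hgT, Units.mul_inv_cancel_right]
        rw [this]; exact Ideal.mul_mem_right _ _ (Ideal.subset_span (by simp))
      · obtain ⟨v, rfl⟩ := hu'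
        have : g = φ u * ↑v⁻¹ := by rw [← hgU, Units.mul_inv_cancel_right]
        rw [this]; exact Ideal.mul_mem_right _ _ (Ideal.subset_span (by simp))
  right
  push Not at hTU
  have hTm : T ∈ maximalIdeal B := (mem_maximalIdeal _).2 hTU.1
  have hUm : U ∈ maximalIdeal B := (mem_maximalIdeal _).2 hTU.2
  have hT0 : T ≠ 0 := fun h => hT (by rw [← hgT, h, mul_zero])
  have hU0 : U ≠ 0 := fun h => hu0 (hinj (by rw [map_zero, ← hgU, h, mul_zero]))
  have hUT : IsRelPrime U T := (fun d hdU hdT => hcop hdT hdU)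
  -- the common factor is a unit
  have hg : IsUnit g := by
    by_contra hgu
    have hgm : g ∈ maximalIdeal B := (mem_maximalIdeal _).2 hgu
    obtain ⟨a, s, hs, has⟩ := hbir g
    have hg0 : g ≠ 0 := fun h => hT (by rw [← hgT, h, zero_mul])
    have ha : a ≠ 0 := fun h => by
      rw [h, map_zero] at has
      exact (mul_ne_zero hg0 fun h' => hs (hinj (h'.trans (map_zero φ).symm))) has
    have hexp : ∀ {n : ℕ} {c : ℕ → A} {z : A}, z = ∑ i ∈ Finset.range (n + 1), c i * t ^ i * u ^ (n - i) →
        φ z = g ^ n * ∑ i ∈ Finset.range (n + 1), φ (c i) * T ^ i * U ^ (n - i) := fun {n c z} hz => by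
      rw [hz, map_sum, Finset.mul_sum]
      refine Finset.sum_congr rfl fun i hi => ?_
      rw [Finset.mem_range] at hi
      rw [map_mul, map_mul, map_pow, map_pow, ← hgT, ← hgU, mul_pow, mul_pow,
        show g ^ n = g ^ i * g ^ (n - i) by rw [← pow_add]; congr 1; omega]
      ring
    obtain ⟨d, c, hc, i₀, hi₀, hci⟩ := exists_primitive_form hm ha
    obtain ⟨e, c', hc', j₀, hj₀, hcj⟩ := exists_primitive_form hm hs
    rw [hexp hc, hexp hc', ← mul_assoc, ← pow_succ'] at has
    -- a primitive form is not in the ideal of the other times a non-unit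
    have key : ∀ {p q : ℕ} (α β : ℕ → B) (k : B), k ∈ maximalIdeal B → p ≤ q →
        (∑ i ∈ Finset.range (p + 1), α i * T ^ i * U ^ (p - i)) =
          k * ∑ i ∈ Finset.range (q + 1), β i * T ^ i * U ^ (q - i) →
        ∀ i ≤ p, α i ∈ maximalIdeal B := fun {p q} α β k hk hpq heq => by
      obtain ⟨γ, hγ, hγm⟩ : ∃ γ : ℕ → B, k * (∑ i ∈ Finset.range (q + 1), β i * T ^ i * U ^ (q - i)) =
          ∑ i ∈ Finset.range (p + 1), γ i * T ^ i * U ^ (p - i) ∧ ∀ i, γ i ∈ maximalIdeal B := by
        refine ⟨fun i => k * ((if i = p then ∑ j ∈ Finset.Ico p (q + 1), β j * T ^ (j - p) * U ^ (q - j) else β i * U ^ (q - p))),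
          ?_, fun i => Ideal.mul_mem_right _ _ hk⟩
        rw [← Finset.sum_range_add_sum_Ico _ (show p ≤ q + 1 by omega), Finset.sum_range_succ _ p, mul_add]
        congr 1
        · rw [Finset.mul_sum]
          refine Finset.sum_congr rfl fun i hi => ?_
          rw [Finset.mem_range] at hi
          dsimp only
          rw [if_neg hi.ne, show q - i = q - p + (p - i) by omega, pow_add]
          ring
        · dsimp only
          rw [if_pos rfl, Nat.sub_self, pow_zero, mul_one, Finset.mul_sum, Finset.mul_sum, Finset.sum_mul]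
          refine Finset.sum_congr rfl fun j hj => ?_
          rw [Finset.mem_Ico] at hj
          rw [show T ^ j = T ^ (j - p) * T ^ p by rw [← pow_add]; congr 1; omega]
          ring
      rw [hγ] at heq
      intro i hi
      have h0 := coeff_mem_of_eq_zero hTm hU0 hUm hUT p (fun i => α i - γ i) (by
        simp only [sub_mul]; rw [Finset.sum_sub_distrib, heq, sub_self]) i hi
      have := Ideal.add_mem _ h0 (hγm i)
      rwa [sub_add_cancel] at this
    rcases le_or_gt d e with hde | hde
    · have h1 : (∑ i ∈ Finset.range (d + 1), φ (c i) * T ^ i * U ^ (d - i)) =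
          g ^ (e + 1 - d) * ∑ i ∈ Finset.range (e + 1), φ (c' i) * T ^ i * U ^ (e - i) := by
        refine mul_left_cancel₀ (pow_ne_zero d hg0) ?_
        rw [← mul_assoc, ← pow_add, show d + (e + 1 - d) = e + 1 by omega, has]
      exact (mem_maximalIdeal _).1 (key (fun i => φ (c i)) (fun i => φ (c' i)) _ (Ideal.pow_mem_of_mem _ hgm _ (by omega))
        hde h1 i₀ hi₀) (hci.map φ)
    · -- the degree is bigger
      have h1 : (∑ i ∈ Finset.range (e + 1), φ (c' i) * T ^ i * U ^ (e - i)) =
          g ^ (d - (e + 1)) * ∑ i ∈ Finset.range (d + 1), φ (c i) * T ^ i * U ^ (d - i) := by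
        refine mul_left_cancel₀ (pow_ne_zero (e + 1) hg0) ?_
        rw [← mul_assoc, ← pow_add, show e + 1 + (d - (e + 1)) = d by omega, has]
      refine (mem_maximalIdeal _).1 (?_ : φ (c' j₀) ∈ maximalIdeal B) (hcj.map φ)
      -- lower the degree by one
      have h2 : (∑ i ∈ Finset.range (e + 1), φ (c' i) * T ^ i * U ^ (e - i)) =
          U * ∑ i ∈ Finset.range (d - 1 + 1), g ^ (d - (e + 1)) * φ (c i) * T ^ i * U ^ (d - 1 - i) +
            T * (g ^ (d - (e + 1)) * φ (c d) * T ^ (d - 1)) := by
        rw [h1, Finset.sum_range_succ, show d - 1 + 1 = d by omega, mul_add, Finset.mul_sum, Finset.mul_sum,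
          Nat.sub_self, pow_zero]
        congr 1
        · refine Finset.sum_congr rfl fun i hi => ?_
          rw [Finset.mem_range] at hi
          rw [show U ^ (d - i) = U * U ^ (d - 1 - i) by rw [← pow_succ']; congr 1; omega]
          ring
        · rw [show T ^ d = T * T ^ (d - 1) by rw [← pow_succ']; congr 1; omega]
          ring
      -- both pieces are multiples of the form of degree `e` by non-units
      have hγ : ∃ γ : ℕ → B, (∀ i, γ i ∈ maximalIdeal B) ∧
          U * (∑ i ∈ Finset.range (d - 1 + 1), g ^ (d - (e + 1)) * φ (c i) * T ^ i * U ^ (d - 1 - i)) +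
            T * (g ^ (d - (e + 1)) * φ (c d) * T ^ (d - 1)) =
          ∑ i ∈ Finset.range (e + 1), γ i * T ^ i * U ^ (e - i) := by
        refine ⟨fun i => (if i = e then U * ∑ j ∈ Finset.Ico e (d - 1 + 1), g ^ (d - (e + 1)) * φ (c j) * T ^ (j - e) * U ^ (d - 1 - j) +
            T * (g ^ (d - (e + 1)) * φ (c d) * T ^ (d - 1 - e)) else U * (g ^ (d - (e + 1)) * φ (c i) * U ^ (d - 1 - e))),
          fun i => ?_, ?_⟩
        · dsimp only
          split_ifs
          · exact Ideal.add_mem _ (Ideal.mul_mem_right _ _ hUm) (Ideal.mul_mem_right _ _ hTm)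
          · exact Ideal.mul_mem_right _ _ hUm
        · rw [← Finset.sum_range_add_sum_Ico _ (show e ≤ d - 1 + 1 by omega), Finset.sum_range_succ _ e, mul_add, add_assoc]
          congr 1
          · rw [Finset.mul_sum]
            refine Finset.sum_congr rfl fun i hi => ?_
            rw [Finset.mem_range] at hi
            dsimp only
            rw [if_neg hi.ne, show d - 1 - i = d - 1 - e + (e - i) by omega, pow_add]
            ring
          · dsimp only
            rw [if_pos rfl, Nat.sub_self, pow_zero, mul_one, Finset.mul_sum, Finset.mul_sum, add_mul, Finset.sum_mul,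
              show T ^ (d - 1) = T ^ (d - 1 - e) * T ^ e by rw [← pow_add]; congr 1; omega]
            congr 1
            · refine Finset.sum_congr rfl fun j hj => ?_
              rw [Finset.mem_Ico] at hj
              rw [show T ^ j = T ^ (j - e) * T ^ e by rw [← pow_add]; congr 1; omega]
              ring
            · ring
      obtain ⟨γ, hγm, hγ⟩ := hγ
      rw [hγ] at h2
      have h3 := coeff_mem_of_eq_zero hTm hU0 hUm hUT e (fun i => φ (c' i) - γ i) (by
        simp only [sub_mul]; rw [Finset.sum_sub_distrib, h2, sub_self]) j₀ hj₀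
      have := Ideal.add_mem _ h3 (hγm j₀)
      rwa [sub_add_cancel] at this
  -- coprime non-units generate a primary ideal
  have hP2 : ∀ P : Ideal B, P.IsPrime → T ∈ P → U ∈ P → P = maximalIdeal B ∧ (2 : WithBot ℕ∞) ≤ ringKrullDim B := by
    intro P hP hTP hUP
    have hP0 : P ≠ ⊥ := fun h => hT0 (Ideal.mem_bot.1 (h ▸ hTP))
    obtain ⟨π, hπP, hπ⟩ := hP.exists_mem_prime_of_ne_bot hP0
    haveI : (Ideal.span {π}).IsPrime := (Ideal.span_singleton_prime hπ.ne_zero).2 hπ
    have hlt : Ideal.span {π} < P := by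
      refine lt_of_le_of_ne ((Ideal.span_singleton_le_iff_mem _).2 hπP) fun h => hπ.not_unit ?_
      rw [← h] at hTP hUP
      exact hcop (Ideal.mem_span_singleton.1 hTP) (Ideal.mem_span_singleton.1 hUP)
    have hbot : (⊥ : Ideal B) < Ideal.span {π} :=
      bot_lt_iff_ne_bot.2 (by rw [Ne, Ideal.span_singleton_eq_bot]; exact hπ.ne_zero)
    have h1 := Ideal.height_add_one_le_of_lt_of_isPrime hbot
    have h2 := Ideal.height_add_one_le_of_lt_of_isPrime hlt
    have h3 : (2 : ℕ∞) ≤ P.height :=
      le_trans (by rw [show (2 : ℕ∞) = 1 + 1 from rfl]; exact add_le_add (le_add_self.trans h1) le_rfl) h2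
    refine ⟨?_, ?_⟩
    · by_contra hne
      have hlt2 : P < maximalIdeal B := lt_of_le_of_ne (le_maximalIdeal hP.ne_top) hne
      have h4 := Ideal.height_add_one_le_of_lt_of_isPrime hlt2
      have h5 : ((maximalIdeal B).height : WithBot ℕ∞) ≤ 2 := by
        rw [IsLocalRing.maximalIdeal_height_eq_ringKrullDim]; exact hB
      have h6 : (maximalIdeal B).height ≤ 2 := WithBot.coe_le_coe.1 h5
      have h7 : (2 : ℕ∞) + 1 ≤ 2 := (add_le_add h3 le_rfl).trans (h4.trans h6)
      exact absurd h7 (by norm_num)
    · refine le_trans (WithBot.coe_le_coe.2 h3) ?_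
      exact Ideal.height_le_ringKrullDim_of_ne_top hP.ne_top
  refine ⟨(hP2 _ (maximalIdeal.isMaximal B).isPrime hTm hUm).2, fun P hP hle => (hP2 P hP ?_ ?_).1⟩
  · have : φ t ∈ P := hle (hmap ▸ Ideal.subset_span (by simp))
    exact (hP.mem_or_mem (hgT ▸ this)).resolve_left fun h => hP.ne_top (Ideal.eq_top_of_isUnit_mem _ h hg)
  · have : φ u ∈ P := hle (hmap ▸ Ideal.subset_span (by simp))
    exact (hP.mem_or_mem (hgU ▸ this)).resolve_left fun h => hP.ne_top (Ideal.eq_top_of_isUnit_mem _ h hg)

end Groth.Agent.ResolveX
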