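import Mathlib

/-!
# The trace of differentials along a `p`-th root extension in characteristic `p`
-/

noncomputable section

open Polynomial KaehlerDifferential

namespace Groth.Agent.ResolveX

universe u

variable {p : ℕ} [Fact p.Prime] {R : Type u} [CommRing R] {b : R}


theorem derivation_aeval {A B M : Type*} [CommRing A] [CommRing B] [Algebra A B] [AddCommGroup M]
    [Module B M] [Module A M] (d : Derivation A B M) (v : Fin 2 → B) (q : MvPolynomial (Fin 2) ℤ) :
    d (MvPolynomial.aeval v q) = MvPolynomial.aeval v (MvPolynomial.pderiv 0 q) • d (v 0) +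
      MvPolynomial.aeval v (MvPolynomial.pderiv 1 q) • d (v 1) := by
  induction q using MvPolynomial.induction_on with
  | C z => simp
  | add x y hx hy => simp only [map_add, hx, hy, add_smul]; abel
  | mul_X x i hx =>
    rw [map_mul, MvPolynomial.aeval_X, Derivation.leibniz, hx]
    simp only [Derivation.leibniz, map_add, MvPolynomial.pderiv_X, smul_eq_mul, map_mul,
      MvPolynomial.aeval_X, smul_add, smul_smul, add_smul]
    fin_cases i <;> simp [Pi.single_apply, mul_comm] <;> abel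

/-- `(x + y)^(p-1) d(x + y) - x^(p-1) dx - y^(p-1) dy` is exact. -/
theorem exists_exact {A B M : Type*} [CommRing A] [CommRing B] [Algebra A B] [AddCommGroup M]
    [Module B M] [Module A M] (d : Derivation A B M) (x y : B) :
    ∃ q : B, (x + y) ^ (p - 1) • d (x + y) = x ^ (p - 1) • d x + y ^ (p - 1) • d y + d q := by
  have hp : p.Prime := Fact.out
  obtain ⟨q, hq⟩ := exists_add_pow_prime_eq hp
    (MvPolynomial.X 0 : MvPolynomial (Fin 2) ℤ) (MvPolynomial.X 1)
  let e := (q * MvPolynomial.X 0 * MvPolynomial.X 1 : MvPolynomial (Fin 2) ℤ)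
  have he : (MvPolynomial.X 0 + MvPolynomial.X 1) ^ p =
      MvPolynomial.X 0 ^ p + MvPolynomial.X 1 ^ p + (p : MvPolynomial (Fin 2) ℤ) * e := by
    rw [hq]; ring
  have key : ∀ i : Fin 2, (MvPolynomial.X 0 + MvPolynomial.X 1) ^ (p - 1) =
      MvPolynomial.X i ^ (p - 1) + MvPolynomial.pderiv i e := by
    intro i
    have h := congrArg (MvPolynomial.pderiv i) he
    have hp0 : (p : MvPolynomial (Fin 2) ℤ) ≠ 0 := by exact_mod_cast hp.ne_zero
    refine mul_left_cancel₀ hp0 ?_
    rw [mul_add]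
    fin_cases i <;>
      · simp [Derivation.leibniz_pow, MvPolynomial.pderiv_X, Pi.single_apply] at h ⊢
        linear_combination h
  refine ⟨MvPolynomial.aeval ![x, y] e, ?_⟩
  have k0 := congrArg (MvPolynomial.aeval ![x, y]) (key 0)
  have k1 := congrArg (MvPolynomial.aeval ![x, y]) (key 1)
  simp only [map_add, map_pow, MvPolynomial.aeval_X, Matrix.cons_val_zero, Matrix.cons_val_one]
    at k0 k1
  rw [derivation_aeval, map_add]
  simp only [Matrix.cons_val_zero, Matrix.cons_val_one]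
  conv_lhs => rw [smul_add]
  conv_lhs => arg 1; rw [k0]
  conv_lhs => arg 2; rw [k1]
  rw [add_smul, add_smul]
  abel

variable [CharP R p] (T : Ω[(AdjoinRoot (X ^ p - C b : R[X]))⁄R] →ₗ[R] Ω[R⁄ℤ])


theorem root_pow_p : (AdjoinRoot.root (X ^ p - C b : R[X])) ^ p = algebraMap R (AdjoinRoot (X ^ p - C b : R[X])) b := by
  have h := AdjoinRoot.eval₂_root (X ^ p - C b : R[X])
  simp only [eval₂_sub, eval₂_X_pow, eval₂_C] at h
  exact sub_eq_zero.mp h

/-- The hypotheses characterising the trace. -/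
structure IsTrace : Prop where
  low : ∀ i : ℕ, i + 2 ≤ p → T ((AdjoinRoot.root (X ^ p - C b : R[X])) ^ i • D R (AdjoinRoot (X ^ p - C b : R[X])) (AdjoinRoot.root (X ^ p - C b : R[X]))) = 0
  top : T ((AdjoinRoot.root (X ^ p - C b : R[X])) ^ (p - 1) • D R (AdjoinRoot (X ^ p - C b : R[X])) (AdjoinRoot.root (X ^ p - C b : R[X]))) = D ℤ R b

variable {T}

theorem IsTrace.apply_pow (h : IsTrace T) (j : ℕ) :
    T ((AdjoinRoot.root (X ^ p - C b : R[X])) ^ j • D R (AdjoinRoot (X ^ p - C b : R[X])) (AdjoinRoot.root (X ^ p - C b : R[X]))) = if p ∣ j + 1 then b ^ (j / p) • D ℤ R b else 0 := by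
  have hp : p.Prime := Fact.out
  have h0 : T ((AdjoinRoot.root (X ^ p - C b : R[X])) ^ (j % p) • D R (AdjoinRoot (X ^ p - C b : R[X])) (AdjoinRoot.root (X ^ p - C b : R[X]))) = if p ∣ j + 1 then D ℤ R b else 0 := by
    have hlt := Nat.mod_lt j hp.pos
    by_cases hj : j % p = p - 1
    · rw [hj, h.top, if_pos]
      rw [Nat.dvd_iff_mod_eq_zero, Nat.add_mod, hj, Nat.one_mod_eq_one.mpr hp.ne_one,
        Nat.sub_add_cancel hp.one_le, Nat.mod_self]
    · rw [h.low _ (by omega), if_neg]
      rw [Nat.dvd_iff_mod_eq_zero, Nat.add_mod, Nat.one_mod_eq_one.mpr hp.ne_one,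
        Nat.mod_eq_of_lt (by omega)]
      omega
  have hy : (AdjoinRoot.root (X ^ p - C b : R[X])) ^ j = algebraMap R (AdjoinRoot (X ^ p - C b : R[X])) (b ^ (j / p)) * (AdjoinRoot.root (X ^ p - C b : R[X])) ^ (j % p) := by
    rw [map_pow, ← root_pow_p, ← pow_mul, ← pow_add, Nat.div_add_mod]
  rw [hy, mul_smul, algebraMap_smul, map_smul, h0]
  split_ifs <;> simp

theorem mk_eq_sum (P : R[X]) :
    (AdjoinRoot.mk (X ^ p - C b) P : (AdjoinRoot (X ^ p - C b : R[X]))) = ∑ i ∈ P.support, P.coeff i • (AdjoinRoot.root (X ^ p - C b : R[X])) ^ i := by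
  conv_lhs => rw [P.as_sum_support]
  rw [map_sum]
  refine Finset.sum_congr rfl fun i _ => ?_
  rw [← C_mul_X_pow_eq_monomial, map_mul, map_pow, AdjoinRoot.mk_C, AdjoinRoot.mk_X, Algebra.smul_def]
  rfl

theorem IsTrace.apply_D (h : IsTrace T) (z : (AdjoinRoot (X ^ p - C b : R[X]))) : T (D R (AdjoinRoot (X ^ p - C b : R[X])) z) = 0 := by
  induction z using AdjoinRoot.induction_on with
  | ih P =>
    rw [mk_eq_sum, map_sum, map_sum]
    refine Finset.sum_eq_zero fun i _ => ?_
    rw [Derivation.map_smul, map_smul, Derivation.leibniz_pow, map_nsmul]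
    rcases Nat.eq_zero_or_pos i with rfl | hi
    · simp
    rw [h.apply_pow, Nat.sub_add_cancel hi]
    split_ifs with hd
    · rw [← Nat.cast_smul_eq_nsmul R, (CharP.cast_eq_zero_iff R p i).mpr hd, zero_smul, smul_zero]
    · simp

theorem IsTrace.apply_pow_smul_D (h : IsTrace T) (z : (AdjoinRoot (X ^ p - C b : R[X]))) {i : ℕ} (hi : i + 2 ≤ p) :
    T (z ^ i • D R (AdjoinRoot (X ^ p - C b : R[X])) z) = 0 := by
  have h1 := h.apply_D (z ^ (i + 1))
  rw [Derivation.leibniz_pow, Nat.add_sub_cancel, map_nsmul, ← Nat.cast_smul_eq_nsmul R] at h1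
  have hu : IsUnit ((i + 1 : ℕ) : R) :=
    (CharP.isUnit_natCast_iff Fact.out).mpr fun hd => by
      have := Nat.le_of_dvd (by omega) hd; omega
  exact hu.smul_eq_zero.mp h1

omit [Fact p.Prime] [CharP R p] in
theorem algebraMap_injective (hp : 0 < p) : Function.Injective (algebraMap R (AdjoinRoot (X ^ p - C b : R[X]))) := by
  rw [injective_iff_map_eq_zero]
  intro r hr
  rcases subsingleton_or_nontrivial R with hR | hR
  · exact Subsingleton.elim _ _
  by_contra hr0
  rw [AdjoinRoot.algebraMap_eq, ← AdjoinRoot.mk_C, AdjoinRoot.mk_eq_zero] at hr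
  refine (monic_X_pow_sub_C b hp.ne').not_dvd_of_degree_lt (C_ne_zero.mpr hr0) ?_ hr
  rw [degree_C hr0, degree_X_pow_sub_C hp]
  exact_mod_cast hp

/-- `T(z^(p-1) dz) = d(z^p)`. -/
theorem IsTrace.apply_top (h : IsTrace T) (z : (AdjoinRoot (X ^ p - C b : R[X]))) (r : R) (hr : algebraMap R (AdjoinRoot (X ^ p - C b : R[X])) r = z ^ p) :
    T (z ^ (p - 1) • D R (AdjoinRoot (X ^ p - C b : R[X])) z) = D ℤ R r := by
  have hp : p.Prime := Fact.out
  have hinj := algebraMap_injective (p := p) (b := b) hp.pos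
  have : Nontrivial R := CharP.nontrivial_of_char_ne_one hp.ne_one
  have : Nontrivial (AdjoinRoot (X ^ p - C b : R[X])) := hinj.nontrivial
  have : CharP (AdjoinRoot (X ^ p - C b : R[X])) p := charP_of_injective_algebraMap hinj p
  have main : ∀ P : R[X], ∃ r, algebraMap R (AdjoinRoot (X ^ p - C b : R[X])) r = (AdjoinRoot.mk _ P) ^ p ∧
      T ((AdjoinRoot.mk (X ^ p - C b) P : (AdjoinRoot (X ^ p - C b : R[X]))) ^ (p - 1) • D R (AdjoinRoot (X ^ p - C b : R[X])) (AdjoinRoot.mk _ P)) = D ℤ R r := by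
    intro P
    induction P using Polynomial.induction_on' with
    | add P Q hP hQ =>
      obtain ⟨⟨r₁, hr₁, h₁⟩, r₂, hr₂, h₂⟩ := hP, hQ
      refine ⟨r₁ + r₂, by rw [map_add, map_add, add_pow_char, hr₁, hr₂], ?_⟩
      obtain ⟨q, hq⟩ := exists_exact (p := p) (D R (AdjoinRoot (X ^ p - C b : R[X]))) (AdjoinRoot.mk (X ^ p - C b) P)
        (AdjoinRoot.mk (X ^ p - C b) Q)
      rw [map_add (AdjoinRoot.mk _), hq, map_add T, map_add T, h₁, h₂, h.apply_D, add_zero,
        map_add]
    | monomial j c =>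
      refine ⟨c ^ p * b ^ j, ?_, ?_⟩
      · rw [← C_mul_X_pow_eq_monomial, map_mul, map_mul, map_pow (AdjoinRoot.mk _), AdjoinRoot.mk_C,
          AdjoinRoot.mk_X, mul_pow, map_pow, map_pow, ← root_pow_p, ← pow_mul, ← pow_mul, mul_comm j]
        rfl
      · have hm : (AdjoinRoot.mk (X ^ p - C b) (monomial j c) : (AdjoinRoot (X ^ p - C b : R[X]))) = c • (AdjoinRoot.root (X ^ p - C b : R[X])) ^ j := by
          rw [← C_mul_X_pow_eq_monomial, map_mul, map_pow, AdjoinRoot.mk_C, AdjoinRoot.mk_X,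
            Algebra.smul_def]
          rfl
        have hL : (c • (AdjoinRoot.root (X ^ p - C b : R[X])) ^ j) ^ (p - 1) • D R (AdjoinRoot (X ^ p - C b : R[X])) (c • (AdjoinRoot.root (X ^ p - C b : R[X])) ^ j) =
            (c ^ p * (j : R)) • ((AdjoinRoot.root (X ^ p - C b : R[X])) ^ (j * (p - 1) + (j - 1)) • D R (AdjoinRoot (X ^ p - C b : R[X])) (AdjoinRoot.root (X ^ p - C b : R[X]))) := by
          rw [Derivation.map_smul, Derivation.leibniz_pow, _root_.smul_pow, ← pow_mul]
          rw [smul_assoc, smul_comm ((AdjoinRoot.root (X ^ p - C b : R[X])) ^ (j * (p - 1))) c,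
            smul_comm ((AdjoinRoot.root (X ^ p - C b : R[X])) ^ (j * (p - 1))) j,
            smul_smul ((AdjoinRoot.root (X ^ p - C b : R[X])) ^ (j * (p - 1))), ← pow_add,
            ← Nat.cast_smul_eq_nsmul R j, smul_smul, smul_smul, ← pow_succ,
            Nat.sub_add_cancel hp.one_le]
        rw [hm, hL, map_smul, Derivation.leibniz, Derivation.leibniz_pow, Derivation.leibniz_pow]
        have hp0 : ∀ m : Ω[R⁄ℤ], p • m = 0 := fun m => by
          rw [← Nat.cast_smul_eq_nsmul R, CharP.cast_eq_zero, zero_smul]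
        rw [hp0, smul_zero, add_zero]
        rcases Nat.eq_zero_or_pos j with rfl | hj
        · simp
        have e : j * (p - 1) + (j - 1) + 1 = p * j := by
          obtain ⟨a, rfl⟩ : ∃ a, p = a + 1 := ⟨p - 1, by have := hp.one_le; omega⟩
          rw [Nat.add_sub_cancel, add_assoc, Nat.sub_add_cancel hj]
          ring
        rw [h.apply_pow, if_pos ⟨j, e⟩]
        have e' : (j * (p - 1) + (j - 1)) / p = j - 1 := by
          refine Nat.div_eq_of_lt_le ?_ ?_
          · have : (j - 1) * p + p = p * j := by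
              rw [← Nat.succ_mul, Nat.succ_eq_add_one, Nat.sub_add_cancel hj, mul_comm]
            have := hp.one_le; omega
          · rw [Nat.sub_add_cancel hj, mul_comm j p]; omega
        rw [e', smul_smul, ← Nat.cast_smul_eq_nsmul R, smul_smul, smul_smul]
        try (congr 1; ring)
  induction z using AdjoinRoot.induction_on with
  | ih P =>
    obtain ⟨r', hr', h'⟩ := main P
    rw [h', hinj (hr'.trans hr.symm)]

end Groth.Agent.ResolveX
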