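import Groth.Agent.ResolveX.FactorBlow
import Groth.Agent.S8857
import Groth.Agent.ArInt.StalkIdeals

/-!
# Ideal sheaves making finitely many rational functions comparable
-/

set_option autoImplicit false
set_option linter.style.haveILetI false
set_option linter.unusedSectionVars false
set_option backward.isDefEq.respectTransparency false
set_option backward.isDefEq.respectTransparency.types false
set_option maxHeartbeats 1000000

universe u

open CategoryTheory CategoryTheory.Limits AlgebraicGeometry TopologicalSpace IsLocalRing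

attribute [local instance 2000] CategoryTheory.CategoryStruct.toQuiver

noncomputable section

namespace Groth.Agent.ResolveX

open Groth.Agent

/-- An ideal of an affine open extends to an ideal sheaf. -/
theorem exists_extend_ideal {X : Scheme.{u}} [IsNoetherian X] {U : X.Opens} (hU : IsAffineOpen U) (I : Ideal Γ(X, U)) :
    ∃ J : X.IdealSheafData, ∀ (q : X) (hq : q ∈ U), Div21Lib.stI J q = I.map (X.presheaf.germ U q hq).hom := by
  haveI : IsAffine (U : Scheme.{u}) := hU
  let I₀ : (U : Scheme.{u}).IdealSheafData := Scheme.IdealSheafData.ofIdealTop (I.map U.topIso.inv.hom)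
  haveI : IsNoetherianRing Γ(X, U) := IsLocallyNoetherian.component_noetherian ⟨U, hU⟩
  haveI : IsLocallyNoetherian (U : Scheme.{u}) := LocallyOfFiniteType.isLocallyNoetherian U.ι
  have h₀ : BlowUp.IsAdmissibleFor (U.ι ⁻¹ᵁ (⊥ : X.Opens)) I₀ := by
    refine ⟨fun W => ?_, ?_⟩
    · haveI := IsLocallyNoetherian.component_noetherian W
      exact IsNoetherian.noetherian _
    · exact Set.disjoint_left.2 fun w _ hw => hw.elim
  obtain ⟨J, -, hJ, -⟩ := S8857.result X ⊥ U (by simp) hU.isCompact I₀ h₀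
  refine ⟨J, fun q hq => ?_⟩
  let w : (U : Scheme.{u}) := ⟨q, hq⟩
  have h := Div21Lib.stI_comap J U.ι w
  rw [hJ, Div21Lib.stI_eq I₀ ⟨⊤, isAffineOpen_top _⟩ (show w ∈ (⊤ : (U : Scheme.{u}).Opens) from trivial)] at h
  have htop : I₀.ideal ⟨⊤, isAffineOpen_top _⟩ = I.map U.topIso.inv.hom := by
    rw [Scheme.IdealSheafData.ofIdealTop_ideal, show (homOfLE (le_top : (⊤ : (U : Scheme.{u}).Opens) ≤ ⊤)).op = 𝟙 _ from rfl,
      CategoryTheory.Functor.map_id, CommRingCat.hom_id, Ideal.map_id]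
  rw [htop, Ideal.map_map] at h
  have hbij : Function.Bijective (U.ι.stalkMap w).hom :=
    (ConcreteCategory.isIso_iff_bijective _).1 inferInstance
  have hcomm : ((U : Scheme.{u}).presheaf.germ ⊤ w trivial).hom.comp U.topIso.inv.hom =
      (U.ι.stalkMap w).hom.comp (X.presheaf.germ U q hq).hom := by
    rw [← CommRingCat.hom_comp, ← CommRingCat.hom_comp]
    congr 1
    rw [← cancel_epi U.topIso.hom, Iso.hom_inv_id_assoc]
    refine (Eq.trans ?_ (congrArg _ (Scheme.Hom.germ_stalkMap U.ι U w hq).symm))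
    rw [Scheme.Opens.ι_app, Scheme.Opens.topIso_hom, ← Category.assoc, ← Functor.map_comp]
    exact ((U : Scheme.{u}).presheaf.germ_res (homOfLE le_top : U.ι ⁻¹ᵁ U ⟶ ⊤) w hq).symm
  rw [hcomm, ← Ideal.map_map] at h
  have key : ∀ K : Ideal (X.presheaf.stalk q), (K.map (U.ι.stalkMap w).hom).comap (U.ι.stalkMap w).hom = K :=
    fun K => Ideal.comap_map_of_bijective _ hbij
  have h' : (Div21Lib.stI J q).map (U.ι.stalkMap w).hom = (I.map (X.presheaf.germ U q hq).hom).map (U.ι.stalkMap w).hom :=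
    h.symm
  rw [← key (Div21Lib.stI J q), h', key]

/-- Factors of an invertible product in a local domain are principal. -/
theorem exists_eq_span_of_mul {A : Type u} [CommRing A] [IsDomain A] [IsLocalRing A] {I J : Ideal A} {g : A}
    (hg : g ≠ 0) (h : I * J = Ideal.span {g}) : ∃ i ∈ I, I = Ideal.span {i} ∧ i ≠ 0 := by
  have hmem : g ∈ I * J := h ▸ Ideal.mem_span_singleton_self g
  obtain ⟨i, hi, j, hj, r, hr, hru⟩ : ∃ i ∈ I, ∃ j ∈ J, ∃ r, i * j = r * g ∧ IsUnit r := by
    by_contra hcon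
    push Not at hcon
    have hall : I * J ≤ maximalIdeal A * Ideal.span {g} := Ideal.mul_le.2 fun i hi j hj => by
      obtain ⟨r, hr⟩ := Ideal.mem_span_singleton'.1 (h ▸ Ideal.mul_mem_mul hi hj : i * j ∈ Ideal.span {g})
      exact hr ▸ Ideal.mul_mem_mul ((mem_maximalIdeal _).2 (hcon i hi j hj r hr.symm)) (Ideal.mem_span_singleton_self g)
    obtain ⟨m, hm, hmg⟩ := Ideal.mem_mul_span_singleton.1 (hall hmem)
    refine (maximalIdeal.isMaximal A).ne_top ((Ideal.eq_top_iff_one _).2 ?_)
    rwa [mul_eq_right₀ hg |>.1 hmg] at hm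
  refine ⟨i, hi, le_antisymm (fun v hv => ?_) ((Ideal.span_singleton_le_iff_mem _).2 hi), fun h0 => ?_⟩
  · obtain ⟨e, he⟩ := Ideal.mem_span_singleton'.1 (h ▸ Ideal.mul_mem_mul hv hj : v * j ∈ Ideal.span {g})
    obtain ⟨u, rfl⟩ := hru
    refine Ideal.mem_span_singleton'.2 ⟨e * ↑u⁻¹, mul_right_cancel₀ hg ?_⟩
    have h1 : e * g * i = v * (↑u * g) := by rw [he, ← hr]; ring
    linear_combination (↑u⁻¹ : A) * h1 + v * g * u.inv_mul
  · rw [h0, zero_mul] at hr
    exact mul_ne_zero hru.ne_zero hg hr.symm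

/-- An invertible ideal generated by two elements is generated by one of them. -/
theorem dvd_or_dvd_of_span_pair {A : Type u} [CommRing A] [IsDomain A] [IsLocalRing A] {a b i : A} (hi : i ≠ 0)
    (h : Ideal.span {a, b} = Ideal.span {i}) : b ∣ a ∨ a ∣ b := by
  obtain ⟨α, rfl⟩ := Ideal.mem_span_singleton.1 (h ▸ Ideal.subset_span (by simp) : a ∈ Ideal.span {i})
  obtain ⟨β, rfl⟩ := Ideal.mem_span_singleton.1 (h ▸ Ideal.subset_span (by simp) : b ∈ Ideal.span {i})
  obtain ⟨x, y, hxy⟩ := Ideal.mem_span_pair.1 (h.symm ▸ Ideal.mem_span_singleton_self i : i ∈ Ideal.span {i * α, i * β})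
  have h1 : x * α + y * β = 1 := mul_left_cancel₀ hi (by rw [mul_one]; linear_combination hxy)
  rcases IsLocalRing.isUnit_or_isUnit_of_isUnit_add (h1 ▸ isUnit_one : IsUnit (x * α + y * β)) with hu | hu
  · exact Or.inr (mul_dvd_mul_left i (isUnit_of_mul_isUnit_right hu).dvd)
  · exact Or.inl (mul_dvd_mul_left i (isUnit_of_mul_isUnit_right hu).dvd)

/-- One nonzero ideal sheaf whose principalisation compares each of finitely many pairs of functions. -/
theorem exists_ratio_ideal {X : Scheme.{u}} [IsIntegral X] [IsNoetherian X] {ι : Type u} (s : Finset ι)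
    (U : ι → X.affineOpens) (a b : ∀ i, Γ(X, (U i).1)) (hb : ∀ i, b i ≠ 0) :
    ∃ J : X.IdealSheafData, J ≠ ⊥ ∧ ∀ {X' : Scheme.{u}} [IsIntegral X'] (g : X' ⟶ X),
      BlowUp.IsEffCartierIdeal (J.comap g) → ∀ (p : X') (i : ι) (_ : i ∈ s) (hp : g p ∈ (U i).1),
        (g.stalkMap p).hom (X.presheaf.germ (U i).1 (g p) hp (b i)) ∣ (g.stalkMap p).hom (X.presheaf.germ (U i).1 (g p) hp (a i)) ∨
        (g.stalkMap p).hom (X.presheaf.germ (U i).1 (g p) hp (a i)) ∣ (g.stalkMap p).hom (X.presheaf.germ (U i).1 (g p) hp (b i)) := by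
  classical
  choose J hJ using fun i => exists_extend_ideal (U i).2 (Ideal.span {a i, b i})
  have hne : ∀ i, Nonempty (U i).1 := fun i => by
    by_contra h
    refine hb i ?_
    haveI : Subsingleton Γ(X, (U i).1) := by
      have : (U i).1 = ⊥ := le_bot_iff.1 fun v hv => (h ⟨⟨v, hv⟩⟩).elim
      rw [this]; infer_instance
    exact Subsingleton.elim _ _
  refine ⟨∏ i ∈ s, J i, fun h => ?_, fun {X'} _ g hg p i hi hp => ?_⟩
  · have hη : ∀ i, genericPoint X ∈ (U i).1 := fun i => by
      obtain ⟨v, hv⟩ := hne i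
      exact ((genericPoint_spec X).specializes (Set.mem_univ v)).mem_open (U i).1.2 hv
    have h1 : ∏ i ∈ s, Div21Lib.stI (J i) (genericPoint X) = Div21Lib.stI (⊥ : X.IdealSheafData) (genericPoint X) := by
      rw [← h, ArInt.stI_prod]
    obtain ⟨W, hW, hxW, -⟩ := exists_isAffineOpen_mem_and_subset (x := genericPoint X) (U := ⊤) trivial
    rw [Div21Lib.stI_eq ⊥ ⟨W, hW⟩ hxW, Scheme.IdealSheafData.ideal_bot, Pi.bot_apply, Ideal.map_bot, ← Ideal.zero_eq_bot,
      Finset.prod_eq_zero_iff] at h1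
    obtain ⟨i, -, hi⟩ := h1
    rw [hJ i _ (hη i), Ideal.zero_eq_bot, Ideal.map_span, Set.image_insert_eq, Set.image_singleton] at hi
    have hb0 : X.presheaf.germ (U i).1 (genericPoint X) (hη i) (b i) = 0 :=
      Ideal.mem_bot.1 (hi ▸ Ideal.subset_span (by simp))
    exact hb i (germ_injective_of_isIntegral X _ (hη i) (hb0.trans (map_zero _).symm))
  · obtain ⟨t, ht⟩ := Div21Lib.exists_stI_generator hg p
    rw [Div21Lib.stI_comap, ArInt.stI_prod, ← Finset.mul_prod_erase s _ hi, Ideal.map_mul] at ht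
    obtain ⟨ht0, ht⟩ := ht
    obtain ⟨e, -, he, he0⟩ := exists_eq_span_of_mul (nonZeroDivisors.ne_zero ht0) ht
    rw [hJ i _ hp, Ideal.map_span, Set.image_insert_eq, Set.image_singleton, Ideal.map_span, Set.image_insert_eq,
      Set.image_singleton] at he
    exact dvd_or_dvd_of_span_pair he0 he

end Groth.Agent.ResolveX
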