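import Groth.Agent.BlowUpLib.Glue
import Groth.Agent.BlowExc.Nonsingular
import Groth.Agent.ResolveX.MVOne
import Groth.Prelude.Def_CurvBase

/-!
# Blowing up a two-dimensional regular local ring in its maximal ideal
-/

set_option linter.style.haveILetI false
set_option backward.isDefEq.respectTransparency false
set_option backward.isDefEq.respectTransparency.types false

universe u

open CategoryTheory CategoryTheory.Limits AlgebraicGeometry TopologicalSpace Opposite

namespace Groth.Agent.ResolveX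

open BlowUpLib

/-- Monomials in `t` and its inverse split. -/
theorem exists_split {A B R : Type u} [CommRing A] [CommRing B] [CommRing R] [Algebra A B]
    (f : B →+* R) (G : Subring R) (hG : ∀ c : A, f (algebraMap A B c) ∈ G)
    (t : B) (w : R) (hw : w ∈ G) (htw : f t * w = 1)
    (hB : ∀ m : B, m ∈ Algebra.adjoin A ({t} : Set B))
    (m : B) (n : ℕ) : ∃ b : B, ∃ g ∈ G, f m * w ^ n = f b + g := by
  suffices h : ∀ p : Polynomial A, ∀ n : ℕ, ∃ b : B, ∃ g ∈ G, f (Polynomial.aeval t p) * w ^ n = f b + g by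
    obtain ⟨p, rfl⟩ := (Algebra.adjoin_singleton_eq_range_aeval A t).le (hB m)
    exact h p n
  intro p
  induction p using Polynomial.induction_on' with
  | add p q hp hq =>
    intro n
    obtain ⟨b, g, hg, h⟩ := hp n
    obtain ⟨b', g', hg', h'⟩ := hq n
    exact ⟨b + b', g + g', add_mem hg hg', by rw [map_add, map_add, add_mul, h, h', map_add]; abel⟩
  | monomial i c =>
    intro n
    rw [Polynomial.aeval_monomial, map_mul, map_pow]
    rcases le_total n i with hni | hin
    · refine ⟨algebraMap A B c * t ^ (i - n), 0, zero_mem G, ?_⟩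
      obtain ⟨d, rfl⟩ := Nat.exists_eq_add_of_le hni
      rw [add_zero, map_mul, map_pow, Nat.add_sub_cancel_left, pow_add, mul_assoc,
        mul_comm (f t ^ n) (f t ^ d), mul_assoc, ← mul_pow, htw, one_pow, mul_one]
    · obtain ⟨d, rfl⟩ := Nat.exists_eq_add_of_le hin
      refine ⟨0, f (algebraMap A B c) * w ^ d, mul_mem (hG c) (pow_mem hw d), ?_⟩
      rw [map_zero, zero_add, pow_add, mul_assoc, ← mul_assoc (f t ^ i), ← mul_pow, htw, one_pow, one_mul]

variable {A : Type u} [CommRing A] [IsDomain A] {I : Ideal A}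

omit [IsDomain A] in
theorem adjoin_frac_eq (x y : I) (hI : I ≤ Ideal.span {(x : A), (y : A)})
    (m : BlowUp.affineAlgebra A I (y : A)) :
    m ∈ Algebra.adjoin A ({frac I x y} : Set (BlowUp.affineAlgebra A I (y : A))) := by
  obtain ⟨q, hq⟩ := m
  have hq' := hq
  change q ∈ Algebra.adjoin _ _ at hq'
  suffices q ∈ (Algebra.adjoin A ({frac I x y} : Set (BlowUp.affineAlgebra A I (y : A)))).map
      (BlowUp.affineAlgebra A I (y : A)).val by
    obtain ⟨z, hz, rfl⟩ := this
    exact hz
  refine Algebra.adjoin_le ?_ hq'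
  rintro _ ⟨z, hz, rfl⟩
  obtain ⟨c, d, hcd⟩ := Ideal.mem_span_pair.1 (hI hz)
  refine ⟨algebraMap A _ c * frac I x y + algebraMap A _ d,
    add_mem (mul_mem (Subalgebra.algebraMap_mem _ c) (Algebra.subset_adjoin rfl))
      (Subalgebra.algebraMap_mem _ d), ?_⟩
  symm
  show IsLocalization.mk' (Localization.Away (y : A)) z _ =
    algebraMap A _ c * IsLocalization.mk' (Localization.Away (y : A)) (x : A) _ + algebraMap A _ d
  rw [IsLocalization.mk'_eq_iff_eq_mul, add_mul, mul_assoc, IsLocalization.mk'_spec, ← map_mul, ← map_mul,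
    ← map_add, hcd]

variable (I)

/-- Sections over a chart. -/
noncomputable def chartRing (a : I) :
    CommRingCat.of (BlowUp.affineAlgebra A I (a : A)) ⟶ Γ(localBlowUp I, chart I a ''ᵁ ⊤) :=
  (Scheme.ΓSpecIso _).inv ≫ ((chart I a).appIso ⊤).inv

omit [IsDomain A] in
theorem bijective_chartRing (a : I) : Function.Bijective (chartRing I a).hom :=
  ConcreteCategory.bijective_of_isIso ((Scheme.ΓSpecIso _).inv ≫ ((chart I a).appIso ⊤).inv)

omit [IsDomain A] in
theorem chartRing_algebraMap (a : I) (c : A) :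
    (chartRing I a).hom (algebraMap A _ c) = strHom (toBase I) (chart I a ''ᵁ ⊤) c := by
  have h : CommRingCat.ofHom (algebraMap A (BlowUp.affineAlgebra A I (a : A))) ≫ chartRing I a =
      (Scheme.ΓSpecIso (CommRingCat.of A)).inv ≫ (toBase I).appLE ⊤ (chart I a ''ᵁ ⊤) le_top := by
    rw [chartRing, Scheme.ΓSpecIso_inv_naturality_assoc]
    congr 1
    rw [← cancel_mono ((chart I a).appIso ⊤).hom, Category.assoc, Iso.inv_hom_id, Category.comp_id,
      Scheme.Hom.appIso_hom', Scheme.Hom.appLE_comp_appLE]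
    simp only [chart_toBase]
    exact (Scheme.Hom.appLE_eq_app (Spec.map (CommRingCat.ofHom (algebraMap A (BlowUp.affineAlgebra A I (a : A)))))).symm
  exact ConcreteCategory.congr_hom h c

omit [IsDomain A] in
theorem strHom_res {V W : (localBlowUp I).Opens} (h : V ≤ W) (c : A) :
    (localBlowUp I).presheaf.map (homOfLE h).op (strHom (toBase I) W c) = strHom (toBase I) V c := by
  rw [strHom, strHom, ← Scheme.Hom.appLE_map (toBase I) le_top (homOfLE h).op, ← Category.assoc]
  rfl

theorem strHom_chart_ne_zero {y : I} (hy : (y : A) ≠ 0) :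
    strHom (toBase I) (chart I y ''ᵁ ⊤) y ≠ 0 := by
  rw [← chartRing_algebraMap]
  intro h
  have h0 : algebraMap A (BlowUp.affineAlgebra A I (y : A)) y = 0 :=
    (bijective_chartRing I y).1 (h.trans (map_zero _).symm)
  exact hy (IsLocalization.injective (Localization.Away (y : A))
    (powers_le_nonZeroDivisors_of_noZeroDivisors hy) ((congrArg Subtype.val h0).trans (map_zero _).symm))

omit [IsDomain A] in
/-- The overlap of two charts. -/
theorem chart_inter (a b : I) :
    (chart I b ''ᵁ ⊤) ⊓ (chart I a ''ᵁ ⊤) =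
      (localBlowUp I).basicOpen ((chartRing I b).hom (frac I a b)) := by
  have h1 : (chart I b) ⁻¹ᵁ (chart I a).opensRange = PrimeSpectrum.basicOpen (frac I a b) := by
    rw [opensRange_chart, chart, Scheme.Hom.comp_preimage,
      Proj.awayι_preimage_basicOpen (deg I) (gen_mem I b) Nat.one_pos (gen_mem I a) Nat.one_pos]
    refine Opens.ext (Set.ext fun p => ?_)
    have e : (awayHom I b).hom (HomogeneousLocalization.Away.isLocalizationElem (gen_mem I b) (gen_mem I a)) =
        frac I a b := by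
      refine Subtype.ext ?_
      have h : gen I a ^ 1 ∈ deg I (1 • 1) := by simpa using gen_mem I a
      show θ I b (HomogeneousLocalization.Away.mk (deg I) (gen_mem I b) 1 (gen I a ^ 1) h) = _
      rw [eq_comm]
      show IsLocalization.mk' (Localization.Away (b : A)) (a : A) _ = _
      rw [IsLocalization.mk'_eq_iff_eq_mul]
      have := θ_mk_mul I b 1 (gen I a ^ 1) h
      rw [map_pow (ev I), ev_gen, pow_one (a : A), pow_one (b : A)] at this
      exact this.symm
    show (awayHom I b).hom _ ∉ p.asIdeal ↔ frac I a b ∉ p.asIdeal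
    rw [e]
  have h2 := Scheme.image_basicOpen (chart I b) ((Scheme.ΓSpecIso _).inv.hom (frac I a b))
  refine Eq.trans ?_ h2
  have e : (Spec (CommRingCat.of (BlowUp.affineAlgebra A I (b : A)))).basicOpen
      ((Scheme.ΓSpecIso _).inv.hom (frac I a b)) = PrimeSpectrum.basicOpen (frac I a b) :=
    basicOpen_eq_of_affine _
  rw [e, ← h1, Scheme.Hom.image_top_eq_opensRange, Scheme.Hom.image_top_eq_opensRange,
    Scheme.Hom.image_preimage_eq_opensRange_inf]

omit [IsDomain A] in
theorem chart_sup (x y : I) (hI : I ≤ Ideal.span {(x : A), (y : A)}) :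
    (chart I y ''ᵁ ⊤) ⊔ (chart I x ''ᵁ ⊤) = ⊤ := by
  refine top_le_iff.1 fun z _ => ?_
  obtain ⟨a, p, rfl⟩ := chart_covers I z
  obtain ⟨c, d, hcd⟩ := Ideal.mem_span_pair.1 (hI a.2)
  rw [Scheme.Hom.image_top_eq_opensRange, Scheme.Hom.image_top_eq_opensRange]
  by_cases hx : frac I x a ∈ p.asIdeal
  · refine Or.inl (chart_overlap I y a fun hy => ?_)
    have hs : algebraMap A _ c * frac I x a + algebraMap A _ d * frac I y a = 1 := by
      refine Subtype.ext ?_
      have hu : IsUnit (algebraMap A (Localization.Away (a : A)) a) := IsLocalization.Away.algebraMap_isUnit _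
      refine hu.mul_left_inj.1 ?_
      show (algebraMap A _ c * IsLocalization.mk' _ (x : A) _ + algebraMap A _ d * IsLocalization.mk' _ (y : A) _) * _ = 1 * _
      rw [add_mul, mul_assoc, mul_assoc, IsLocalization.mk'_spec, IsLocalization.mk'_spec, one_mul, ← map_mul,
        ← map_mul, ← map_add, hcd]
    exact p.2.ne_top ((Ideal.eq_top_iff_one _).2 (hs ▸ add_mem (Ideal.mul_mem_left _ _ hx) (Ideal.mul_mem_left _ _ hy)))
  · exact Or.inr (chart_overlap I x a hx)

theorem irreducibleSpace_localBlowUp (x y : I) (hx : (x : A) ≠ 0) (hy : (y : A) ≠ 0)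
    (hI : I ≤ Ideal.span {(x : A), (y : A)}) : IrreducibleSpace (localBlowUp I) := by
  haveI : IsDomain (Localization.Away (x : A)) :=
    IsLocalization.isDomain_localization (powers_le_nonZeroDivisors_of_noZeroDivisors hx)
  haveI : IsDomain (Localization.Away (y : A)) :=
    IsLocalization.isDomain_localization (powers_le_nonZeroDivisors_of_noZeroDivisors hy)
  have hirr : ∀ a : I, IsDomain (BlowUp.affineAlgebra A I (a : A)) →
      IsIrreducible ((chart I a ''ᵁ ⊤ : (localBlowUp I).Opens) : Set (localBlowUp I)) := fun a h => by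
    have := (IrreducibleSpace.isIrreducible_univ
      (PrimeSpectrum (BlowUp.affineAlgebra A I (a : A)))).image (chart I a) (chart I a).continuous.continuousOn
    exact this
  have hU := hirr y inferInstance
  have hV := hirr x inferInstance
  have hne : (((chart I y ''ᵁ ⊤) ⊓ (chart I x ''ᵁ ⊤) : (localBlowUp I).Opens) : Set (localBlowUp I)).Nonempty := by
    rw [Scheme.Hom.image_top_eq_opensRange, Scheme.Hom.image_top_eq_opensRange]
    refine ⟨chart I y (⟨⊥, Ideal.isPrime_bot⟩ : PrimeSpectrum (BlowUp.affineAlgebra A I (y : A))), ⟨_, rfl⟩, chart_overlap I x y fun h => ?_⟩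
    have hz : frac I x y = 0 := h
    have := frac_mul I x y
    rw [hz, zero_mul] at this
    exact hx (IsLocalization.injective (Localization.Away (y : A))
      (powers_le_nonZeroDivisors_of_noZeroDivisors hy) ((congrArg Subtype.val this.symm).trans (map_zero _).symm))
  have hcov : ∀ z : localBlowUp I, z ∈ (chart I y ''ᵁ ⊤) ∨ z ∈ (chart I x ''ᵁ ⊤) := fun z =>
    (chart_sup I x y hI).ge (Set.mem_univ z)
  have hpre : PreirreducibleSpace (localBlowUp I) := by
    refine ⟨fun P Q hP hQ hP' hQ' => ?_⟩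
    obtain ⟨p, -, hp⟩ := hP'
    obtain ⟨q, -, hq⟩ := hQ'
    have meet : ∀ (O : Set (localBlowUp I)), IsOpen O → O.Nonempty →
        (((chart I y ''ᵁ ⊤ : (localBlowUp I).Opens) : Set (localBlowUp I)) ∩ O).Nonempty := by
      rintro O hO ⟨o, ho⟩
      rcases hcov o with h | h
      · exact ⟨o, h, ho⟩
      · obtain ⟨r, -, hr1, hr2⟩ := hV.2 _ O (chart I y ''ᵁ ⊤).2 hO
          (hne.mono fun r hr => ⟨hr.2, hr.1⟩) ⟨o, h, ho⟩
        exact ⟨r, hr1, hr2⟩
    obtain ⟨r, -, hr⟩ := hU.2 P Q hP hQ (meet P hP ⟨p, hp⟩) (meet Q hQ ⟨q, hq⟩)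
    exact ⟨r, trivial, hr⟩
  exact { toPreirreducibleSpace := hpre, toNonempty := ⟨hne.some⟩ }

/-- Functions on the overlap of the two charts split. -/
theorem exists_split_chart [IsIntegral (localBlowUp I)] (x y : I) (hx : (x : A) ≠ 0) (hy : (y : A) ≠ 0)
    (hI : I ≤ Ideal.span {(x : A), (y : A)})
    (r : Γ(localBlowUp I, (chart I y ''ᵁ ⊤) ⊓ (chart I x ''ᵁ ⊤))) :
    ∃ (a : Γ(localBlowUp I, chart I y ''ᵁ ⊤)) (b : Γ(localBlowUp I, chart I x ''ᵁ ⊤)),
      r = (localBlowUp I).presheaf.map (homOfLE inf_le_left).op a +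
        (localBlowUp I).presheaf.map (homOfLE inf_le_right).op b := by
  let U := chart I y ''ᵁ ⊤
  let V := chart I x ''ᵁ ⊤
  let f₁ : Γ(localBlowUp I, U) →+* Γ(localBlowUp I, U ⊓ V) := ((localBlowUp I).presheaf.map (homOfLE inf_le_left).op).hom
  let f₂ : Γ(localBlowUp I, V) →+* Γ(localBlowUp I, U ⊓ V) := ((localBlowUp I).presheaf.map (homOfLE inf_le_right).op).hom
  let B := BlowUp.affineAlgebra A I (y : A)
  let f : B →+* Γ(localBlowUp I, U ⊓ V) := f₁.comp (chartRing I y).hom
  let φ := strHom (toBase I) (U ⊓ V)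
  have hf : ∀ c, f (algebraMap A B c) = φ c := fun c => by
    show f₁ ((chartRing I y).hom _) = _
    rw [chartRing_algebraMap]
    exact strHom_res I _ c
  have hg : ∀ c, f₂ ((chartRing I x).hom (algebraMap A _ c)) = φ c := fun c => by
    rw [chartRing_algebraMap]
    exact strHom_res I _ c
  let w := f₂ ((chartRing I x).hom (frac I y x))
  let t := frac I x y
  have e1 : f t * φ y = φ x := by
    rw [← hf, ← hf, ← map_mul, frac_mul]
  have e2 : w * φ x = φ y := by
    show f₂ _ * φ x = φ y
    rw [← hg, ← hg, ← map_mul, ← map_mul, frac_mul]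
  haveI : Nonempty U := by
    obtain ⟨z, hz⟩ := (irreducibleSpace_localBlowUp I x y hx hy hI).toNonempty
    haveI : IsDomain (Localization.Away (y : A)) :=
      IsLocalization.isDomain_localization (powers_le_nonZeroDivisors_of_noZeroDivisors hy)
    exact ⟨⟨_, ⟨(⟨⊥, Ideal.isPrime_bot⟩ : PrimeSpectrum (BlowUp.affineAlgebra A I (y : A))), trivial, rfl⟩⟩⟩
  haveI : Nonempty (U ⊓ V : (localBlowUp I).Opens) := by
    obtain ⟨z, hz⟩ := nonempty_preirreducible_inter U.2 V.2 ⟨_, ‹Nonempty U›.some.2⟩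
      (haveI : IsDomain (Localization.Away (x : A)) :=
        IsLocalization.isDomain_localization (powers_le_nonZeroDivisors_of_noZeroDivisors hx)
       ⟨chart I x (⟨⊥, Ideal.isPrime_bot⟩ : PrimeSpectrum (BlowUp.affineAlgebra A I (x : A))), _, trivial, rfl⟩)
    exact ⟨⟨z, hz⟩⟩
  have hφy : φ y ≠ 0 := by
    rw [← hf]
    intro h
    refine strHom_chart_ne_zero I hy ((chartRing_algebraMap I y y).symm.trans ?_)
    exact map_injective_of_isIntegral (localBlowUp I) (homOfLE (inf_le_left : U ⊓ V ≤ U))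
      (h.trans (map_zero _).symm)
  have htw : f t * w = 1 := by
    refine mul_right_cancel₀ hφy ?_
    rw [one_mul]
    calc f t * w * φ y = w * (f t * φ y) := by ring
      _ = φ y := by rw [e1, e2]
  let G : Subring Γ(localBlowUp I, U ⊓ V) := f₂.range
  have hU : IsAffineOpen U := (isAffineOpen_top _).image_of_isOpenImmersion (chart I y)
  let s := (chartRing I y).hom t
  have hUV : U ⊓ V = (localBlowUp I).basicOpen s := chart_inter I x y
  letI : Algebra Γ(localBlowUp I, U) Γ(localBlowUp I, U ⊓ V) := f₁.toAlgebra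
  haveI : IsLocalization.Away s Γ(localBlowUp I, U ⊓ V) :=
    hU.isLocalization_of_eq_basicOpen s (homOfLE inf_le_left) hUV
  obtain ⟨n, a, ha⟩ := IsLocalization.Away.surj s r
  obtain ⟨m, rfl⟩ := (bijective_chartRing I y).2 a
  obtain ⟨b, g, ⟨g₀, rfl⟩, hb⟩ := exists_split f G (fun c => ⟨_, (hg c).trans (hf c).symm⟩) t w ⟨_, rfl⟩ htw
    (adjoin_frac_eq x y hI) m n
  refine ⟨(chartRing I y).hom b, g₀, ?_⟩
  refine Eq.trans ?_ hb
  change _ = f m * w ^ n
  have ha' : r * f t ^ n = f m := ha
  rw [← ha', mul_assoc, ← mul_pow, htw, one_pow, mul_one]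

end Groth.Agent.ResolveX
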