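import Mathlib

/-!
# The trace of higher differential forms along a `p`-th root extension in characteristic `p`

The trace is read off from the operators `(x, y) ↦ (w x, s x - w y)` on two copies of the forms
divisible by `da`, one for the part without `dx` and one for the coefficient of `dx`.
-/

noncomputable section

open Polynomial TensorProduct

namespace Groth.Agent.ResolveX.WedgeTrace

universe u

variable {p : ℕ} [Fact p.Prime] {Λ R : Type u} [CommRing Λ] [CommRing R] [Algebra Λ R]
  [CharP R p] (a : R)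

/-- The extension. -/
abbrev Sa (p : ℕ) (a : R) := AdjoinRoot (X ^ p - C a : R[X])

variable (Λ R p)

/-- Forms on the base, extended to the extension. -/
abbrev Forms := Sa p a ⊗[R] ExteriorAlgebra R (Ω[R⁄Λ])

/-- `1 ⊗ da`. -/
def ω : Forms p Λ R a := 1 ⊗ₜ ExteriorAlgebra.ι R (KaehlerDifferential.D Λ R a)

/-- Forms divisible by `da`. -/
abbrev Div : Submodule (Sa p a) (Forms p Λ R a) :=
  LinearMap.range (LinearMap.mulRight (Sa p a) (ω p Λ R a))

/-- Endomorphisms of pairs of divisible forms. -/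
abbrev Op := Module.End (Sa p a) (Div p Λ R a × Div p Λ R a)

variable {Λ R p}

/-- Left multiplication on divisible forms. -/
def mul : Forms p Λ R a →ₗ[Sa p a] Module.End (Sa p a) (Div p Λ R a) where
  toFun w :=
    { toFun := fun x => ⟨w * x.1, by
        obtain ⟨z, hz⟩ := x.2
        exact ⟨w * z, by rw [LinearMap.mulRight_apply, mul_assoc, ← hz]; rfl⟩⟩
      map_add' := fun x y => Subtype.ext (mul_add w x.1 y.1)
      map_smul' := fun c x => Subtype.ext (mul_smul_comm c w x.1) }
  map_add' v w := LinearMap.ext fun x => Subtype.ext (add_mul v w x.1)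
  map_smul' c w := LinearMap.ext fun x => Subtype.ext (smul_mul_assoc c w x.1)

omit [Fact p.Prime] [CharP R p] in
@[simp] theorem mul_coe (w : Forms p Λ R a) (x : Div p Λ R a) :
    ((mul a w x : Div p Λ R a) : Forms p Λ R a) = w * x := rfl

/-- One-forms on the base, extended. -/
def inc : Sa p a ⊗[R] Ω[R⁄Λ] →ₗ[Sa p a] Forms p Λ R a :=
  LinearMap.baseChange (Sa p a) (ExteriorAlgebra.ι R)

/-- The operator of a one-form `w + s dx`. -/
def op : (Sa p a ⊗[R] Ω[R⁄Λ]) × Sa p a →ₗ[Sa p a] Op p Λ R a where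
  toFun v :=
    { toFun := fun x => (mul a (inc a v.1) x.1, v.2 • x.1 - mul a (inc a v.1) x.2)
      map_add' := fun x y => by
        ext1 <;> simp only [Prod.fst_add, Prod.snd_add, map_add, smul_add] <;> abel
      map_smul' := fun c x => by
        ext1 <;> simp only [Prod.smul_fst, Prod.smul_snd, map_smul, RingHom.id_apply, smul_sub,
          smul_comm v.2 c] }
  map_add' v w := LinearMap.ext fun x => by
    ext1
    · simp [map_add]
    · simp [map_add, add_smul]; abel
  map_smul' c v := LinearMap.ext fun x => by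
    ext1
    · simp [map_smul]
    · simp [map_smul, smul_sub, smul_smul]

omit [Fact p.Prime] [CharP R p] in
theorem op_apply (v : (Sa p a ⊗[R] Ω[R⁄Λ]) × Sa p a) (x : Div p Λ R a × Div p Λ R a) :
    op a v x = (mul a (inc a v.1) x.1, v.2 • x.1 - mul a (inc a v.1) x.2) := rfl

omit [Fact p.Prime] [CharP R p] in
theorem inc_mul_self (w : Sa p a ⊗[R] Ω[R⁄Λ]) : inc a w * inc a w = 0 := by
  have anti : ∀ v w : Sa p a ⊗[R] Ω[R⁄Λ], inc a v * inc a w + inc a w * inc a v = 0 := by
    intro v w
    induction v using TensorProduct.induction_on with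
    | zero => simp
    | add v₁ v₂ h₁ h₂ =>
      rw [map_add, add_mul, mul_add]
      linear_combination (norm := abel) h₁ + h₂
    | tmul s η =>
      induction w using TensorProduct.induction_on with
      | zero => simp
      | add w₁ w₂ h₁ h₂ =>
        rw [map_add, add_mul, mul_add]
        linear_combination (norm := abel) h₁ + h₂
      | tmul s' η' =>
        simp only [inc, LinearMap.baseChange_tmul, Algebra.TensorProduct.tmul_mul_tmul]
        rw [mul_comm s' s, ← TensorProduct.tmul_add, ExteriorAlgebra.ι_add_mul_swap,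
          TensorProduct.tmul_zero]
  induction w using TensorProduct.induction_on with
  | zero => simp
  | add v w hv hw =>
    rw [map_add, add_mul, mul_add, mul_add, hv, hw, add_zero, zero_add, anti]
  | tmul s η => simp [inc, Algebra.TensorProduct.tmul_mul_tmul]

omit [Fact p.Prime] [CharP R p] in
theorem op_mul_self (v : (Sa p a ⊗[R] Ω[R⁄Λ]) × Sa p a) : op a v * op a v = 0 := by
  refine LinearMap.ext fun x => ?_
  have hz : ∀ y : Div p Λ R a, mul a (inc a v.1) (mul a (inc a v.1) y) = 0 := fun y =>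
    Subtype.ext (by simp [← mul_assoc, inc_mul_self])
  rw [Module.End.mul_apply, op_apply, op_apply]
  simp only [map_sub, map_smul, hz, LinearMap.zero_apply, sub_zero, sub_self]
  rfl

omit [Fact p.Prime] [CharP R p] in
theorem ι_mul_mul_ι (η : Ω[R⁄Λ]) (e : ExteriorAlgebra R (Ω[R⁄Λ])) :
    ExteriorAlgebra.ι R η * e * ExteriorAlgebra.ι R η = 0 := by
  suffices ∀ e, ExteriorAlgebra.ι R η * e =
      CliffordAlgebra.involute (Q := (0 : QuadraticForm R (Ω[R⁄Λ]))) e * ExteriorAlgebra.ι R η by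
    rw [this, mul_assoc, ExteriorAlgebra.ι_sq_zero, mul_zero]
  intro e
  induction e using ExteriorAlgebra.induction with
  | algebraMap r => rw [AlgHom.commutes, Algebra.commutes]
  | ι x =>
    erw [CliffordAlgebra.involute_ι]
    rw [neg_mul, eq_neg_iff_add_eq_zero]
    exact ExteriorAlgebra.ι_add_mul_swap η x
  | mul x y hx hy => rw [map_mul, ← mul_assoc, hx, mul_assoc, hy, mul_assoc]
  | add x y hx hy => rw [mul_add, map_add, add_mul, hx, hy]

omit [Fact p.Prime] [CharP R p] in
theorem op_da (c : Sa p a) : op a (c ⊗ₜ KaehlerDifferential.D Λ R a, 0) = 0 := by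
  have hz : ∀ y : Div p Λ R a, mul a (inc a (c ⊗ₜ KaehlerDifferential.D Λ R a)) y = 0 := fun y => by
    obtain ⟨z, hz⟩ := y.2
    refine Subtype.ext ?_
    rw [mul_coe, ← hz, LinearMap.mulRight_apply, ω, inc, LinearMap.baseChange_tmul]
    rw [Submodule.coe_zero]
    clear hz
    induction z using TensorProduct.induction_on with
    | zero => simp
    | add z₁ z₂ h₁ h₂ => rw [add_mul, mul_add, h₁, h₂, add_zero]
    | tmul s e =>
      rw [Algebra.TensorProduct.tmul_mul_tmul, Algebra.TensorProduct.tmul_mul_tmul, ← mul_assoc (ExteriorAlgebra.ι R _),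
        ι_mul_mul_ι, TensorProduct.tmul_zero]
  refine LinearMap.ext fun x => ?_
  rw [op_apply]
  simp [hz]

/-- Coefficientwise differential of a polynomial, evaluated at the root. -/
def dCoeff : R[X] →+ Sa p a ⊗[R] Ω[R⁄Λ] where
  toFun P := P.sum fun i c => (AdjoinRoot.root (X ^ p - C a) ^ i) ⊗ₜ KaehlerDifferential.D Λ R c
  map_zero' := Polynomial.sum_zero_index _
  map_add' P Q := Polynomial.sum_add_index P Q _ (fun i => by simp) fun i c d => by
    rw [map_add, TensorProduct.tmul_add]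

omit [Fact p.Prime] [CharP R p] in
theorem dCoeff_monomial (i : ℕ) (c : R) :
    (dCoeff a (monomial i c) : Sa p a ⊗[R] Ω[R⁄Λ]) =
      (AdjoinRoot.root (X ^ p - C a) ^ i) ⊗ₜ KaehlerDifferential.D Λ R c := by
  exact Polynomial.sum_monomial_index c
    (fun i c => (AdjoinRoot.root (X ^ p - C a) ^ i) ⊗ₜ[R] KaehlerDifferential.D Λ R c) (by simp)

omit [Fact p.Prime] [CharP R p] in
theorem dCoeff_C (c : R) :
    (dCoeff a (C c) : Sa p a ⊗[R] Ω[R⁄Λ]) = (1 : Sa p a) ⊗ₜ KaehlerDifferential.D Λ R c := by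
  have h : (dCoeff a (monomial 0 c) : Sa p a ⊗[R] Ω[R⁄Λ]) = _ := dCoeff_monomial a 0 c
  simpa using h

omit [Fact p.Prime] [CharP R p] in
theorem dCoeff_X_pow (i : ℕ) : (dCoeff a (X ^ i) : Sa p a ⊗[R] Ω[R⁄Λ]) = 0 := by
  have h : (dCoeff a (monomial i (1 : R)) : Sa p a ⊗[R] Ω[R⁄Λ]) = _ := dCoeff_monomial a i 1
  simpa [← C_mul_X_pow_eq_monomial] using h

omit [Fact p.Prime] [CharP R p] in
theorem dCoeff_X : (dCoeff a X : Sa p a ⊗[R] Ω[R⁄Λ]) = 0 := by
  have h : (dCoeff a (X ^ 1) : Sa p a ⊗[R] Ω[R⁄Λ]) = 0 := dCoeff_X_pow a 1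
  simpa using h

/-- The differential of a polynomial evaluated at the root. -/
def dPoly : R[X] →+ (Sa p a ⊗[R] Ω[R⁄Λ]) × Sa p a :=
  (dCoeff (p := p) (Λ := Λ) a).prod ((AdjoinRoot.mk (X ^ p - C a)).toAddMonoidHom.comp
    (Polynomial.derivative (R := R)).toAddMonoidHom)

omit [Fact p.Prime] [CharP R p] in
theorem dPoly_apply (P : R[X]) :
    (dPoly a P : (Sa p a ⊗[R] Ω[R⁄Λ]) × Sa p a) =
      (dCoeff a P, AdjoinRoot.mk (X ^ p - C a) (derivative P)) := rfl

omit [Fact p.Prime] [CharP R p] in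
theorem dPoly_mul (P Q : R[X]) :
    (dPoly a (P * Q) : (Sa p a ⊗[R] Ω[R⁄Λ]) × Sa p a) =
      AdjoinRoot.mk (X ^ p - C a) P • dPoly a Q + AdjoinRoot.mk (X ^ p - C a) Q • dPoly a P := by
  induction P using Polynomial.induction_on' with
  | add P₁ P₂ h₁ h₂ => rw [add_mul, map_add, h₁, h₂, map_add, map_add, add_smul, smul_add]; abel
  | monomial i c =>
    induction Q using Polynomial.induction_on' with
    | add Q₁ Q₂ h₁ h₂ => rw [mul_add, map_add, h₁, h₂, map_add, map_add, add_smul, smul_add]; abel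
    | monomial j d =>
      refine Prod.ext ?_ ?_
      · simp only [dPoly_apply, Prod.fst_add, Prod.smul_fst, monomial_mul_monomial, dCoeff_monomial,
          Derivation.leibniz, TensorProduct.tmul_add, TensorProduct.smul_tmul', TensorProduct.tmul_smul]
        simp only [← C_mul_X_pow_eq_monomial, map_mul, map_pow, AdjoinRoot.mk_C, AdjoinRoot.mk_X,
          smul_eq_mul, Algebra.smul_def, AdjoinRoot.algebraMap_eq, pow_add, mul_assoc]
        congr 2
        · ring
      · simp only [dPoly_apply, Prod.snd_add, Prod.smul_snd, derivative_mul, map_add, map_mul,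
          smul_eq_mul]
        ring

theorem monic_f : (X ^ p - C a : R[X]).Monic := monic_X_pow_sub_C a (Fact.out : p.Prime).ne_zero

theorem op_dPoly_dvd {P : R[X]} (h : (X ^ p - C a) ∣ P) :
    op (p := p) (Λ := Λ) a (dPoly (p := p) a P) = 0 := by
  obtain ⟨g, rfl⟩ := h
  rw [dPoly_mul, map_add, map_smul, map_smul, AdjoinRoot.mk_self, zero_smul, zero_add]
  have : (dPoly a (X ^ p - C a) : (Sa p a ⊗[R] Ω[R⁄Λ]) × Sa p a) =
      ((-1 : Sa p a) ⊗ₜ KaehlerDifferential.D Λ R a, 0) := by
    rw [dPoly_apply, map_sub (dCoeff a), dCoeff_X_pow, dCoeff_C, zero_sub, ← TensorProduct.neg_tmul]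
    simp [derivative_X_pow, CharP.cast_eq_zero]
  rw [this, op_da, smul_zero]

/-- The derivation defining the operators. -/
def der : Derivation Λ (Sa p a) (Op p Λ R a) :=
  Derivation.mk'
    { toFun := fun s => op a (dPoly a (AdjoinRoot.modByMonicHom (monic_f a) s))
      map_add' := fun s t => by simp only [map_add]
      map_smul' := fun l s => by
        have h1 : AdjoinRoot.modByMonicHom (monic_f a) (l • s) =
            C (algebraMap Λ R l) * AdjoinRoot.modByMonicHom (monic_f a) s := by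
          rw [← algebraMap_smul R l s, map_smul, Polynomial.smul_eq_C_mul]
        have h2 : (dPoly a (C (algebraMap Λ R l)) : (Sa p a ⊗[R] Ω[R⁄Λ]) × Sa p a) = 0 := by
          rw [dPoly_apply, dCoeff_C]
          simp
        rw [RingHom.id_apply, h1, dPoly_mul, h2, smul_zero, add_zero, map_smul, AdjoinRoot.mk_C,
          ← algebraMap_smul (Sa p a) l]
        congr 1 }
    fun s t => by
      change op a (dPoly a _) = s • op a (dPoly a _) + t • op a (dPoly a _)
      have hl := AdjoinRoot.mk_leftInverse (monic_f (p := p) a)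
      obtain ⟨g, hg⟩ : (X ^ p - C a) ∣
          AdjoinRoot.modByMonicHom (monic_f a) (s * t) -
            AdjoinRoot.modByMonicHom (monic_f a) s * AdjoinRoot.modByMonicHom (monic_f a) t := by
        rw [← AdjoinRoot.mk_eq_zero, map_sub (AdjoinRoot.mk _), map_mul (AdjoinRoot.mk _), hl, hl, hl,
          sub_self]
      rw [eq_add_of_sub_eq hg, map_add (dPoly a), map_add (op a), op_dPoly_dvd a (dvd_mul_right _ g),
        zero_add, dPoly_mul, map_add, map_smul, map_smul, hl, hl]

theorem der_mk (P : R[X]) :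
    der (Λ := Λ) a (AdjoinRoot.mk (X ^ p - C a) P) = op a (dPoly a P) := by
  change op a (dPoly a (AdjoinRoot.modByMonicHom (monic_f a) _)) = _
  rw [AdjoinRoot.modByMonicHom_mk]
  have h := modByMonic_add_div P (X ^ p - C a)
  rw [show P %ₘ (X ^ p - C a) = P + (X ^ p - C a) * (-(P /ₘ (X ^ p - C a))) by
      linear_combination h,
    map_add, map_add, op_dPoly_dvd a (dvd_mul_right _ _), add_zero]

/-- The operator of a one-form on the extension. -/
def K : Ω[Sa p a⁄Λ] →ₗ[Sa p a] Op p Λ R a :=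
  Derivation.liftKaehlerDifferential (M := Op p Λ R a) (der (Λ := Λ) a)

theorem K_D (s : Sa p a) : K (Λ := Λ) a (KaehlerDifferential.D Λ (Sa p a) s) = der a s :=
  by unfold K; exact Derivation.liftKaehlerDifferential_comp_D _ _

theorem K_mul_self (v : Ω[Sa p a⁄Λ]) : K (Λ := Λ) a v * K a v = 0 := by
  obtain ⟨w, hw⟩ : K (Λ := Λ) a v ∈ LinearMap.range (op (Λ := Λ) a) := by
    have : v ∈ Submodule.span (Sa p a) (Set.range (KaehlerDifferential.D Λ (Sa p a))) := by
      rw [KaehlerDifferential.span_range_derivation]; trivial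
    induction this using Submodule.span_induction with
    | mem x hx => obtain ⟨s, rfl⟩ := hx; exact ⟨_, (K_D a s).symm⟩
    | zero => simp
    | add x y _ _ hx hy => rw [map_add]; exact add_mem hx hy
    | smul c x _ hx => rw [map_smul]; exact Submodule.smul_mem _ c hx
  rw [← hw]; exact op_mul_self a w

theorem K_root :
    K (Λ := Λ) a (KaehlerDifferential.D Λ (Sa p a) (AdjoinRoot.root (X ^ p - C a))) =
      op a (0, 1) := by
  rw [K_D, ← AdjoinRoot.mk_X, der_mk, dPoly_apply, dCoeff_X]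
  simp

theorem K_base (η : Ω[R⁄Λ]) :
    K a (KaehlerDifferential.map Λ Λ R (Sa p a) η) = op a ((1 : Sa p a) ⊗ₜ η, 0) := by
  have : η ∈ Submodule.span R (Set.range (KaehlerDifferential.D Λ R)) := by
    rw [KaehlerDifferential.span_range_derivation]; trivial
  induction this using Submodule.span_induction with
  | mem x hx =>
    obtain ⟨r, rfl⟩ := hx
    rw [KaehlerDifferential.map_D, K_D, AdjoinRoot.algebraMap_eq, ← AdjoinRoot.mk_C, der_mk,
      dPoly_apply, dCoeff_C]
    simp
  | zero => simp [Prod.mk_zero_zero]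
  | add x y _ _ hx hy =>
    rw [map_add, map_add, hx, hy, ← map_add]; simp [TensorProduct.tmul_add]
  | smul c x _ hx =>
    rw [map_smul, ← algebraMap_smul (Sa p a) c, map_smul, hx, ← map_smul, Prod.smul_mk, smul_zero,
      TensorProduct.smul_tmul', smul_eq_mul, mul_one, TensorProduct.tmul_smul,
      TensorProduct.smul_tmul', Algebra.smul_def, mul_one]

/-- The starting pair `(da, 0)`. -/
def start : Div p Λ R a × Div p Λ R a := (⟨ω p Λ R a, 1, by simp⟩, 0)

/-- The coefficient of `x ^ (p - 1)`. -/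
def topCoeff : Sa p a →ₗ[R] R :=
  (Polynomial.lcoeff R (p - 1)).comp (AdjoinRoot.modByMonicHom (monic_f a))

/-- The trace on all degrees, before normalising the sign. -/
def trRaw : ExteriorAlgebra (Sa p a) (Ω[Sa p a⁄Λ]) →ₗ[R] ExteriorAlgebra R (Ω[R⁄Λ]) :=
  ((TensorProduct.lid R _).toLinearMap.comp
    (LinearMap.rTensor (ExteriorAlgebra R (Ω[R⁄Λ])) (topCoeff a))).comp
    (LinearMap.restrictScalars R
      ((Div p Λ R a).subtype.comp
        ((LinearMap.snd (Sa p a) _ _).comp
          ((LinearMap.applyₗ (start a)).comp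
            (ExteriorAlgebra.lift (Sa p a) ⟨K a, K_mul_self a⟩).toLinearMap))))

theorem trRaw_apply {n : ℕ} (v : Fin n → Ω[Sa p a⁄Λ]) :
    trRaw (Λ := Λ) a (ExteriorAlgebra.ιMulti (Sa p a) n v) =
      (TensorProduct.lid R _) (LinearMap.rTensor _ (topCoeff a)
        (((List.ofFn fun i => K a (v i)).prod (start a)).2 : Forms p Λ R a)) := by
  simp only [trRaw, LinearMap.comp_apply, LinearMap.coe_restrictScalars, AlgHom.toLinearMap_apply,
    ExteriorAlgebra.ιMulti_apply, map_list_prod, List.map_ofFn, LinearEquiv.coe_coe]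
  simp [Function.comp_def, LinearMap.applyₗ]

omit [Fact p.Prime] [CharP R p] in
theorem prod_op_base (n : ℕ) (η : Fin n → Ω[R⁄Λ]) (x : Div p Λ R a × Div p Λ R a) :
    ((((List.ofFn fun i => op a ((1 : Sa p a) ⊗ₜ η i, 0)).prod x).1 : Forms p Λ R a) =
        ((1 : Sa p a) ⊗ₜ[R] ExteriorAlgebra.ιMulti R n η) * (x.1 : Forms p Λ R a)) ∧
      (((List.ofFn fun i => op a ((1 : Sa p a) ⊗ₜ η i, 0)).prod x).2 : Forms p Λ R a) =
        (-1 : R) ^ n • (((1 : Sa p a) ⊗ₜ[R] ExteriorAlgebra.ιMulti R n η) * (x.2 : Forms p Λ R a)) := by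
  induction n with
  | zero => simp [← Algebra.TensorProduct.one_def]
  | succ n ih =>
    obtain ⟨h₁, h₂⟩ := ih fun i => η i.succ
    rw [List.ofFn_succ, List.prod_cons, Module.End.mul_apply, op_apply,
      ExteriorAlgebra.ιMulti_succ_apply]
    refine ⟨?_, ?_⟩
    · simp only [mul_coe, h₁, inc, LinearMap.baseChange_tmul, ← mul_assoc,
        Algebra.TensorProduct.tmul_mul_tmul, one_mul]
      rfl
    · simp only [Submodule.coe_sub, Submodule.coe_neg, NegMemClass.coe_neg, zero_smul, Submodule.coe_zero, zero_sub, mul_coe, h₂, inc,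
        LinearMap.baseChange_tmul, mul_smul_comm, ← mul_assoc,
        Algebra.TensorProduct.tmul_mul_tmul, one_mul, pow_succ, mul_neg, mul_one, neg_smul]
      rfl

theorem trRaw_snoc (t : ℕ) (η : Fin t → Ω[R⁄Λ]) (i : ℕ) (hi : i < p) :
    trRaw a (ExteriorAlgebra.ιMulti (Sa p a) (t + 1)
      (Fin.snoc (fun j => KaehlerDifferential.map Λ Λ R (Sa p a) (η j))
        (AdjoinRoot.root (X ^ p - C a) ^ i •
          KaehlerDifferential.D Λ (Sa p a) (AdjoinRoot.root (X ^ p - C a))))) =
      if i = p - 1 then (-1 : R) ^ t • ExteriorAlgebra.ιMulti R (t + 1)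
        (Fin.snoc η (KaehlerDifferential.D Λ R a)) else 0 := by
  rw [trRaw_apply, List.ofFn_succ']
  simp only [Fin.snoc_castSucc, Fin.snoc_last, List.prod_concat, Module.End.mul_apply, K_base]
  rw [(prod_op_base a t η _).2, map_smul, map_smul]
  have hs : (((K a (AdjoinRoot.root (X ^ p - C a) ^ i •
      KaehlerDifferential.D Λ (Sa p a) (AdjoinRoot.root (X ^ p - C a))) (start (Λ := Λ) a)).2 :
        Div p Λ R a) : Forms p Λ R a) =
      (AdjoinRoot.root (X ^ p - C a) ^ i) ⊗ₜ ExteriorAlgebra.ι R (KaehlerDifferential.D Λ R a) := by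
    rw [map_smul, K_root, LinearMap.smul_apply, op_apply]
    simp [start, ω, TensorProduct.smul_tmul']
  rw [hs, Algebra.TensorProduct.tmul_mul_tmul, one_mul, LinearMap.rTensor_tmul,
    TensorProduct.lid_tmul]
  have hc : topCoeff a (AdjoinRoot.root (X ^ p - C a) ^ i) = if i = p - 1 then 1 else 0 := by
    have : Nontrivial R := CharP.nontrivial_of_char_ne_one (Fact.out : p.Prime).ne_one
    have hd : (X ^ i : R[X]).degree < (X ^ p - C a : R[X]).degree := by
      rw [degree_X_pow, degree_X_pow_sub_C (Fact.out : p.Prime).pos]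
      exact_mod_cast hi
    rw [topCoeff, LinearMap.comp_apply, ← AdjoinRoot.mk_X, ← map_pow, AdjoinRoot.modByMonicHom_mk,
      (modByMonic_eq_self_iff (monic_f a)).mpr hd, lcoeff_apply, coeff_X_pow]
    exact if_congr eq_comm rfl rfl
  rw [hc]
  split_ifs with h
  · rw [one_smul, ExteriorAlgebra.ιMulti_apply, ExteriorAlgebra.ιMulti_apply, List.ofFn_succ']
    simp [List.prod_concat]
  · simp

theorem trRaw_base (n : ℕ) (s : Sa p a) (η : Fin n → Ω[R⁄Λ]) :
    trRaw a (s • ExteriorAlgebra.ιMulti (Sa p a) n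
      (fun j => KaehlerDifferential.map Λ Λ R (Sa p a) (η j))) = 0 := by
  have h2 : (((List.ofFn fun i => op a ((1 : Sa p a) ⊗ₜ η i, 0)).prod (start (Λ := Λ) a)).2 :
      Div p Λ R a) = 0 := by
    refine Subtype.ext ?_
    rw [(prod_op_base a n η _).2]
    simp [start]
  simp only [trRaw, LinearMap.comp_apply, LinearMap.coe_restrictScalars, map_smul,
    AlgHom.toLinearMap_apply, ExteriorAlgebra.ιMulti_apply, map_list_prod, List.map_ofFn]
  simp [Function.comp_def, LinearMap.applyₗ, K_base, h2]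

/-- The trace of forms of degree `t + 1`. -/
def tr (t : ℕ) : ⋀[Sa p a]^(t + 1) (Ω[Sa p a⁄Λ]) →+ ⋀[R]^(t + 1) (Ω[R⁄Λ]) :=
  (((-1 : R) ^ t • (DirectSum.component R ℕ (fun i => ⋀[R]^i (Ω[R⁄Λ])) (t + 1)).comp
      (DirectSum.decomposeLinearEquiv (fun i => ⋀[R]^i (Ω[R⁄Λ]))).toLinearMap).comp
    (trRaw (Λ := Λ) a)).toAddMonoidHom.comp
      (⋀[Sa p a]^(t + 1) (Ω[Sa p a⁄Λ])).subtype.toAddMonoidHom

end Groth.Agent.ResolveX.WedgeTrace
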